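import Groth.Agent.Lib.Helper96.CoalgChange

set_option autoImplicit false

universe u v v' w w'

open TensorProduct

namespace Groth.Agent.Lib.Helper96

section RangeLTensor

variable {k : Type u} [Field k] {C : Type v} [AddCommGroup C] [Module k C]
variable {D : Type v'} [AddCommGroup D] [Module k D]
variable {X : Type w} [AddCommGroup X] [Module k X]

/-- membership in `X ⊗ C ⊆ X ⊗ D` tested by forms vanishing on `C` -/
theorem mem_range_lTensor_iff (i : C →ₗ[k] D) (y : X ⊗[k] D) :
    y ∈ LinearMap.range (i.lTensor X) ↔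
      ∀ g : Module.Dual k D, g ∘ₗ i = 0 → slice X g y = 0 := by
  constructor
  · rintro ⟨z, rfl⟩ g hg
    rw [slice_lTensor, hg]
    induction z using TensorProduct.induction_on with
    | zero => simp
    | add x y hx hy => rw [map_add, hx, hy, add_zero]
    | tmul x c => simp
  · intro h
    have hex : Function.Exact (i.lTensor X) ((LinearMap.range i).mkQ.lTensor X) :=
      lTensor_exact X (LinearMap.exact_map_mkQ_range i) (Submodule.mkQ_surjective _)
    rw [LinearMap.mem_range]
    apply (hex y).mp
    apply eq_zero_of_slice_eq_zero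
    intro g
    rw [slice_lTensor]
    apply h
    apply LinearMap.ext
    intro c
    simp only [LinearMap.comp_apply, LinearMap.zero_apply, Submodule.mkQ_apply]
    have : (Submodule.Quotient.mk (i c) : D ⧸ LinearMap.range i) = 0 :=
      (Submodule.Quotient.mk_eq_zero _).mpr ⟨c, rfl⟩
    rw [this, map_zero]

end RangeLTensor

section Least

variable {k : Type u} [Field k] {C : Type v} [AddCommGroup C] [Module k C] [Coalgebra k C]
variable {D : Type v'} [AddCommGroup D] [Module k D] [Coalgebra k D]
variable {V : Type w} [AddCommGroup V] [Module k V]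

theorem admissible_iff (i : C →ₗ[k] D) (d : HopfRep.Comod k D V) (K : Submodule k V) :
    (∀ v : V, K.mkQ.rTensor D (d.coact v) ∈ LinearMap.range (i.lTensor (V ⧸ K))) ↔
      ∀ (v : V) (g : Module.Dual k D), g ∘ₗ i = 0 → slice V g (d.coact v) ∈ K := by
  constructor
  · intro h v g hg
    have := (mem_range_lTensor_iff i _).mp (h v) g hg
    rw [slice_rTensor] at this
    exact (Submodule.Quotient.mk_eq_zero K).mp this
  · intro h v
    rw [mem_range_lTensor_iff]
    intro g hg
    rw [slice_rTensor]
    exact (Submodule.Quotient.mk_eq_zero K).mpr (h v g hg)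

theorem exists_least_admissible (i : C →ₗ[k] D) (d : HopfRep.Comod k D V) :
    ∃ K : Submodule k V, IsSub d K ∧
      (∀ v : V, K.mkQ.rTensor D (d.coact v) ∈ LinearMap.range (i.lTensor (V ⧸ K))) ∧
      ∀ K' : Submodule k V, IsSub d K' →
        (∀ v : V, K'.mkQ.rTensor D (d.coact v) ∈ LinearMap.range (i.lTensor (V ⧸ K'))) →
          K ≤ K' := by
  let S : Set (Submodule k V) := {K | IsSub d K ∧
    ∀ v : V, K.mkQ.rTensor D (d.coact v) ∈ LinearMap.range (i.lTensor (V ⧸ K))}
  refine ⟨sInf S, isSub_sInf d (fun W hW => hW.1), ?_, fun K' h1 h2 => sInf_le ⟨h1, h2⟩⟩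
  rw [admissible_iff]
  intro v g hg
  rw [Submodule.mem_sInf]
  intro K hK
  exact (admissible_iff i d K).mp hK.2 v g hg

end Least

end Groth.Agent.Lib.Helper96
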