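import Groth.Agent.Lib.Helper96.Semisimple
import Mathlib.RingTheory.Finiteness.Basic
import Mathlib.Order.CompactlyGenerated.Basic

set_option autoImplicit false

universe u v w w' w''

open TensorProduct

namespace Groth.Agent.Lib.Helper96

section Isotypic

variable {k : Type u} [Field k] {A : Type v} [AddCommGroup A] [Module k A] [Coalgebra k A]

/-- finset version: a simple comodule mapping nontrivially into a finite sum of images of simple
comodules is isomorphic to one of them. -/
theorem exists_iso_of_le_finset_sup {ι : Type*}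
    (K : ι → Type w') [∀ i, AddCommGroup (K i)] [∀ i, Module k (K i)]
    (cK : ∀ i, HopfRep.Comod k A (K i))
    (hK : ∀ i, @HopfRep.IsSimpleComod k A _ _ _ _ (K i) _ _ (cK i))
    (S : Type w'') [AddCommGroup S] [Module k S] (cS : HopfRep.Comod k A S)
    (hS : @HopfRep.IsSimpleComod k A _ _ _ _ S _ _ cS) (t : Finset ι) :
    ∀ (V : Type w) [AddCommGroup V] [Module k V] (c : HopfRep.Comod k A V)
      (g : ∀ i, K i →ₗ[k] V) (_ : ∀ i, IsHom (cK i) c (g i))
      (f : S →ₗ[k] V) (_ : IsHom cS c f) (_ : f ≠ 0)
      (_ : LinearMap.range f ≤ ⨆ i ∈ t, LinearMap.range (g i)),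
      ∃ (i : ι) (e : S ≃ₗ[k] K i), IsHom cS (cK i) e.toLinearMap := by
  classical
  induction t using Finset.induction_on with
  | empty =>
    intro V _ _ c g hg f hf hf0 hle
    exfalso
    apply hf0
    apply LinearMap.ext
    intro s
    have : f s ∈ (⨆ i ∈ (∅ : Finset ι), LinearMap.range (g i)) := hle ⟨s, rfl⟩
    simp only [Finset.notMem_empty, iSup_false, iSup_bot, Submodule.mem_bot] at this
    rw [this, LinearMap.zero_apply]
  | insert a t' ha ih =>
    intro V _ _ c g hg f hf hf0 hle
    let W := LinearMap.range (g a)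
    have hW : IsSub c W := isSub_range (hg a)
    let π := W.mkQ
    let cQ := ComodSub.Comod.quot c W hW
    have hπ : IsHom c cQ π := ComodSub.isComodHom_mkQ c W hW
    by_cases hπf : π ∘ₗ f = 0
    · have hle' : LinearMap.range f ≤ LinearMap.range (g a) := by
        rintro _ ⟨s, rfl⟩
        have h0 : π (f s) = 0 := LinearMap.congr_fun hπf s
        exact (Submodule.Quotient.mk_eq_zero W).mp h0
      have hg0 : g a ≠ 0 := by
        intro h0
        apply hf0
        apply LinearMap.ext
        intro s
        have := hle' ⟨s, rfl⟩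
        rw [h0, LinearMap.range_zero, Submodule.mem_bot] at this
        rw [this, LinearMap.zero_apply]
      have hginj : Function.Injective (g a) :=
        (eq_zero_or_injective_of_isSimple (hK a) (hg a)).resolve_left hg0
      obtain ⟨h, hh, hgh⟩ := exists_isHom_lift (hg a) hginj hf hle'
      have hh0 : h ≠ 0 := by
        intro h0
        apply hf0
        rw [← hgh, h0, LinearMap.comp_zero]
      have hbij : Function.Bijective h := (schur hS (hK a) hh).resolve_left hh0
      refine ⟨a, LinearEquiv.ofBijective h hbij, ?_⟩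
      have : (LinearEquiv.ofBijective h hbij).toLinearMap = h := by
        ext x; rfl
      rw [this]
      exact hh
    · have hle' : LinearMap.range (π ∘ₗ f) ≤ ⨆ i ∈ t', LinearMap.range (π ∘ₗ g i) := by
        rw [LinearMap.range_comp]
        have h1 : Submodule.map π (LinearMap.range f) ≤
            Submodule.map π (⨆ i ∈ insert a t', LinearMap.range (g i)) := Submodule.map_mono hle
        refine h1.trans ?_
        rw [Finset.iSup_insert, Submodule.map_sup]
        have h2 : Submodule.map π (LinearMap.range (g a)) = ⊥ := by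
          rw [eq_bot_iff]
          rintro _ ⟨x, hx, rfl⟩
          rw [Submodule.mem_bot]
          exact (Submodule.Quotient.mk_eq_zero W).mpr hx
        rw [h2, bot_sup_eq, Submodule.map_iSup]
        apply iSup_le
        intro i
        rw [Submodule.map_iSup]
        apply iSup_le
        intro hi
        rw [← LinearMap.range_comp]
        exact le_iSup₂_of_le i hi le_rfl
      exact ih (V ⧸ W) cQ (fun i => π ∘ₗ g i) (fun i => isHom_comp (hg i) hπ) (π ∘ₗ f)
        (isHom_comp hf hπ) hπf hle'

/-- a simple comodule mapping nontrivially into a sum of images of simple comodules is isomorphic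
to one of them. -/
theorem exists_iso_of_le_iSup {ι : Type*}
    (K : ι → Type w') [∀ i, AddCommGroup (K i)] [∀ i, Module k (K i)]
    (cK : ∀ i, HopfRep.Comod k A (K i))
    (hK : ∀ i, @HopfRep.IsSimpleComod k A _ _ _ _ (K i) _ _ (cK i))
    (S : Type w'') [AddCommGroup S] [Module k S] (cS : HopfRep.Comod k A S)
    (hS : @HopfRep.IsSimpleComod k A _ _ _ _ S _ _ cS)
    (V : Type w) [AddCommGroup V] [Module k V] (c : HopfRep.Comod k A V)
    (g : ∀ i, K i →ₗ[k] V) (hg : ∀ i, IsHom (cK i) c (g i))
    (f : S →ₗ[k] V) (hf : IsHom cS c f) (hf0 : f ≠ 0)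
    (hle : LinearMap.range f ≤ ⨆ i, LinearMap.range (g i)) :
    ∃ (i : ι) (e : S ≃ₗ[k] K i), IsHom cS (cK i) e.toLinearMap := by
  haveI := finite_of_isSimple cS hS
  have hfg : (LinearMap.range f).FG := by
    rw [LinearMap.range_eq_map]
    exact Submodule.FG.map f Module.Finite.fg_top
  have hcomp := (Submodule.fg_iff_compact _).mp hfg
  obtain ⟨t, ht⟩ := CompleteLattice.IsCompactElement.exists_finset_of_le_iSup _ hcomp _ hle
  exact exists_iso_of_le_finset_sup K cK hK S cS hS t V c g hg f hf hf0 ht

end Isotypic

end Groth.Agent.Lib.Helper96
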