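import Groth.Agent.Lib.Helper96.Semisimple
import Groth.Prelude.Def_ComodTens
import Mathlib.RingTheory.HopfAlgebra.Basic

set_option autoImplicit false

universe u v w w'

open TensorProduct

namespace Groth.Agent.Lib.Helper96

/-! ### Frobenius reciprocity for the induced comodule, over a commutative ring -/
section Frobenius

variable {k : Type u} [CommRing k] {A : Type v} [AddCommGroup A] [Module k A] [Coalgebra k A]
variable {M : Type w} [AddCommGroup M] [Module k M]
variable {P : Type w'} [AddCommGroup P] [Module k P]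

/-- the induced comodule structure, on the plain tensor product -/
@[reducible] noncomputable def indComod (k : Type u) [CommRing k] (A : Type v) [AddCommGroup A]
    [Module k A] [Coalgebra k A] (P : Type w') [AddCommGroup P] [Module k P] :
    HopfRep.Comod k A (P ⊗[k] A) :=
  Hoch.Ind.comod k A P

theorem indComod_coact_tmul (p : P) (a : A) :
    (indComod k A P).coact (p ⊗ₜ[k] a) =
      (TensorProduct.assoc k P A A).symm (p ⊗ₜ[k] Coalgebra.comul (R := k) a) := rfl

theorem indComod_coact (x : P ⊗[k] A) :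
    (indComod k A P).coact x =
      (TensorProduct.assoc k P A A).symm ((Coalgebra.comul (R := k) (A := A)).lTensor P x) := rfl

/-- Frobenius lift of a linear map `M → P` to `M → P ⊗ A` -/
noncomputable def frobLift (m : HopfRep.Comod k A M) (φ : M →ₗ[k] P) : M →ₗ[k] P ⊗[k] A :=
  φ.rTensor A ∘ₗ m.coact

theorem frobLift_apply (m : HopfRep.Comod k A M) (φ : M →ₗ[k] P) (x : M) :
    frobLift m φ x = φ.rTensor A (m.coact x) := rfl

theorem assoc_symm_rTensor (f : M →ₗ[k] P) (y : M ⊗[k] (A ⊗[k] A)) :
    (TensorProduct.assoc k P A A).symm (f.rTensor (A ⊗[k] A) y) =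
      (f.rTensor A).rTensor A ((TensorProduct.assoc k M A A).symm y) := by
  induction y using TensorProduct.induction_on with
  | zero => simp
  | add x y hx hy => simp only [map_add, hx, hy]
  | tmul m z =>
    induction z using TensorProduct.induction_on with
    | zero => simp
    | add x y hx hy => simp only [TensorProduct.tmul_add, map_add, hx, hy]
    | tmul a b => simp

theorem isHom_frobLift (m : HopfRep.Comod k A M) (φ : M →ₗ[k] P) :
    @Hoch.IsComodHom k _ A _ _ _ M _ _ m (P ⊗[k] A) _ _ (indComod k A P) (frobLift m φ) := by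
  apply LinearMap.ext
  intro x
  show (indComod k A P).coact (frobLift m φ x) = (frobLift m φ).rTensor A (m.coact x)
  rw [indComod_coact, frobLift_apply, ComodTens.lTensor_rTensor_comm]
  have hc := LinearMap.congr_fun m.coassoc x
  simp only [LinearMap.coe_comp, Function.comp_apply, LinearEquiv.coe_coe] at hc
  rw [← hc, assoc_symm_rTensor, LinearEquiv.symm_apply_apply, frobLift, LinearMap.rTensor_comp]
  rfl

end Frobenius

/-! ### Twisting maps `v ⊗ a ↦ Σ v₀ ⊗ g(v₁, a)` -/
section Twist

variable {k : Type u} [CommRing k] {A : Type v} [AddCommGroup A] [Module k A] [Coalgebra k A]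
variable {V : Type w} [AddCommGroup V] [Module k V]

/-- `v ⊗ a ↦ Σ v₀ ⊗ g(v₁, a)` -/
noncomputable def tw (c : HopfRep.Comod k A V) (g : A →ₗ[k] A →ₗ[k] A) :
    V ⊗[k] A →ₗ[k] V ⊗[k] A :=
  TensorProduct.lift (((LinearMap.lTensorHom V ∘ₗ g.flip).flip) ∘ₗ c.coact)

theorem tw_tmul (c : HopfRep.Comod k A V) (g : A →ₗ[k] A →ₗ[k] A) (v : V) (a : A) :
    tw c g (v ⊗ₜ[k] a) = (g.flip a).lTensor V (c.coact v) := by
  simp [tw]

theorem lTensor_flip_eq (g : A →ₗ[k] A →ₗ[k] A) (f : A →ₗ[k] A) (b : A) (z : V ⊗[k] A) :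
    (g.flip (f b)).lTensor V z =
      (TensorProduct.lift (g.compl₂ f)).lTensor V (TensorProduct.assoc k V A A (z ⊗ₜ[k] b)) := by
  induction z using TensorProduct.induction_on with
  | zero => simp
  | add x y hx hy => simp only [map_add, TensorProduct.add_tmul, hx, hy]
  | tmul x b' => simp

theorem tw_lTensor (c : HopfRep.Comod k A V) (g : A →ₗ[k] A →ₗ[k] A) (f : A →ₗ[k] A)
    (y : V ⊗[k] A) :
    tw c g (f.lTensor V y) =
      (TensorProduct.lift (g.compl₂ f)).lTensor V
        (TensorProduct.assoc k V A A (c.coact.rTensor A y)) := by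
  induction y using TensorProduct.induction_on with
  | zero => simp
  | add x y hx hy => simp only [map_add, hx, hy]
  | tmul x b =>
    rw [LinearMap.lTensor_tmul, tw_tmul, LinearMap.rTensor_tmul, lTensor_flip_eq]

/-- composition of twists, via coassociativity -/
theorem tw_tw (c : HopfRep.Comod k A V) (g h : A →ₗ[k] A →ₗ[k] A) (v : V) (a : A) :
    tw c g (tw c h (v ⊗ₜ[k] a)) =
      ((TensorProduct.lift (g.compl₂ (h.flip a))) ∘ₗ
        (Coalgebra.comul (R := k) (A := A))).lTensor V (c.coact v) := by
  rw [tw_tmul, tw_lTensor]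
  have hc := LinearMap.congr_fun c.coassoc v
  simp only [LinearMap.coe_comp, Function.comp_apply, LinearEquiv.coe_coe] at hc
  rw [hc, LinearMap.lTensor_comp]
  rfl

theorem lTensor_counit_coact (c : HopfRep.Comod k A V) (v : V) :
    (Coalgebra.counit (R := k) (A := A)).lTensor V (c.coact v) = v ⊗ₜ[k] (1 : k) := by
  have := LinearMap.congr_fun c.counit_comp v
  simpa using this

/-- if `Σ g(b₁, h(b₂, a)) = ε(b) a` then `tw g ∘ tw h = id` -/
theorem tw_tw_eq_self (c : HopfRep.Comod k A V) (g h : A →ₗ[k] A →ₗ[k] A)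
    (hgh : ∀ a : A, (TensorProduct.lift (g.compl₂ (h.flip a))) ∘ₗ
        (Coalgebra.comul (R := k) (A := A)) =
      (LinearMap.toSpanSingleton k A a) ∘ₗ (Coalgebra.counit (R := k) (A := A)))
    (x : V ⊗[k] A) : tw c g (tw c h x) = x := by
  induction x using TensorProduct.induction_on with
  | zero => simp
  | add x y hx hy => simp only [map_add, hx, hy]
  | tmul v a =>
    rw [tw_tw, hgh, LinearMap.lTensor_comp, LinearMap.comp_apply, lTensor_counit_coact]
    simp

end Twist

/-! ### The untwisting isomorphism for a Hopf algebra -/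
section Hopf

variable {k : Type u} [CommRing k] {A : Type v} [CommRing A] [HopfAlgebra k A]
variable {V : Type w} [AddCommGroup V] [Module k V]

/-- `b ↦ a ↦ S b * a` -/
noncomputable def mulS (k : Type u) [CommRing k] (A : Type v) [CommRing A] [HopfAlgebra k A] :
    A →ₗ[k] A →ₗ[k] A :=
  LinearMap.mul k A ∘ₗ HopfAlgebra.antipode k

theorem mulS_apply (b a : A) : mulS k A b a = HopfAlgebra.antipode k b * a := rfl

/-- `θ (v ⊗ a) = Σ v₀ ⊗ v₁ a` -/
noncomputable def theta (c : HopfRep.Comod k A V) : V ⊗[k] A →ₗ[k] V ⊗[k] A :=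
  tw c (LinearMap.mul k A)

/-- `θ' (v ⊗ a) = Σ v₀ ⊗ S(v₁) a` -/
noncomputable def theta' (c : HopfRep.Comod k A V) : V ⊗[k] A →ₗ[k] V ⊗[k] A :=
  tw c (mulS k A)

theorem theta_tmul (c : HopfRep.Comod k A V) (v : V) (a : A) :
    theta c (v ⊗ₜ[k] a) = (LinearMap.mulRight k a).lTensor V (c.coact v) := by
  rw [theta, tw_tmul]
  congr 1

theorem theta_tmul_one (c : HopfRep.Comod k A V) (v : V) :
    theta c (v ⊗ₜ[k] (1 : A)) = c.coact v := by
  rw [theta_tmul]
  have : LinearMap.mulRight k (1 : A) = LinearMap.id := by ext; simp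
  rw [this, LinearMap.lTensor_id, LinearMap.id_apply]

theorem theta_theta' (c : HopfRep.Comod k A V) (x : V ⊗[k] A) : theta c (theta' c x) = x := by
  apply tw_tw_eq_self
  intro a
  apply LinearMap.ext
  intro b
  have h := HopfAlgebra.mul_antipode_lTensor_comul_apply (R := k) b
  have key : ∀ z : A ⊗[k] A,
      TensorProduct.lift ((LinearMap.mul k A).compl₂ ((mulS k A).flip a)) z =
        LinearMap.mul' k A ((HopfAlgebra.antipode k).lTensor A z) * a := by
    intro z
    induction z using TensorProduct.induction_on with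
    | zero => simp
    | add x y hx hy => simp only [map_add, hx, hy, add_mul]
    | tmul x y => simp [mulS_apply, mul_assoc]
  rw [LinearMap.comp_apply, key, h, LinearMap.comp_apply, LinearMap.toSpanSingleton_apply,
    Algebra.smul_def]

theorem theta'_theta (c : HopfRep.Comod k A V) (x : V ⊗[k] A) : theta' c (theta c x) = x := by
  apply tw_tw_eq_self
  intro a
  apply LinearMap.ext
  intro b
  have h := HopfAlgebra.mul_antipode_rTensor_comul_apply (R := k) b
  have key : ∀ z : A ⊗[k] A,
      TensorProduct.lift ((mulS k A).compl₂ ((LinearMap.mul k A).flip a)) z =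
        LinearMap.mul' k A ((HopfAlgebra.antipode k).rTensor A z) * a := by
    intro z
    induction z using TensorProduct.induction_on with
    | zero => simp
    | add x y hx hy => simp only [map_add, hx, hy, add_mul]
    | tmul x y => simp [mulS_apply, mul_assoc, mul_comm a y]
  rw [LinearMap.comp_apply, key, h, LinearMap.comp_apply, LinearMap.toSpanSingleton_apply,
    Algebra.smul_def]

/-- the untwisting isomorphism -/
noncomputable def thetaEquiv (c : HopfRep.Comod k A V) : (V ⊗[k] A) ≃ₗ[k] (V ⊗[k] A) :=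
  LinearEquiv.ofLinearMap (theta c) (theta' c)
    (LinearMap.ext (theta_theta' c)) (LinearMap.ext (theta'_theta c))

theorem theta'_coact (c : HopfRep.Comod k A V) (v : V) :
    theta' c (c.coact v) = v ⊗ₜ[k] (1 : A) := by
  rw [← theta_tmul_one, theta'_theta]

end Hopf

/-! ### The diagonal comodule `V ⊗ A` -/
section Diag

variable {k : Type u} [CommRing k] {A : Type v} [CommRing A] [Bialgebra k A]
variable {V : Type w} [AddCommGroup V] [Module k V]

/-- the diagonal comodule structure on `V ⊗ A` -/
@[reducible] noncomputable def diagComod (c : HopfRep.Comod k A V) : HopfRep.Comod k A (V ⊗[k] A) :=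
  ComodTens.Comod.tensor c (HopfRep.Comod.regular k A)

/-- `a' ⊗ a'' ↦ g(a') a''` -/
noncomputable def lsl (g : A →ₗ[k] k) : A ⊗[k] A →ₗ[k] A :=
  (TensorProduct.lid k A).toLinearMap ∘ₗ g.rTensor A

theorem lsl_tmul (g : A →ₗ[k] k) (a b : A) : lsl g (a ⊗ₜ[k] b) = g a • b := by
  simp [lsl]

theorem slice_rTensor_diag_aux (g : A →ₗ[k] k) (y : V ⊗[k] A) (z : A ⊗[k] A) :
    (slice V g).rTensor A (TensorProduct.map LinearMap.id (LinearMap.mul' k A)
      (AlgebraTensorModule.tensorTensorTensorComm k k k k V A A A (y ⊗ₜ[k] z))) =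
      (LinearMap.mulRight k (lsl g z)).lTensor V y := by
  induction y using TensorProduct.induction_on with
  | zero => simp
  | add x y hx hy => simp only [TensorProduct.add_tmul, map_add, hx, hy]
  | tmul x b =>
    induction z using TensorProduct.induction_on with
    | zero => simp
    | add z z' hz hz' =>
      simp only [TensorProduct.tmul_add, map_add, hz, hz']
      rw [← LinearMap.add_apply, ← LinearMap.lTensor_add]
      congr 2
      ext t
      simp [mul_add]
    | tmul a' a'' =>
      simp [lsl_tmul, TensorProduct.smul_tmul]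

theorem slice_rTensor_diag (c : HopfRep.Comod k A V) (g : A →ₗ[k] k) (v : V) (a : A) :
    (slice V g).rTensor A ((diagComod c).coact (v ⊗ₜ[k] a)) =
      (LinearMap.mulRight k (lsl g (Coalgebra.comul (R := k) a))).lTensor V (c.coact v) := by
  rw [ComodTens.tensor_coact_tmul]
  exact slice_rTensor_diag_aux g _ _

end Diag

/-! ### Total integrals -/
section Integral

variable {k : Type u} [Field k] {A : Type v} [CommRing A] [HopfAlgebra k A]
variable {V : Type w} [AddCommGroup V] [Module k V]

theorem isHom_theta (c : HopfRep.Comod k A V) :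
    IsHom (diagComod c) (indComod k A V) (theta c) := by
  have h : frobLift (diagComod c) (slice V (Coalgebra.counit (R := k) (A := A))) = theta c := by
    apply TensorProduct.ext'
    intro v a
    rw [frobLift_apply, slice_rTensor_diag, theta_tmul]
    congr 2
    have := Coalgebra.rTensor_counit_comul (R := k) a
    simp [lsl, this]
  rw [← h]
  exact isHom_frobLift _ _

theorem isHom_theta' (c : HopfRep.Comod k A V) :
    IsHom (indComod k A V) (diagComod c) (theta' c) :=
  isHom_symm (thetaEquiv c) (isHom_theta c)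

/-- a total integral: comodule map `A → k` (trivial structure) -/
theorem lsl_integral (α : A →ₗ[k] k)
    (hα : @Hoch.IsComodHom k _ A _ _ _ A _ _ _ k _ _ (HopfRep.Comod.trivial k A k) α) (a : A) :
    lsl α (Coalgebra.comul (R := k) a) = α a • (1 : A) := by
  have h := LinearMap.congr_fun hα a
  have h2 : (HopfRep.Comod.trivial k A k).coact (α a) = α.rTensor A (Coalgebra.comul (R := k) a) := h
  have h3 : (HopfRep.Comod.trivial k A k).coact (α a) = α a ⊗ₜ[k] (1 : A) := rfl
  rw [lsl, LinearMap.comp_apply, ← h2, h3]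
  simp

theorem isHom_slice_integral (c : HopfRep.Comod k A V) (α : A →ₗ[k] k)
    (hα : @Hoch.IsComodHom k _ A _ _ _ A _ _ _ k _ _ (HopfRep.Comod.trivial k A k) α) :
    IsHom (diagComod c) c (slice V α) := by
  apply TensorProduct.ext'
  intro v a
  show c.coact (slice V α (v ⊗ₜ[k] a)) = (slice V α).rTensor A ((diagComod c).coact (v ⊗ₜ[k] a))
  rw [slice_rTensor_diag, lsl_integral α hα, slice_tmul, map_smul]
  have : LinearMap.mulRight k (α a • (1 : A)) = α a • LinearMap.id := by
    ext; simp
  rw [this, LinearMap.lTensor_smul, LinearMap.lTensor_id, LinearMap.smul_apply, LinearMap.id_apply]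

/-- the retraction of the coaction given by a total integral -/
noncomputable def retr (c : HopfRep.Comod k A V) (α : A →ₗ[k] k) : V ⊗[k] A →ₗ[k] V :=
  slice V α ∘ₗ theta' c

theorem isHom_retr (c : HopfRep.Comod k A V) (α : A →ₗ[k] k)
    (hα : @Hoch.IsComodHom k _ A _ _ _ A _ _ _ k _ _ (HopfRep.Comod.trivial k A k) α) :
    IsHom (indComod k A V) c (retr c α) :=
  isHom_comp (isHom_theta' c) (isHom_slice_integral c α hα)

theorem retr_coact (c : HopfRep.Comod k A V) (α : A →ₗ[k] k) (h1 : α 1 = 1) (v : V) :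
    retr c α (c.coact v) = v := by
  rw [retr, LinearMap.comp_apply, theta'_coact, slice_tmul, h1, one_smul]

/-- averaging a linear map to a comodule map -/
theorem exists_isHom_of_linear {W : Type w'} [AddCommGroup W] [Module k W]
    (c : HopfRep.Comod k A V) (d : HopfRep.Comod k A W) (α : A →ₗ[k] k)
    (hα : @Hoch.IsComodHom k _ A _ _ _ A _ _ _ k _ _ (HopfRep.Comod.trivial k A k) α)
    (h1 : α 1 = 1) (p : V →ₗ[k] W) :
    ∃ q : V →ₗ[k] W, IsHom c d q ∧
      ∀ (i : W →ₗ[k] V), IsHom d c i → p ∘ₗ i = LinearMap.id → q ∘ₗ i = LinearMap.id := by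
  refine ⟨retr d α ∘ₗ frobLift c p, isHom_comp (isHom_frobLift c p) (isHom_retr d α hα), ?_⟩
  intro i hi hpi
  apply LinearMap.ext
  intro w
  rw [LinearMap.comp_apply, LinearMap.comp_apply, frobLift_apply, isHom_apply hi,
    ← LinearMap.comp_apply (p.rTensor A), ← LinearMap.rTensor_comp, hpi, LinearMap.rTensor_id,
    LinearMap.id_apply, retr_coact d α h1, LinearMap.id_apply]

/-- a total integral makes every comodule semisimple -/
theorem isSS_of_integral (c : HopfRep.Comod k A V) (α : A →ₗ[k] k)
    (hα : @Hoch.IsComodHom k _ A _ _ _ A _ _ _ k _ _ (HopfRep.Comod.trivial k A k) α)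
    (h1 : α 1 = 1) : IsSS c := by
  intro W hW
  obtain ⟨p, hp⟩ := LinearMap.exists_leftInverse_of_injective W.subtype
    (LinearMap.ker_eq_bot.mpr W.injective_subtype)
  obtain ⟨q, hq, hqi⟩ := exists_isHom_of_linear c (ComodSub.Comod.restr c W hW) α hα h1 p
  have hqi' := hqi W.subtype (ComodSub.isComodHom_subtype c W hW) hp
  refine ⟨LinearMap.ker q, isSub_ker hq, ?_⟩
  have := LinearMap.isCompl_of_proj (f := q) (fun x => LinearMap.congr_fun hqi' x)
  exact this

end Integral

end Groth.Agent.Lib.Helper96
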