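import Groth.Agent.Lib.Helper96.Zorn
import Groth.Agent.Lib.Helper96.Integral

set_option autoImplicit false

universe u v w w'

open TensorProduct

namespace Groth.Agent.Lib.Helper96

section LocSS

variable {k : Type u} [Field k] {A : Type v} [AddCommGroup A] [Module k A] [Coalgebra k A]
variable {V : Type w} [AddCommGroup V] [Module k V]

/-- a minimal subcomodule of a subcomodule is a minimal subcomodule of the ambient comodule -/
theorem isMinSub_map_subtype (c : HopfRep.Comod k A V) (W : Submodule k V) (hW : IsSub c W)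
    (U : Submodule k W) (hU : IsMinSub (ComodSub.Comod.restr c W hW) U) :
    IsMinSub c (U.map W.subtype) := by
  have hι := ComodSub.isComodHom_subtype c W hW
  refine ⟨isSub_map hι hU.1, ?_, ?_⟩
  · intro h0
    apply hU.2.1
    apply Submodule.map_injective_of_injective W.injective_subtype
    rw [h0, Submodule.map_bot]
  · intro W' hW' hle
    have hcomap : IsSub (ComodSub.Comod.restr c W hW) (W'.comap W.subtype) := isSub_comap hι hW'
    have hle' : W'.comap W.subtype ≤ U := by
      intro x hx
      obtain ⟨y, hy, hyx⟩ := hle hx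
      have : y = x := Subtype.ext hyx
      rwa [← this]
    have hmap : (W'.comap W.subtype).map W.subtype = W' := by
      rw [Submodule.map_comap_subtype]
      apply inf_eq_right.mpr
      intro x hx
      obtain ⟨y, -, rfl⟩ := hle hx
      exact y.2
    rcases hU.2.2 _ hcomap hle' with h0 | h1
    · left
      rw [← hmap, h0, Submodule.map_bot]
    · right
      rw [← hmap, h1]

/-- a comodule whose finite dimensional subcomodules are all semisimple is semisimple -/
theorem isSS_of_forall_finite (c : HopfRep.Comod k A V)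
    (h : ∀ (W : Submodule k V) (hW : IsSub c W), Module.Finite k W →
      IsSS (ComodSub.Comod.restr c W hW)) : IsSS c := by
  apply isSS_of_sum_minimal c (fun W : {W : Submodule k V // IsMinSub c W} => W.1) (fun W => W.2)
  rw [eq_top_iff]
  intro v _
  have hW := isSub_orbit c v
  have hss := h (orbit c v) hW (finite_orbit c v)
  have htop := iSup_isMinSub_eq_top _ hss
  have hv : (⟨v, mem_orbit_self c v⟩ : orbit c v) ∈
      (⨆ U : {U : Submodule k (orbit c v) // IsMinSub (ComodSub.Comod.restr c _ hW) U},
        (U.1 : Submodule k (orbit c v))) := by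
    rw [htop]; trivial
  have hv' : v ∈ Submodule.map (orbit c v).subtype
      (⨆ U : {U : Submodule k (orbit c v) // IsMinSub (ComodSub.Comod.restr c _ hW) U},
        (U.1 : Submodule k (orbit c v))) := ⟨_, hv, rfl⟩
  rw [Submodule.map_iSup] at hv'
  have hle : (⨆ U : {U : Submodule k (orbit c v) // IsMinSub (ComodSub.Comod.restr c _ hW) U},
      Submodule.map (orbit c v).subtype (U.1 : Submodule k (orbit c v))) ≤
      ⨆ W : {W : Submodule k V // IsMinSub c W}, W.1 := by
    apply iSup_le
    intro U
    exact le_iSup (fun W : {W : Submodule k V // IsMinSub c W} => W.1)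
      ⟨U.1.map (orbit c v).subtype, isMinSub_map_subtype c _ hW U.1 U.2⟩
  exact hle hv'

end LocSS

section LinRed

variable {k : Type u} [Field k] {A : Type v} [CommRing A]

/-- a linearly reductive bialgebra is semisimple as a comodule over itself -/
theorem isSS_regular_of_isLinearlyReductive [Bialgebra k A]
    (h : HopfRep.IsLinearlyReductive k A) : IsSS (HopfRep.Comod.regular k A) := by
  apply isSS_of_forall_finite
  intro W hW hfin
  exact @h W _ _ (ComodSub.Comod.restr (HopfRep.Comod.regular k A) W hW) hfin

/-- a bialgebra which is semisimple as a comodule over itself has a total integral -/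
theorem exists_integral_of_isSS_regular [Bialgebra k A]
    (h : IsSS (HopfRep.Comod.regular k A)) :
    ∃ α : A →ₗ[k] k,
      @Hoch.IsComodHom k _ A _ _ _ A _ _ _ k _ _ (HopfRep.Comod.trivial k A k) α ∧ α 1 = 1 := by
  have hsub : IsSub (HopfRep.Comod.regular k A) (Submodule.span k {(1 : A)}) := by
    intro w hw
    obtain ⟨c, rfl⟩ := Submodule.mem_span_singleton.mp hw
    refine ⟨(c • ⟨1, Submodule.mem_span_singleton_self 1⟩) ⊗ₜ[k] (1 : A), ?_⟩
    show _ = Coalgebra.comul (R := k) (c • (1 : A))
    rw [map_smul, Bialgebra.comul_one, LinearMap.rTensor_tmul, Algebra.TensorProduct.one_def,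
      TensorProduct.smul_tmul']
    rfl
  obtain ⟨W', hW', hcompl⟩ := h _ hsub
  let p := Submodule.projectionOnto _ _ hcompl
  let α : A →ₗ[k] k := Coalgebra.counit (R := k) (A := A) ∘ₗ (Submodule.span k {(1 : A)}).subtype ∘ₗ p
  have hα1 : α 1 = 1 := by
    have h1 : p 1 = ⟨1, Submodule.mem_span_singleton_self 1⟩ :=
      Submodule.projectionOnto_apply_left hcompl ⟨1, Submodule.mem_span_singleton_self 1⟩
    show Coalgebra.counit (R := k) ((p 1 : A)) = 1
    rw [h1]
    exact Bialgebra.counit_one
  have hαW' : α ∘ₗ W'.subtype = 0 := by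
    apply LinearMap.ext
    intro w
    have : p (w : A) = 0 := (Submodule.projectionOnto_apply_eq_zero_iff hcompl).mpr w.2
    show Coalgebra.counit (R := k) ((p (w : A) : A)) = 0
    rw [this]
    simp
  refine ⟨α, ?_, hα1⟩
  apply LinearMap.ext
  intro a
  show (α a) ⊗ₜ[k] (1 : A) = α.rTensor A (Coalgebra.comul (R := k) a)
  have ha : a ∈ Submodule.span k {(1 : A)} ⊔ W' := by rw [hcompl.sup_eq_top]; trivial
  obtain ⟨x, hx, w, hw, rfl⟩ := Submodule.mem_sup.mp ha
  obtain ⟨c, rfl⟩ := Submodule.mem_span_singleton.mp hx
  have hw0 : α w = 0 := LinearMap.congr_fun hαW' ⟨w, hw⟩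
  obtain ⟨y, hy⟩ := hW' w hw
  have hy' : Coalgebra.comul (R := k) w = W'.subtype.rTensor A y := hy.symm
  have h2 : α.rTensor A (W'.subtype.rTensor A y) = 0 := by
    rw [← LinearMap.comp_apply, ← LinearMap.rTensor_comp, hαW', LinearMap.rTensor_zero,
      LinearMap.zero_apply]
  rw [map_add, map_add, map_add, hy', h2, hw0, map_smul, map_smul, map_smul, hα1,
    Bialgebra.comul_one, Algebra.TensorProduct.one_def, LinearMap.rTensor_tmul, hα1]
  simp [TensorProduct.smul_tmul']

/-- a Hopf algebra over a field is linearly reductive iff it has a total integral -/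
theorem isLinearlyReductive_iff_exists_integral [HopfAlgebra k A] :
    HopfRep.IsLinearlyReductive k A ↔
      ∃ α : A →ₗ[k] k,
        @Hoch.IsComodHom k _ A _ _ _ A _ _ _ k _ _ (HopfRep.Comod.trivial k A k) α ∧ α 1 = 1 := by
  constructor
  · intro h
    exact exists_integral_of_isSS_regular (isSS_regular_of_isLinearlyReductive h)
  · rintro ⟨α, hα, h1⟩ V _ _ c _
    exact isSS_of_integral c α hα h1

end LinRed

end Groth.Agent.Lib.Helper96
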