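import Groth.Agent.Lib.Helper96.Semisimple
import Mathlib.Order.CompactlyGenerated.Basic
import Mathlib.LinearAlgebra.Span.Basic
import Mathlib.RingTheory.Finiteness.Basic

set_option autoImplicit false

universe u v w w'

open TensorProduct

namespace Groth.Agent.Lib.Helper96

section Lattice

variable {α : Type*} [CompleteLattice α] [IsModularLattice α] [IsCompactlyGenerated α]

/-- Variant of `exists_sSupIndep_isCompl_sSup_atoms` relative to a sub-complete-lattice described
by a predicate `P`, with a prescribed generating set `T` of `P`-minimal elements. -/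
theorem exists_sSupIndep_isCompl_sSup_of_min
    (P : α → Prop) (hinf : ∀ x y, P x → P y → P (x ⊓ y)) (hsup : ∀ x y, P x → P y → P (x ⊔ y))
    (hsSup : ∀ s : Set α, (∀ x ∈ s, P x) → P (sSup s))
    (T : Set α) (hT : ∀ a ∈ T, P a ∧ a ≠ ⊥ ∧ ∀ x, P x → x ≤ a → x = ⊥ ∨ x = a)
    (htop : sSup T = ⊤) (b : α) (hb : P b) :
    ∃ s : Set α, s ⊆ T ∧ sSupIndep s ∧ IsCompl b (sSup s) := by
  have zorn := zorn_subset
    (S := {s : Set α | sSupIndep s ∧ Disjoint b (sSup s) ∧ s ⊆ T})
    fun c hc1 hc2 =>
      ⟨⋃₀ c,
        ⟨iSupIndep_sUnion_of_directed hc2.directedOn fun s hs => (hc1 hs).1, ?_,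
          fun a ⟨s, sc, as⟩ => (hc1 sc).2.2 as⟩,
        fun _ => Set.subset_sUnion_of_mem⟩
  swap
  · rw [sSup_sUnion, ← sSup_image, DirectedOn.disjoint_sSup_right]
    · rintro _ ⟨s, hs, rfl⟩
      exact (hc1 hs).2.1
    · rw [directedOn_image]
      exact hc2.directedOn.mono @fun s t => sSup_le_sSup
  simp_rw [maximal_subset_iff] at zorn
  obtain ⟨s, ⟨s_ind, b_inf_Sup_s, s_sub⟩, s_max⟩ := zorn
  refine ⟨s, s_sub, s_ind, b_inf_Sup_s, ?_⟩
  rw [codisjoint_iff, eq_top_iff, ← htop, sSup_le_iff]
  intro a ha
  obtain ⟨hPa, ha0, hamin⟩ := hT a ha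
  have hPs : P (sSup s) := hsSup s (fun x hx => (hT x (s_sub hx)).1)
  have hPx : P (a ⊓ (b ⊔ sSup s)) := hinf _ _ hPa (hsup _ _ hb hPs)
  rw [← inf_eq_left]
  refine (hamin _ hPx inf_le_left).resolve_left fun con => ha0 ?_
  rw [← con, eq_comm, inf_eq_left]
  refine (le_sSup ?_).trans le_sup_right
  rw [← disjoint_iff] at con
  have a_dis_Sup_s : Disjoint a (sSup s) := con.mono_right le_sup_right
  have hmem : s ∪ {a} ∈ {s : Set α | sSupIndep s ∧ Disjoint b (sSup s) ∧ s ⊆ T} := by
    refine ⟨fun x hx => ?_, ?_, ?_⟩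
    · rw [Set.mem_union, Set.mem_singleton_iff] at hx
      obtain rfl | xa := eq_or_ne x a
      · simp only [Set.mem_singleton, Set.insert_sdiff_of_mem, Set.union_singleton]
        exact con.mono_right ((sSup_le_sSup Set.sdiff_subset).trans le_sup_right)
      · have h : (s ∪ {a}) \ {x} = s \ {x} ∪ {a} := by
          simp only [Set.union_singleton]
          rw [Set.insert_sdiff_of_notMem]
          rw [Set.mem_singleton_iff]
          exact Ne.symm xa
        rw [h, sSup_union, sSup_singleton]
        apply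
          (s_ind (hx.resolve_right xa)).disjoint_sup_right_of_disjoint_sup_left
            (a_dis_Sup_s.mono_right _).symm
        rw [← sSup_insert, Set.insert_sdiff_singleton, Set.insert_eq_of_mem (hx.resolve_right xa)]
    · rw [sSup_union, sSup_singleton]
      exact b_inf_Sup_s.disjoint_sup_right_of_disjoint_sup_left con.symm
    · intro x hx
      rw [Set.mem_union, Set.mem_singleton_iff] at hx
      obtain hx | rfl := hx
      · exact s_sub hx
      · exact ha
  rw [s_max hmem Set.subset_union_left]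
  exact Set.mem_union_right _ (Set.mem_singleton _)

/-- from a set of lattice elements inside the range of a family to an index set -/
theorem exists_index_set_of_subset_range {ι : Type*} (S : ι → α) (s : Set α)
    (hs : s ⊆ Set.range S) (hind : sSupIndep s) :
    ∃ J : Set ι, iSupIndep (fun j : J => S j) ∧ (⨆ j : J, S j) = sSup s := by
  classical
  choose idx hidx using fun t : s => hs t.2
  refine ⟨Set.range idx, ?_, ?_⟩
  · have hmem : ∀ j : Set.range idx, S j ∈ s := by
      rintro ⟨_, t, rfl⟩
      rw [hidx t]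
      exact t.2
    let g : Set.range idx → s := fun j => ⟨S j, hmem j⟩
    have hg : Function.Injective g := by
      rintro ⟨_, t, rfl⟩ ⟨_, t', rfl⟩ h
      have h' : S (idx t) = S (idx t') := congrArg Subtype.val h
      rw [hidx t, hidx t'] at h'
      have : t = t' := Subtype.ext h'
      subst this
      rfl
    exact ((sSupIndep_iff s).mp hind).comp hg
  · apply le_antisymm
    · apply iSup_le
      rintro ⟨_, t, rfl⟩
      show S (idx t) ≤ sSup s
      rw [hidx t]
      exact le_sSup t.2
    · apply sSup_le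
      intro t ht
      have h1 : S (idx ⟨t, ht⟩) = t := hidx ⟨t, ht⟩
      have h2 := le_iSup (fun j : Set.range idx => S j) ⟨idx ⟨t, ht⟩, ⟨t, ht⟩, rfl⟩
      rw [← h1]
      exact h2

end Lattice

section Comod

variable {k : Type u} [Field k] {A : Type v} [AddCommGroup A] [Module k A] [Coalgebra k A]
variable {V : Type w} [AddCommGroup V] [Module k V]

/-- a comodule which is a sum of minimal subcomodules: every subcomodule has a complement which
is a direct sum of members of the family -/
theorem exists_isCompl_iSup_of_sum_minimal (c : HopfRep.Comod k A V) {ι : Type*}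
    (S : ι → Submodule k V) (hS : ∀ i, IsMinSub c (S i)) (hsum : ⨆ i, S i = ⊤)
    (W : Submodule k V) (hW : IsSub c W) :
    ∃ J : Set ι, iSupIndep (fun j : J => S j) ∧ IsCompl W (⨆ j : J, S j) := by
  obtain ⟨s, hsT, hind, hcompl⟩ := exists_sSupIndep_isCompl_sSup_of_min (α := Submodule k V)
    (fun W => IsSub c W) (fun x y hx hy => isSub_inf c hx hy) (fun x y hx hy => isSub_sup c hx hy)
    (fun s hs => isSub_sSup c hs) (Set.range S)
    (by
      rintro _ ⟨i, rfl⟩
      exact ⟨(hS i).1, (hS i).2.1, (hS i).2.2⟩)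
    (by rw [sSup_range]; exact hsum) W hW
  obtain ⟨J, hJ, hJs⟩ := exists_index_set_of_subset_range S s hsT hind
  exact ⟨J, hJ, by rw [hJs]; exact hcompl⟩

/-- a sum of minimal subcomodules is semisimple -/
theorem isSS_of_sum_minimal (c : HopfRep.Comod k A V) {ι : Type*}
    (S : ι → Submodule k V) (hS : ∀ i, IsMinSub c (S i)) (hsum : ⨆ i, S i = ⊤) : IsSS c := by
  intro W hW
  obtain ⟨J, -, hJ⟩ := exists_isCompl_iSup_of_sum_minimal c S hS hsum W hW
  exact ⟨_, isSub_iSup c (fun j : J => (hS j).1), hJ⟩

end Comod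

end Groth.Agent.Lib.Helper96
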