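import Groth.Agent.Lib.Helper96.LeftSlice
import Groth.Agent.Lib.Helper96.Isotypic
import Groth.Agent.Lib.Helper96.Zorn
import Groth.Agent.Lib.Helper96.CoalgChange2
import Groth.Agent.Lib.Helper96.LinRed
import Mathlib.Algebra.Module.Submodule.Bilinear

/-!
# Coefficient spaces of comodules over a coalgebra over a field

`cf c` is the coefficient space of the comodule `c : HopfRep.Comod k C V`: the least subspace `D`
of `C` with `ρ(V) ⊆ V ⊗ D`.  It is a subcoalgebra, finite-dimensional when `V` is, simple when `V`
is simple.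
-/

set_option autoImplicit false

universe u v w w'

open TensorProduct

namespace Groth.Agent.Lib.Helper96

section Coeff

variable {k : Type u} [Field k] {C : Type v} [AddCommGroup C] [Module k C] [Coalgebra k C]
variable {V : Type w} [AddCommGroup V] [Module k V]
variable {W : Type w'} [AddCommGroup W] [Module k W]

/-- subcoalgebra predicate, in the form used by the statements -/
abbrev IsSubcoalg (B : Submodule k C) : Prop :=
  ∀ b ∈ B, CoalgebraStruct.comul (R := k) b ∈
    LinearMap.range (TensorProduct.map B.subtype B.subtype)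

omit [Coalgebra k C] in
theorem comm_lTensor_comm (D : Submodule k C) (z : D ⊗[k] V) :
    TensorProduct.comm k V C (D.subtype.lTensor V (TensorProduct.comm k D V z)) =
      D.subtype.rTensor V z := by
  induction z using TensorProduct.induction_on with
  | zero => simp
  | add x y hx hy => simp only [map_add, hx, hy]
  | tmul d v => simp

omit [Coalgebra k C] in
/-- membership in `V ⊗ D` tested by left slices -/
theorem mem_range_lTensor_subtype_iff (D : Submodule k C) (y : V ⊗[k] C) :
    y ∈ LinearMap.range (D.subtype.lTensor V) ↔ ∀ φ : Module.Dual k V, lslM φ y ∈ D := by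
  constructor
  · rintro ⟨z, rfl⟩ φ
    rw [lslM_lTensor]
    exact (lslM φ z).2
  · intro h
    have h2 : TensorProduct.comm k V C y ∈ LinearMap.range (D.subtype.rTensor V) := by
      rw [mem_range_rTensor_subtype_iff]
      intro φ
      rw [← lslM_eq_slice_comm]
      exact h φ
    obtain ⟨z, hz⟩ := h2
    refine ⟨TensorProduct.comm k D V z, ?_⟩
    apply (TensorProduct.comm k V C).injective
    rw [← hz, comm_lTensor_comm]

omit [Coalgebra k C] in
/-- pulling back membership in `V ⊗ D` along an injective map in the first factor -/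
theorem mem_range_lTensor_of_rTensor_injective (j : V →ₗ[k] W) (hj : Function.Injective j)
    (D : Submodule k C) (y : V ⊗[k] C)
    (h : j.rTensor C y ∈ LinearMap.range (D.subtype.lTensor W)) :
    y ∈ LinearMap.range (D.subtype.lTensor V) := by
  rw [mem_range_lTensor_iff] at h ⊢
  intro g hg
  have := h g hg
  rw [slice_rTensor] at this
  exact hj (by rw [this, map_zero])

omit [Coalgebra k C] in
theorem range_map_le_range_lTensor (B : Submodule k C) (E : Submodule k W) :
    LinearMap.range (TensorProduct.map E.subtype B.subtype) ≤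
      LinearMap.range (B.subtype.lTensor W) := by
  rintro _ ⟨z, rfl⟩
  refine ⟨E.subtype.rTensor B z, ?_⟩
  rw [← LinearMap.comp_apply, LinearMap.lTensor_comp_rTensor]

omit [Coalgebra k C] in
theorem range_map_le_range_rTensor (B : Submodule k C) (E : Submodule k W) :
    LinearMap.range (TensorProduct.map E.subtype B.subtype) ≤
      LinearMap.range (E.subtype.rTensor C) := by
  rintro _ ⟨z, rfl⟩
  refine ⟨B.subtype.lTensor E z, ?_⟩
  rw [← LinearMap.comp_apply, LinearMap.rTensor_comp_lTensor]

/-- the matrix coefficient map `(φ, v) ↦ (φ ⊗ id)(ρ v)` -/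
noncomputable def cfMap (c : HopfRep.Comod k C V) : Module.Dual k V →ₗ[k] V →ₗ[k] C :=
  LinearMap.mk₂ k (fun φ v => lslM φ (c.coact v))
    (by intro φ φ' v; simp [lslM, LinearMap.rTensor_add])
    (by intro a φ v; simp [lslM, LinearMap.rTensor_smul])
    (by intro φ v v'; simp)
    (by intro a φ v; simp)

theorem cfMap_apply (c : HopfRep.Comod k C V) (φ : Module.Dual k V) (v : V) :
    cfMap c φ v = lslM φ (c.coact v) := rfl

/-- the coefficient space of a comodule -/
noncomputable def cf (c : HopfRep.Comod k C V) : Submodule k C :=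
  Submodule.map₂ (cfMap c) ⊤ ⊤

theorem cfMap_mem_cf (c : HopfRep.Comod k C V) (φ : Module.Dual k V) (v : V) :
    cfMap c φ v ∈ cf c :=
  Submodule.apply_mem_map₂ _ Submodule.mem_top Submodule.mem_top

theorem cf_le (c : HopfRep.Comod k C V) (D : Submodule k C) :
    cf c ≤ D ↔ ∀ (φ : Module.Dual k V) (v : V), cfMap c φ v ∈ D := by
  rw [cf, Submodule.map₂_le]
  exact ⟨fun h φ v => h φ Submodule.mem_top v Submodule.mem_top, fun h φ _ v _ => h φ v⟩

theorem coact_mem_cf (c : HopfRep.Comod k C V) (v : V) :
    c.coact v ∈ LinearMap.range ((cf c).subtype.lTensor V) := by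
  rw [mem_range_lTensor_subtype_iff]
  intro φ
  exact cfMap_mem_cf c φ v

theorem cf_le_iff (c : HopfRep.Comod k C V) (D : Submodule k C) :
    cf c ≤ D ↔ ∀ v : V, c.coact v ∈ LinearMap.range (D.subtype.lTensor V) := by
  constructor
  · intro h v
    rw [mem_range_lTensor_subtype_iff]
    intro φ
    exact h (cfMap_mem_cf c φ v)
  · intro h
    rw [cf_le]
    intro φ v
    exact (mem_range_lTensor_subtype_iff D _).mp (h v) φ

theorem isLeast_cf (c : HopfRep.Comod k C V) :
    IsLeast {D' : Submodule k C |
      ∀ v : V, c.coact v ∈ LinearMap.range (LinearMap.lTensor V D'.subtype)} (cf c) :=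
  ⟨coact_mem_cf c, fun _ hD => (cf_le_iff c _).mpr hD⟩

theorem eq_cf_of_isLeast (c : HopfRep.Comod k C V) (D : Submodule k C)
    (hD : IsLeast {D' : Submodule k C |
      ∀ v : V, c.coact v ∈ LinearMap.range (LinearMap.lTensor V D'.subtype)} D) : D = cf c :=
  hD.unique (isLeast_cf c)

theorem cf_eq_iSup_range (c : HopfRep.Comod k C V) :
    cf c = ⨆ φ : Module.Dual k V, LinearMap.range (cfMap c φ) := by
  apply le_antisymm
  · rw [cf_le]
    intro φ v
    exact Submodule.mem_iSup_of_mem φ ⟨v, rfl⟩
  · apply iSup_le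
    rintro φ _ ⟨v, rfl⟩
    exact cfMap_mem_cf c φ v

theorem isHom_cfMap (c : HopfRep.Comod k C V) (φ : Module.Dual k V) :
    IsHom c (HopfRep.Comod.regular k C) (cfMap c φ) := by
  apply LinearMap.ext
  intro v
  exact comul_lsl'_coact c φ v

theorem isSubcoalg_cf (c : HopfRep.Comod k C V) : IsSubcoalg (cf c) := by
  have key : cf c ≤ Submodule.comap (CoalgebraStruct.comul (R := k) (A := C))
      (LinearMap.range (TensorProduct.map (cf c).subtype (cf c).subtype)) := by
    rw [cf_le]
    intro φ v
    rw [Submodule.mem_comap]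
    have h1 : CoalgebraStruct.comul (R := k) (cfMap c φ v) =
        (cfMap c φ).rTensor C (c.coact v) := comul_lsl'_coact c φ v
    obtain ⟨z, hz⟩ := coact_mem_cf c v
    let g' : V →ₗ[k] cf c := LinearMap.codRestrict (cf c) (cfMap c φ) (cfMap_mem_cf c φ)
    have hg : (cf c).subtype ∘ₗ g' = cfMap c φ := by
      apply LinearMap.ext
      intro x
      rfl
    refine ⟨TensorProduct.map g' LinearMap.id z, ?_⟩
    rw [h1, ← hz, ← hg, ← LinearMap.comp_apply, ← TensorProduct.map_comp, LinearMap.rTensor,
      LinearMap.lTensor, ← LinearMap.comp_apply, ← TensorProduct.map_comp]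
    rfl
  intro b hb
  exact key hb

theorem cf_ne_bot (c : HopfRep.Comod k C V) [Nontrivial V] : cf c ≠ ⊥ := by
  intro h0
  obtain ⟨v, hv⟩ := exists_ne (0 : V)
  apply hv
  have h1 := coact_mem_cf c v
  rw [h0] at h1
  have h2 : (⊥ : Submodule k C).subtype = 0 := by
    apply LinearMap.ext
    rintro ⟨x, hx⟩
    exact (Submodule.mem_bot k).mp hx
  rw [h2, LinearMap.lTensor_zero, LinearMap.range_zero, Submodule.mem_bot] at h1
  rw [← slice_counit_coact c v, h1, map_zero]

theorem lslM_counit_comul (x : C) :
    lslM (CoalgebraStruct.counit (R := k) (A := C)) (CoalgebraStruct.comul (R := k) x) = x := by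
  have h := Coalgebra.rTensor_counit_comul (R := k) x
  rw [lslM, LinearMap.comp_apply, h]
  simp

/-- a comodule map into the regular comodule is a matrix coefficient map -/
theorem eq_cfMap_of_isHom (c : HopfRep.Comod k C V) (j : V →ₗ[k] C)
    (hj : IsHom c (HopfRep.Comod.regular k C) j) :
    j = cfMap c (CoalgebraStruct.counit (R := k) (A := C) ∘ₗ j) := by
  apply LinearMap.ext
  intro v
  have h1 : CoalgebraStruct.comul (R := k) (j v) = j.rTensor C (c.coact v) := isHom_apply hj v
  rw [cfMap_apply, ← lslM_rTensor, ← h1, lslM_counit_comul]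

theorem range_le_cf_of_isHom (c : HopfRep.Comod k C V) (j : V →ₗ[k] C)
    (hj : IsHom c (HopfRep.Comod.regular k C) j) : LinearMap.range j ≤ cf c := by
  rintro _ ⟨v, rfl⟩
  rw [eq_cfMap_of_isHom c j hj]
  exact cfMap_mem_cf c _ v

/-- if an injective comodule map `V → C` lands in a subcoalgebra `B` then `cf V ≤ B` -/
theorem cf_le_of_injective_isHom (c : HopfRep.Comod k C V) (j : V →ₗ[k] C)
    (hj : IsHom c (HopfRep.Comod.regular k C) j) (hinj : Function.Injective j)
    (B : Submodule k C) (hB : IsSubcoalg B) (hle : LinearMap.range j ≤ B) : cf c ≤ B := by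
  rw [cf_le_iff]
  intro v
  apply mem_range_lTensor_of_rTensor_injective j hinj
  have h1 : CoalgebraStruct.comul (R := k) (j v) = j.rTensor C (c.coact v) := isHom_apply hj v
  rw [← h1]
  exact range_map_le_range_lTensor B B (hB _ (hle ⟨v, rfl⟩))

theorem isSub_of_isSubcoalg (B : Submodule k C) (hB : IsSubcoalg B) :
    IsSub (HopfRep.Comod.regular k C) B := by
  intro b hb
  exact range_map_le_range_rTensor B B (hB b hb)

/-- coefficient spaces grow along injective comodule maps -/
theorem cf_le_of_injective (cV : HopfRep.Comod k C V) (cW : HopfRep.Comod k C W)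
    (f : V →ₗ[k] W) (hf : IsHom cV cW f) (hinj : Function.Injective f) : cf cV ≤ cf cW := by
  rw [cf_le]
  intro φ v
  obtain ⟨ψ, hψ⟩ : ∃ ψ : Module.Dual k W, ψ ∘ₗ f = φ := by
    obtain ⟨r, hr⟩ := LinearMap.exists_leftInverse_of_injective f (LinearMap.ker_eq_bot.mpr hinj)
    exact ⟨φ ∘ₗ r, by rw [LinearMap.comp_assoc, hr, LinearMap.comp_id]⟩
  have h1 : cW.coact (f v) = f.rTensor C (cV.coact v) := isHom_apply hf v
  rw [cfMap_apply, ← hψ, ← lslM_rTensor, ← h1]
  exact cfMap_mem_cf cW ψ (f v)

/-- coefficient spaces shrink along surjective comodule maps -/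
theorem cf_le_of_surjective (cV : HopfRep.Comod k C V) (cW : HopfRep.Comod k C W)
    (f : V →ₗ[k] W) (hf : IsHom cV cW f) (hsurj : Function.Surjective f) : cf cW ≤ cf cV := by
  rw [cf_le]
  intro ψ w
  obtain ⟨v, rfl⟩ := hsurj w
  have h1 : cW.coact (f v) = f.rTensor C (cV.coact v) := isHom_apply hf v
  rw [cfMap_apply, h1, lslM_rTensor]
  exact cfMap_mem_cf cV (ψ ∘ₗ f) v

theorem cf_eq_of_equiv (cV : HopfRep.Comod k C V) (cW : HopfRep.Comod k C W)
    (e : V ≃ₗ[k] W) (he : IsHom cV cW e.toLinearMap) : cf cV = cf cW :=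
  le_antisymm (cf_le_of_injective cV cW e.toLinearMap he e.injective)
    (cf_le_of_surjective cV cW e.toLinearMap he e.surjective)

theorem finite_cf (c : HopfRep.Comod k C V) [Module.Finite k V] : Module.Finite k (cf c) := by
  rw [Module.Finite.iff_fg]
  exact Submodule.FG.map₂ _ Module.Finite.fg_top Module.Finite.fg_top

/-- a subcomodule of the regular comodule lies in its own coefficient space -/
theorem le_cf_restr (M : Submodule k C) (hM : IsSub (HopfRep.Comod.regular k C) M) :
    M ≤ cf (ComodSub.Comod.restr (HopfRep.Comod.regular k C) M hM) := by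
  have h := range_le_cf_of_isHom (ComodSub.Comod.restr (HopfRep.Comod.regular k C) M hM) M.subtype
    (ComodSub.isComodHom_subtype _ M hM)
  rwa [Submodule.range_subtype] at h

/-- a subcomodule of the regular comodule inside a subcoalgebra `B` has coefficients in `B` -/
theorem cf_restr_le (M : Submodule k C) (hM : IsSub (HopfRep.Comod.regular k C) M)
    (B : Submodule k C) (hB : IsSubcoalg B) (hle : M ≤ B) :
    cf (ComodSub.Comod.restr (HopfRep.Comod.regular k C) M hM) ≤ B :=
  cf_le_of_injective_isHom _ M.subtype (ComodSub.isComodHom_subtype _ M hM)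
    M.injective_subtype B hB (by rwa [Submodule.range_subtype])

/-- the fundamental theorem of coalgebras: every element lies in a finite-dimensional
subcoalgebra -/
theorem exists_finite_isSubcoalg_mem (x : C) :
    ∃ B : Submodule k C, IsSubcoalg B ∧ Module.Finite k B ∧ x ∈ B := by
  have hM := isSub_orbit (HopfRep.Comod.regular k C) x
  have := finite_orbit (HopfRep.Comod.regular k C) x
  refine ⟨cf (ComodSub.Comod.restr (HopfRep.Comod.regular k C) _ hM), isSubcoalg_cf _,
    finite_cf _, le_cf_restr _ hM (mem_orbit_self _ x)⟩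

end Coeff

end Groth.Agent.Lib.Helper96
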