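import Groth.Agent.Lib.Helper96.CartierF

/-! Cartier's theorem over an arbitrary field of characteristic zero, and consequences for Hopf
ideals (helper96). -/

set_option autoImplicit false

open TensorProduct
universe u v w
namespace Groth.Agent.Lib.Helper96

namespace Cartier

/-- Cartier's theorem: a finitely generated commutative Hopf algebra over a field of
characteristic zero is reduced. -/
theorem isReduced (k : Type u) [Field k] [CharZero k] (A : Type v) [CommRing A] [HopfAlgebra k A]
    [Algebra.FiniteType k A] : IsReduced A := by
  let K := AlgebraicClosure k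
  have : CharZero K := charZero_of_injective_algebraMap (algebraMap k K).injective
  have : Algebra.FiniteType K (K ⊗[k] A) := inferInstance
  have : IsReduced (K ⊗[k] A) := isReduced_of_isAlgClosed (k := K) (A := K ⊗[k] A)
  have hinj : Function.Injective (Algebra.TensorProduct.includeRight (R := k) (A := K) (B := A)) :=
    Algebra.TensorProduct.includeRight_injective (algebraMap k K).injective
  exact isReduced_of_injective (Algebra.TensorProduct.includeRight (R := k) (A := K) (B := A)) hinj

/-- Hopf ideals of a finitely generated commutative Hopf algebra in characteristic zero are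
radical. -/
theorem isRadical_of_isHopfIdeal (k : Type u) [Field k] [CharZero k] (A : Type v) [CommRing A]
    [HopfAlgebra k A] [Algebra.FiniteType k A] (I : Ideal A) [I.IsHopfIdeal k] : I.IsRadical := by
  have : Algebra.FiniteType k (A ⧸ I) :=
    Algebra.FiniteType.of_surjective (Ideal.Quotient.mkₐ k I) (Ideal.Quotient.mkₐ_surjective k I)
  have : IsReduced (A ⧸ I) := isReduced k (A ⧸ I)
  exact (Ideal.isRadical_iff_quotient_reduced I).mpr this

section Points
variable {k : Type u} [Field k] {R : Type w} [CommRing R] [Algebra k R] [Algebra.FiniteType k R]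

/-- every maximal ideal of a finitely generated algebra is the kernel of a point with values in
the algebraic closure -/
theorem exists_algHom_algebraicClosure_ker_eq (m : Ideal R) (hm : m.IsMaximal) :
    ∃ z : R →ₐ[k] AlgebraicClosure k, RingHom.ker z = m := by
  letI := Ideal.Quotient.field m
  haveI : Algebra.FiniteType k (R ⧸ m) :=
    Algebra.FiniteType.of_surjective (Ideal.Quotient.mkₐ k m) (Ideal.Quotient.mkₐ_surjective k m)
  haveI : Module.Finite k (R ⧸ m) := finite_of_finite_type_of_isJacobsonRing k (R ⧸ m)
  haveI : Algebra.IsAlgebraic k (R ⧸ m) := Algebra.IsAlgebraic.of_finite k (R ⧸ m)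
  let e : (R ⧸ m) →ₐ[k] AlgebraicClosure k := IsAlgClosed.lift
  refine ⟨e.comp (Ideal.Quotient.mkₐ k m), ?_⟩
  symm
  apply hm.eq_of_le (RingHom.ker_ne_top _)
  intro f hf
  have : Ideal.Quotient.mkₐ k m f = 0 := by
    rw [Ideal.Quotient.mkₐ_eq_mk, Ideal.Quotient.eq_zero_iff_mem]
    exact hf
  rw [RingHom.mem_ker, AlgHom.comp_apply, this, map_zero]

/-- a radical ideal of a finitely generated algebra is determined by its points in the algebraic
closure -/
theorem le_of_forall_points {I I' : Ideal R} (hI' : I'.IsRadical)
    (h : ∀ g : R →ₐ[k] AlgebraicClosure k, I' ≤ RingHom.ker g → I ≤ RingHom.ker g) : I ≤ I' := by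
  haveI : IsJacobsonRing R := isJacobsonRing_of_finiteType (A := k) (B := R)
  rw [← IsJacobsonRing.out inferInstance hI', Ideal.jacobson]
  apply le_sInf
  rintro m ⟨hIm, hm⟩
  obtain ⟨z, hz⟩ := exists_algHom_algebraicClosure_ker_eq (k := k) m hm
  rw [← hz]
  apply h
  rw [hz]
  exact hIm

end Points

end Cartier

end Groth.Agent.Lib.Helper96
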