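import Groth.Agent.Lib.Helper96.Semisimple
import Mathlib.RingTheory.Coalgebra.Hom

set_option autoImplicit false

universe u v v' w w'

open TensorProduct

namespace Groth.Agent.Lib.Helper96

section Separation

variable {k : Type u} [Field k] {V : Type w} [AddCommGroup V] [Module k V]
  {B : Type v} [AddCommGroup B] [Module k B]

theorem eq_zero_of_slice_eq_zero (y : V ⊗[k] B) (h : ∀ g : Module.Dual k B, slice V g y = 0) :
    y = 0 := by
  classical
  let 𝒞 := Module.Free.chooseBasis k B
  let e := TensorProduct.equivFinsuppOfBasisRight (M := V) 𝒞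
  apply e.injective
  rw [map_zero]
  ext j
  rw [equivFinsupp_apply_eq_slice, h]
  rfl

theorem slice_ext {y y' : V ⊗[k] B} (h : ∀ g : Module.Dual k B, slice V g y = slice V g y') :
    y = y' := by
  rw [← sub_eq_zero]
  apply eq_zero_of_slice_eq_zero
  intro g
  rw [map_sub, h g, sub_self]

end Separation

section OfSlices

variable {k : Type u} [Field k] {C : Type v} [AddCommGroup C] [Module k C] [Coalgebra k C]
variable {V : Type w} [AddCommGroup V] [Module k V]

/-- a comodule structure from the slice identities -/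
@[reducible] noncomputable def comodOfSlices (ρ : V →ₗ[k] V ⊗[k] C)
    (h1 : ∀ v, slice V (CoalgebraStruct.counit (R := k) (A := C)) (ρ v) = v)
    (h2 : ∀ (g₁ g₂ : Module.Dual k C) (v : V),
      slice V g₁ (ρ (slice V g₂ (ρ v))) = slice V (convForm g₁ g₂) (ρ v)) :
    HopfRep.Comod k C V where
  coact := ρ
  coassoc := by
    apply LinearMap.ext
    intro v
    simp only [LinearMap.coe_comp, Function.comp_apply, LinearEquiv.coe_coe]
    rw [← LinearEquiv.eq_symm_apply]
    apply slice_ext
    intro g₂
    apply slice_ext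
    intro g₁
    rw [slice_rTensor, h2, slice_slice, LinearEquiv.apply_symm_apply, slice_lTensor]
    rfl
  counit_comp := by
    apply LinearMap.ext
    intro v
    simp only [LinearMap.coe_comp, Function.comp_apply, LinearMap.flip_apply,
      TensorProduct.mk_apply]
    apply (TensorProduct.rid k V).injective
    have := h1 v
    unfold slice at this
    rw [LinearMap.comp_apply] at this
    rw [LinearEquiv.coe_coe] at this
    rw [this]
    simp

end OfSlices

section Change

variable {k : Type u} [Field k] {C : Type v} [AddCommGroup C] [Module k C] [Coalgebra k C]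
variable {D : Type v'} [AddCommGroup D] [Module k D] [Coalgebra k D]
variable {V : Type w} [AddCommGroup V] [Module k V]

theorem convForm_comp_coalgHom (i : C →ₗc[k] D) (g₁ g₂ : Module.Dual k D) :
    convForm g₁ g₂ ∘ₗ (i : C →ₗ[k] D) =
      convForm (g₁ ∘ₗ (i : C →ₗ[k] D)) (g₂ ∘ₗ (i : C →ₗ[k] D)) := by
  unfold convForm
  rw [LinearMap.comp_assoc, ← CoalgHomClass.map_comp_comul i, ← LinearMap.comp_assoc,
    LinearMap.comp_assoc (map (i : C →ₗ[k] D) (i : C →ₗ[k] D)), ← TensorProduct.map_comp]

theorem exists_extend_form (i : C →ₗ[k] D) (hi : Function.Injective i) (g : Module.Dual k C) :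
    ∃ g' : Module.Dual k D, g' ∘ₗ i = g := by
  obtain ⟨r, hr⟩ := LinearMap.exists_leftInverse_of_injective i (LinearMap.ker_eq_bot.mpr hi)
  exact ⟨g ∘ₗ r, by rw [LinearMap.comp_assoc, hr, LinearMap.comp_id]⟩

/-- pushforward of a comodule structure along a coalgebra hom -/
@[reducible] noncomputable def comodPush (i : C →ₗc[k] D) (c : HopfRep.Comod k C V) :
    HopfRep.Comod k D V :=
  comodOfSlices ((i : C →ₗ[k] D).lTensor V ∘ₗ c.coact)
    (by
      intro v
      rw [LinearMap.comp_apply, slice_lTensor, CoalgHomClass.counit_comp]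
      exact slice_counit_coact c v)
    (by
      intro g₁ g₂ v
      simp only [LinearMap.comp_apply]
      rw [slice_lTensor, slice_lTensor, slice_lTensor, slice_coact_slice,
        convForm_comp_coalgHom])

theorem comodPush_coact (i : C →ₗc[k] D) (c : HopfRep.Comod k C V) :
    (comodPush i c).coact = (i : C →ₗ[k] D).lTensor V ∘ₗ c.coact := rfl

/-- compatible structures: a `D`-subcomodule is a `C`-subcomodule when `i` is injective -/
theorem isSub_of_isSub_push (i : C →ₗc[k] D) (hi : Function.Injective i)
    (c : HopfRep.Comod k C V) (d : HopfRep.Comod k D V)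
    (hcd : (i : C →ₗ[k] D).lTensor V ∘ₗ c.coact = d.coact)
    {W : Submodule k V} (hW : IsSub d W) : IsSub c W := by
  rw [isSub_iff_slice] at *
  intro w hw g
  obtain ⟨g', hg'⟩ := exists_extend_form (i : C →ₗ[k] D) hi g
  have := hW w hw g'
  rw [← hcd, LinearMap.comp_apply, slice_lTensor, hg'] at this
  exact this

theorem isSub_push_of_isSub (i : C →ₗc[k] D)
    (c : HopfRep.Comod k C V) (d : HopfRep.Comod k D V)
    (hcd : (i : C →ₗ[k] D).lTensor V ∘ₗ c.coact = d.coact)
    {W : Submodule k V} (hW : IsSub c W) : IsSub d W := by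
  rw [isSub_iff_slice] at *
  intro w hw g
  rw [← hcd, LinearMap.comp_apply, slice_lTensor]
  exact hW w hw _

/-- descent of a comodule structure along an injective coalgebra hom -/
theorem exists_comod_of_range (i : C →ₗc[k] D) (hi : Function.Injective i)
    (d : HopfRep.Comod k D V)
    (h : ∀ v : V, d.coact v ∈ LinearMap.range ((i : C →ₗ[k] D).lTensor V)) :
    ∃ c : HopfRep.Comod k C V, (i : C →ₗ[k] D).lTensor V ∘ₗ c.coact = d.coact := by
  have hinj : Function.Injective ((i : C →ₗ[k] D).lTensor V) :=
    Module.Flat.lTensor_preserves_injective_linearMap _ hi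
  let e := LinearEquiv.ofInjective ((i : C →ₗ[k] D).lTensor V) hinj
  let ρ : V →ₗ[k] V ⊗[k] C := e.symm.toLinearMap ∘ₗ
    d.coact.codRestrict (LinearMap.range ((i : C →ₗ[k] D).lTensor V)) h
  have hρ : ∀ v, (i : C →ₗ[k] D).lTensor V (ρ v) = d.coact v := by
    intro v
    have : (i : C →ₗ[k] D).lTensor V (ρ v) = (e (ρ v) : V ⊗[k] D) := rfl
    rw [this]
    simp only [ρ, LinearMap.comp_apply, LinearEquiv.coe_coe, LinearEquiv.apply_symm_apply]
    rfl
  have hsl : ∀ (g : Module.Dual k D) (v : V),
      slice V (g ∘ₗ (i : C →ₗ[k] D)) (ρ v) = slice V g (d.coact v) := by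
    intro g v
    rw [← slice_lTensor, hρ]
  refine ⟨comodOfSlices ρ ?_ ?_, LinearMap.ext hρ⟩
  · intro v
    rw [← CoalgHomClass.counit_comp i, hsl]
    exact slice_counit_coact d v
  · intro g₁ g₂ v
    obtain ⟨g₁', rfl⟩ := exists_extend_form (i : C →ₗ[k] D) hi g₁
    obtain ⟨g₂', rfl⟩ := exists_extend_form (i : C →ₗ[k] D) hi g₂
    rw [hsl, hsl, slice_coact_slice, ← convForm_comp_coalgHom, hsl]

end Change

end Groth.Agent.Lib.Helper96
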