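import Mathlib

set_option autoImplicit false
universe u
open TensorProduct
open scoped Classical

namespace Groth.Agent.Lib.Helper96.GrpLikeCoeff

variable {K : Type*} [CommRing K] {M : Type*} [CommGroup M]

/-- coefficient functional -/
noncomputable def ev (m : M) : MonoidAlgebra K M →ₗ[K] K where
  toFun x := x.coeff m
  map_add' x y := by simp
  map_smul' r x := by simp

@[simp] theorem ev_apply (m : M) (x : MonoidAlgebra K M) : ev m x = x.coeff m := rfl

/-- coefficient of a tensor -/
noncomputable def ev2 (m m' : M) : MonoidAlgebra K M ⊗[K] MonoidAlgebra K M →ₗ[K] K :=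
  (TensorProduct.lid K K).toLinearMap ∘ₗ TensorProduct.map (ev m) (ev m')

theorem ev2_tmul (m m' : M) (x y : MonoidAlgebra K M) :
    ev2 m m' (x ⊗ₜ[K] y) = x.coeff m * y.coeff m' := by
  simp [ev2]

theorem ev2_comul (m m' : M) (x : MonoidAlgebra K M) :
    ev2 m m' (CoalgebraStruct.comul (R := K) x) = if m = m' then x.coeff m else 0 := by
  induction x using MonoidAlgebra.induction_on with
  | of g =>
    simp only [MonoidAlgebra.of_apply]
    rw [(MonoidAlgebra.isGroupLikeElem_single_one (R := K) (A := K) g).comul_eq_tmul_self, ev2_tmul]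
    simp only [MonoidAlgebra.coeff_single_apply]
    by_cases h1 : g = m <;> by_cases h2 : g = m' <;> by_cases h3 : m = m' <;> simp_all
  | add x y hx hy =>
    rw [map_add, map_add, hx, hy]
    split_ifs <;> simp
  | smul r x hx =>
    rw [map_smul, map_smul, hx]
    split_ifs <;> simp

variable {x : MonoidAlgebra K M} (hx : IsGroupLikeElem K x)

include hx in
theorem coeff_mul_coeff (m m' : M) : x.coeff m * x.coeff m' = if m = m' then x.coeff m else 0 := by
  rw [← ev2_tmul, ← hx.comul_eq_tmul_self, ev2_comul]

include hx in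
theorem coeff_idem (m : M) : x.coeff m * x.coeff m = x.coeff m := by
  rw [coeff_mul_coeff hx, if_pos rfl]

include hx in
theorem coeff_orth {m m' : M} (h : m ≠ m') : x.coeff m * x.coeff m' = 0 := by
  rw [coeff_mul_coeff hx, if_neg h]

theorem counit_eq_sum (y : MonoidAlgebra K M) :
    Coalgebra.counit (R := K) y = y.coeff.sum fun _ r => r := by
  induction y using MonoidAlgebra.induction_on with
  | of g => simp [MonoidAlgebra.counit_single]
  | add x y hx hy =>
    rw [map_add, hx, hy, MonoidAlgebra.coeff_add, Finsupp.sum_add_index'] <;> simp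
  | smul r x hx =>
    rw [map_smul, hx, MonoidAlgebra.coeff_smul, Finsupp.sum_smul_index']
    · rw [smul_eq_mul, Finsupp.mul_sum]
      rfl
    · simp

include hx in
/-- some coefficient of a group-like element lies outside any given proper ideal -/
theorem exists_coeff_not_mem (Q : Ideal K) (hQ : Q ≠ ⊤) : ∃ m, x.coeff m ∉ Q := by
  by_contra hcon
  push Not at hcon
  apply hQ
  rw [Ideal.eq_top_iff_one, ← hx.counit_eq_one, counit_eq_sum]
  exact Ideal.sum_mem _ (fun m _ => hcon m)

include hx in
/-- multiplying a group-like element by one of its coefficients isolates one term -/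
theorem coeff_smul (m : M) : x.coeff m • x = x.coeff m • MonoidAlgebra.single m 1 := by
  ext m'
  simp only [MonoidAlgebra.coeff_smul, Finsupp.smul_apply, smul_eq_mul]
  by_cases h : m = m'
  · subst h
    simp [coeff_idem hx]
  · rw [coeff_orth hx h]
    simp [Finsupp.single_apply, h]

omit hx in
theorem smul_single_inj {t : K} (ht : t ≠ 0) {a b : M}
    (h : t • (MonoidAlgebra.single a 1 : MonoidAlgebra K M) = t • MonoidAlgebra.single b 1) : a = b := by
  by_contra hab
  apply ht
  have := congrArg (fun y => y.coeff a) h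
  simpa [Finsupp.single_apply, hab, Ne.symm hab] using this

omit hx in
theorem smul_mul_smul_idem {t : K} (ht : t * t = t) (a b : MonoidAlgebra K M) :
    t • (a * b) = (t • a) * (t • b) := by
  rw [smul_mul_smul_comm, ht]

section L4

variable {N : Type*} [CommGroup N] [hN : Group.FG N]
  (f : MonoidAlgebra K N →ₐc[K] MonoidAlgebra K M)

omit hx in
include hN in
/-- **local structure** of a bialgebra map between group algebras at a prime -/
theorem exists_local_hom (Q : Ideal K) [hQ : Q.IsPrime] :
    ∃ (t : K) (ψ : N →* M), t * t = t ∧ t ∉ Q ∧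
      ∀ ν : N, t • f (MonoidAlgebra.single ν 1) = t • MonoidAlgebra.single (ψ ν) 1 := by
  obtain ⟨S, hS⟩ := Monoid.fg_def.mp ((Group.fg_iff_monoid_fg).mp hN)
  have hgl : ∀ ν : N, IsGroupLikeElem K (f (MonoidAlgebra.single ν 1)) := fun ν =>
    IsGroupLikeElem.map f (MonoidAlgebra.isGroupLikeElem_single_one (R := K) (A := K) ν)
  choose mm hmm using fun ν : N => exists_coeff_not_mem (hgl ν) Q hQ.ne_top
  let c : N → K := fun ν => (f (MonoidAlgebra.single ν 1)).coeff (mm ν)
  have hc : ∀ ν, c ν * c ν = c ν := fun ν => coeff_idem (hgl ν) _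
  let t : K := ∏ s ∈ S, c s
  have ht : t * t = t := by
    change (∏ s ∈ S, c s) * (∏ s ∈ S, c s) = ∏ s ∈ S, c s
    rw [← Finset.prod_mul_distrib]
    exact Finset.prod_congr rfl (fun s _ => hc s)
  have htQ : t ∉ Q := by
    intro h
    obtain ⟨s, _, hs⟩ := (hQ.prod_mem_iff).mp h
    exact hmm s hs
  have ht0 : t ≠ 0 := fun h => htQ (h ▸ Q.zero_mem)
  have hgen : ∀ s ∈ S, t • f (MonoidAlgebra.single s 1) = t • MonoidAlgebra.single (mm s) 1 := by
    intro s hs
    have h1 : t = (∏ s' ∈ S.erase s, c s') * c s := (Finset.prod_erase_mul S c hs).symm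
    rw [h1, mul_smul, mul_smul]
    congr 1
    exact coeff_smul (hgl s) (mm s)
  have hall : ∀ ν : N, ∃ m : M, t • f (MonoidAlgebra.single ν 1) = t • MonoidAlgebra.single m 1 := by
    intro ν
    have hν : ν ∈ Submonoid.closure (S : Set N) := by rw [hS]; trivial
    induction hν using Submonoid.closure_induction with
    | mem s hs => exact ⟨mm s, hgen s hs⟩
    | one => exact ⟨1, by rw [← MonoidAlgebra.one_def, map_one, ← MonoidAlgebra.one_def]⟩
    | mul a b _ _ ha hb =>
      obtain ⟨ma, hma⟩ := ha
      obtain ⟨mb, hmb⟩ := hb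
      refine ⟨ma * mb, ?_⟩
      have : (MonoidAlgebra.single (a * b) 1 : MonoidAlgebra K N) =
          MonoidAlgebra.single a 1 * MonoidAlgebra.single b 1 := by
        rw [MonoidAlgebra.single_mul_single, mul_one]
      rw [this, map_mul, smul_mul_smul_idem ht, hma, hmb, ← smul_mul_smul_idem ht,
        MonoidAlgebra.single_mul_single, mul_one]
  choose ψ hψ using hall
  refine ⟨t, MonoidHom.mk' ψ ?_, ht, htQ, hψ⟩
  intro a b
  apply smul_single_inj ht0
  have : (MonoidAlgebra.single (a * b) 1 : MonoidAlgebra K N) =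
      MonoidAlgebra.single a 1 * MonoidAlgebra.single b 1 := by
    rw [MonoidAlgebra.single_mul_single, mul_one]
  rw [← hψ, this, map_mul, smul_mul_smul_idem ht, hψ, hψ, ← smul_mul_smul_idem ht,
    MonoidAlgebra.single_mul_single, mul_one]

end L4

end Groth.Agent.Lib.Helper96.GrpLikeCoeff
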