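import Groth.Agent.Lib.Helper96.OrbitSep
import Groth.Agent.Lib.Helper96.NormalInv
import Groth.Prelude.Def_GLin
import Mathlib

/-! Geometric quotients by linearly reductive groups when all orbits are closed: surjectivity on
closed points and fibres are orbits (helper96). -/

set_option autoImplicit false

open TensorProduct WithConv
universe u
namespace Groth.Agent.Lib.Helper96

namespace GeomQuot

section Basic
variable {k : Type u} [Field k] {A : Type u} [CommRing A] [HopfAlgebra k A]
variable {R : Type u} [CommRing R] [Algebra k R] [c : HopfRep.Comod k A R] [GLin.IsCoactAlg k A R]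

theorem orbitHom_apply (x : R →ₐ[k] k) (f : R) :
    GLin.orbitHom k A x f = OrbitSep.orbMap c x f := by
  unfold GLin.orbitHom
  rw [OrbitSep.orbMap_apply]
  simp only [AlgHom.comp_apply, GLin.coactAlgHom_apply]
  generalize HopfRep.Comod.coact (k := k) (A := A) f = y
  induction y using TensorProduct.induction_on with
  | zero => simp
  | add a b ha hb => simp only [map_add, ha, hb]
  | tmul r a => simp

/-- two `k`-points with the same kernel are equal -/
theorem algHom_eq_of_ker_le {z z' : R →ₐ[k] k} (h : RingHom.ker z ≤ RingHom.ker z') : z = z' := by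
  apply AlgHom.ext
  intro f
  have h1 : f - algebraMap k R (z f) ∈ RingHom.ker z := by
    rw [RingHom.mem_ker, map_sub, AlgHom.commutes, Algebra.algebraMap_self_apply, sub_self]
  have h2 := h h1
  rw [RingHom.mem_ker, map_sub, AlgHom.commutes, Algebra.algebraMap_self_apply, sub_eq_zero] at h2
  exact h2.symm

theorem algHom_surjective (z : R →ₐ[k] k) : Function.Surjective z := by
  intro a
  exact ⟨algebraMap k R a, by rw [AlgHom.commutes, Algebra.algebraMap_self_apply]⟩

/-- a point in the closure of a closed orbit lies in the orbit -/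
theorem exists_actPt_of_isClosedOrbit [IsAlgClosed k] [Algebra.FiniteType k A]
    (x : R →ₐ[k] k) (hcl : GLin.IsClosedOrbit k A x) (z : R →ₐ[k] k)
    (hz : RingHom.ker (GLin.orbitHom k A x) ≤ RingHom.ker z) :
    ∃ g : A →ₐ[k] k, z = GLin.actPt k g x := by
  unfold GLin.IsClosedOrbit at hcl
  have hzmax : (RingHom.ker z).IsMaximal :=
    RingHom.ker_isMaximal_of_surjective z (algHom_surjective z)
  let pz : PrimeSpectrum R := ⟨RingHom.ker z, hzmax.isPrime⟩
  have hmem : pz ∈ closure (Set.range (PrimeSpectrum.comap (GLin.orbitHom k A x).toRingHom)) := by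
    rw [PrimeSpectrum.closure_range_comap, PrimeSpectrum.mem_zeroLocus]
    exact hz
  rw [hcl.closure_eq] at hmem
  obtain ⟨q, hq⟩ := hmem
  obtain ⟨n, hn, hqn⟩ := Ideal.exists_le_maximal q.asIdeal q.2.ne_top
  obtain ⟨g, hg⟩ := OrbitSep.exists_algHom_of_ne_top (k := k) n hn.ne_top
  refine ⟨g, ?_⟩
  apply algHom_eq_of_ker_le
  intro f hf
  have h1 : GLin.orbitHom k A x f ∈ q.asIdeal := by
    have h2 := congrArg PrimeSpectrum.asIdeal hq
    have h3 : f ∈ (PrimeSpectrum.comap (GLin.orbitHom k A x).toRingHom q).asIdeal := by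
      rw [h2]; exact hf
    exact h3
  rw [RingHom.mem_ker]
  exact hg _ (hqn h1)

theorem actPt_apply (g : A →ₐ[k] k) (x : R →ₐ[k] k) (f : R) :
    GLin.actPt k g x f = g (OrbitSep.orbMap c x f) := by
  unfold GLin.actPt
  rw [AlgHom.comp_apply, orbitHom_apply]

theorem actPt_toLinearMap (g : A →ₐ[k] k) (x : R →ₐ[k] k) :
    (GLin.actPt k g x).toLinearMap = g.toLinearMap ∘ₗ OrbitSep.orbMap c x := by
  apply LinearMap.ext
  intro f
  exact actPt_apply g x f

theorem actPt_actPt (g h : A →ₐ[k] k) (x : R →ₐ[k] k) :
    GLin.actPt k h (GLin.actPt k g x) = GLin.actPt k (ofConv (toConv g * toConv h)) x := by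
  apply AlgHom.ext
  intro f
  rw [actPt_apply, actPt_apply, OrbitSep.orbMap_apply, actPt_toLinearMap, LinearMap.rTensor_comp,
    LinearMap.comp_apply, OrbitSep.orbMap_comodHom]
  rw [AlgHom.convMul_def]
  simp only [ofConv_toConv, AlgHom.comp_apply, Bialgebra.comulAlgHom_apply]
  generalize Coalgebra.comul (R := k) (OrbitSep.orbMap c x f) = w
  induction w using TensorProduct.induction_on with
  | zero => simp
  | add a b ha hb => simp only [map_add, ha, hb]
  | tmul a b => simp

theorem actPt_one (x : R →ₐ[k] k) :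
    GLin.actPt k (ofConv (1 : WithConv (A →ₐ[k] k))) x = x := by
  apply AlgHom.ext
  intro f
  rw [actPt_apply, AlgHom.convOne_def]
  simp only [ofConv_toConv, AlgHom.comp_apply, Bialgebra.counitAlgHom_apply]
  rw [OrbitSep.counit_orbMap]
  rfl

end Basic

section Main
variable {k : Type u} [Field k] [IsAlgClosed k] {A : Type u} [CommRing A] [HopfAlgebra k A]
  [Algebra.FiniteType k A]
variable {R : Type u} [CommRing R] [Algebra k R] [Algebra.FiniteType k R]
  [c : HopfRep.Comod k A R] [GLin.IsCoactAlg k A R]

/-- for a linearly reductive group acting on an affine scheme of finite type with all orbits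
closed, the quotient map is surjective on closed points with fibres single orbits -/
theorem geomQuot (hG : HopfRep.IsLinearlyReductive k A)
    (hcl : ∀ x : R →ₐ[k] k, GLin.IsClosedOrbit k A x)
    (y : GLin.invariants k A R →ₐ[k] k) :
    (∃ x : R →ₐ[k] k, x.comp (GLin.invariants k A R).val = y) ∧
      ∀ x x' : R →ₐ[k] k, x.comp (GLin.invariants k A R).val = y →
        x'.comp (GLin.invariants k A R).val = y →
          ∃ g : A →ₐ[k] k, x' = GLin.actPt k g x := by
  classical
  obtain ⟨α, hα, h1⟩ := (isLinearlyReductive_iff_exists_integral (k := k) (A := A)).mp hG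
  have hmul : ∀ f g : R, c.coact (f * g) = c.coact f * c.coact g :=
    GLin.IsCoactAlg.coact_mul (k := k) (A := A)
  have hone : c.coact (1 : R) = 1 := GLin.IsCoactAlg.coact_one (k := k) (A := A)
  have hE_fix : ∀ r : R, reyn c α r ∈ GLin.invariants k A R := fun r => coact_reyn c α hα r
  have hone' : c.coact (1 : R) = (1 : R) ⊗ₜ[k] (1 : A) := by
    rw [hone, Algebra.TensorProduct.one_def]
  have hE1 : reyn c α 1 = 1 := reyn_of_fixed c α h1 hone'
  constructor
  · let J : Ideal R := Ideal.span {f : R | ∃ hf : f ∈ GLin.invariants k A R, y ⟨f, hf⟩ = 0}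
    let Einv : R →ₗ[k] GLin.invariants k A R :=
      LinearMap.codRestrict (Subalgebra.toSubmodule (GLin.invariants k A R)) (reyn c α) hE_fix
    have hEinv : ∀ r : R, ((Einv r : GLin.invariants k A R) : R) = reyn c α r := fun r => rfl
    have key : ∀ r ∈ J, ∀ s : R, y (Einv (s * r)) = 0 := by
      intro r hr
      refine Submodule.span_induction ?_ ?_ ?_ ?_ hr
      · rintro f ⟨hf, hyf⟩ s
        have h2 : reyn c α (s * f) = reyn c α s * f := reyn_mul_fixed c α hmul s f hf
        have e : Einv (s * f) = Einv s * ⟨f, hf⟩ := Subtype.ext h2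
        rw [e, map_mul, hyf, mul_zero]
      · intro s
        rw [mul_zero, map_zero, map_zero]
      · intro a b _ _ ha hb s
        rw [mul_add, map_add, map_add, ha, hb, add_zero]
      · intro t a _ ha s
        rw [smul_eq_mul, ← mul_assoc]
        exact ha (s * t)
    have hJ : J ≠ ⊤ := by
      intro htop
      have h1J : (1 : R) ∈ J := by rw [htop]; trivial
      have h2 := key 1 h1J 1
      have e : Einv (1 * 1) = 1 := Subtype.ext (by rw [mul_one, hEinv, hE1]; rfl)
      rw [e, map_one] at h2
      exact one_ne_zero h2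
    obtain ⟨x, hx⟩ := OrbitSep.exists_algHom_of_ne_top (k := k) J hJ
    refine ⟨x, ?_⟩
    apply AlgHom.ext
    intro f
    have hmem : ((f - algebraMap k (GLin.invariants k A R) (y f) : GLin.invariants k A R) : R) ∈ J := by
      apply Ideal.subset_span
      refine ⟨(f - algebraMap k (GLin.invariants k A R) (y f)).2, ?_⟩
      rw [Subtype.coe_eta, map_sub, AlgHom.commutes, Algebra.algebraMap_self_apply, sub_self]
    have h3 := hx _ hmem
    rw [AlgHom.comp_apply]
    simp only [Subalgebra.coe_val] at *
    rw [Subalgebra.coe_sub, map_sub, Subalgebra.coe_algebraMap, AlgHom.commutes,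
      Algebra.algebraMap_self_apply, sub_eq_zero] at h3
    exact h3
  · intro x x' hx hx'
    have hinv : ∀ (f : R) (hf : f ∈ GLin.invariants k A R), x f = x' f := by
      intro f hf
      have e1 := AlgHom.congr_fun hx ⟨f, hf⟩
      have e2 := AlgHom.congr_fun hx' ⟨f, hf⟩
      rw [AlgHom.comp_apply] at e1 e2
      simp only [Subalgebra.coe_val] at e1 e2
      rw [e1, e2]
    have hne : RingHom.ker (GLin.orbitHom k A x) ⊔ RingHom.ker (GLin.orbitHom k A x') ≠ ⊤ := by
      intro htop
      have h1mem : (1 : R) ∈ RingHom.ker (GLin.orbitHom k A x) ⊔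
          RingHom.ker (GLin.orbitHom k A x') := by rw [htop]; trivial
      obtain ⟨a, ha, b, hb, hab⟩ := Submodule.mem_sup.mp h1mem
      rw [RingHom.mem_ker, orbitHom_apply] at ha hb
      have hsum : reyn c α a + reyn c α b = 1 := by rw [← map_add, hab, hE1]
      have hEa : OrbitSep.orbMap c x (reyn c α a) = 0 := by
        have hsub := OrbitSep.isSub_ker_orbMap c x
        rw [isSub_iff_slice] at hsub
        exact hsub a (LinearMap.mem_ker.mpr ha) _
      have hEb : OrbitSep.orbMap c x' (reyn c α b) = 0 := by
        have hsub := OrbitSep.isSub_ker_orbMap c x'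
        rw [isSub_iff_slice] at hsub
        exact hsub b (LinearMap.mem_ker.mpr hb) _
      have hx0 : x (reyn c α a) = 0 := by
        rw [← OrbitSep.counit_orbMap c x, hEa, map_zero]
      have hy0 : x' (reyn c α b) = 0 := by
        rw [← OrbitSep.counit_orbMap c x', hEb, map_zero]
      have hy1 : x' (reyn c α a) = 1 := by
        have := congrArg x' hsum
        rw [map_add, hy0, add_zero, map_one] at this
        exact this
      have := hinv (reyn c α a) (hE_fix a)
      rw [hx0, hy1] at this
      exact zero_ne_one this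
    obtain ⟨z, hz⟩ := OrbitSep.exists_algHom_of_ne_top (k := k) _ hne
    obtain ⟨g, hg⟩ := exists_actPt_of_isClosedOrbit x (hcl x) z
      (fun f hf => hz f ((le_sup_left : _ ≤ RingHom.ker (GLin.orbitHom k A x) ⊔
        RingHom.ker (GLin.orbitHom k A x')) hf))
    obtain ⟨g', hg'⟩ := exists_actPt_of_isClosedOrbit x' (hcl x') z
      (fun f hf => hz f ((le_sup_right : _ ≤ RingHom.ker (GLin.orbitHom k A x) ⊔
        RingHom.ker (GLin.orbitHom k A x')) hf))
    refine ⟨ofConv (toConv g * toConv (g'.comp (HopfAlgebra.antipodeAlgHom k A))), ?_⟩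
    rw [← actPt_actPt, ← hg, hg', actPt_actPt, NormalInv.mul_inv g', actPt_one]

end Main

end GeomQuot

end Groth.Agent.Lib.Helper96
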