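import Groth.Agent.Lib.Helper96.Coeff

/-!
# Coefficient spaces of simple comodules; simple subcoalgebras
-/

set_option autoImplicit false

universe u v w w'

open TensorProduct

namespace Groth.Agent.Lib.Helper96

section CoeffSimple

variable {k : Type u} [Field k] {C : Type v} [AddCommGroup C] [Module k C] [Coalgebra k C]
variable {V : Type w} [AddCommGroup V] [Module k V]
variable {W : Type w'} [AddCommGroup W] [Module k W]

/-- simple subcoalgebra predicate, in the form used by the statements -/
abbrev IsSimpleSubcoalg (D : Submodule k C) : Prop :=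
  D ≠ ⊥ ∧ IsSubcoalg D ∧ ∀ B : Submodule k C, B ≤ D → IsSubcoalg B → B = ⊥ ∨ B = D

/-- the image of a simple comodule under an injective comodule map is a minimal subcomodule -/
theorem isMinSub_range_of_injective {c : HopfRep.Comod k C V} {c' : HopfRep.Comod k C W}
    (hV : @HopfRep.IsSimpleComod k C _ _ _ _ V _ _ c) {f : V →ₗ[k] W} (hf : IsHom c c' f)
    (hinj : Function.Injective f) : IsMinSub c' (LinearMap.range f) := by
  refine ⟨isSub_range hf, ?_, ?_⟩
  · intro h0
    obtain ⟨hnt, -⟩ := hV
    obtain ⟨v, hv⟩ := exists_ne (0 : V)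
    apply hv
    apply hinj
    have : f v ∈ LinearMap.range f := ⟨v, rfl⟩
    rw [h0, Submodule.mem_bot] at this
    rw [this, map_zero]
  · intro X hX hle
    have hmap : (X.comap f).map f = X := Submodule.map_comap_eq_of_le hle
    rcases hV.2 _ (isSub_comap hf hX) with h0 | h1
    · left
      rw [← hmap, h0, Submodule.map_bot]
    · right
      rw [← hmap, h1, Submodule.map_top]

/-- the image of a minimal subcomodule under a comodule map is zero or minimal -/
theorem map_eq_bot_or_isMinSub {c : HopfRep.Comod k C V} {c' : HopfRep.Comod k C W}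
    {M : Submodule k V} (hM : IsMinSub c M) {f : V →ₗ[k] W} (hf : IsHom c c' f) :
    M.map f = ⊥ ∨ IsMinSub c' (M.map f) := by
  have hs := isSimple_restr_of_isMinSub c hM
  have hcomp : IsHom (ComodSub.Comod.restr c M hM.1) c' (f ∘ₗ M.subtype) :=
    isHom_comp (ComodSub.isComodHom_subtype c M hM.1) hf
  have hr : LinearMap.range (f ∘ₗ M.subtype) = M.map f := by
    rw [LinearMap.range_comp, Submodule.range_subtype]
  rcases eq_zero_or_injective_of_isSimple hs hcomp with h0 | hinj
  · left
    rw [← hr, h0, LinearMap.range_zero]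
  · right
    rw [← hr]
    exact isMinSub_range_of_injective hs hcomp hinj

/-- a minimal subcomodule of the regular comodule contained in the coefficient space of a simple
comodule `V` is the image of an injective comodule map from `V` -/
theorem exists_injective_isHom_of_le_cf (c : HopfRep.Comod k C V)
    (hV : @HopfRep.IsSimpleComod k C _ _ _ _ V _ _ c)
    (M : Submodule k C) (hM : IsMinSub (HopfRep.Comod.regular k C) M) (hle : M ≤ cf c) :
    ∃ j : V →ₗ[k] C, IsHom c (HopfRep.Comod.regular k C) j ∧ Function.Injective j ∧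
      LinearMap.range j = M := by
  have hs := isSimple_restr_of_isMinSub _ hM
  have hsub := ComodSub.isComodHom_subtype (HopfRep.Comod.regular k C) M hM.1
  have hne : M.subtype ≠ 0 := by
    intro h0
    apply hM.2.1
    rw [← Submodule.range_subtype M, h0, LinearMap.range_zero]
  have hle' : LinearMap.range M.subtype ≤ ⨆ φ : Module.Dual k V, LinearMap.range (cfMap c φ) := by
    rw [Submodule.range_subtype, ← cf_eq_iSup_range]
    exact hle
  obtain ⟨φ, e, he⟩ := exists_iso_of_le_iSup (fun _ : Module.Dual k V => V) (fun _ => c)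
    (fun _ => hV) M (ComodSub.Comod.restr (HopfRep.Comod.regular k C) M hM.1) hs C
    (HopfRep.Comod.regular k C) (cfMap c) (isHom_cfMap c) M.subtype hsub hne hle'
  refine ⟨M.subtype ∘ₗ e.symm.toLinearMap, isHom_comp (isHom_symm e he) hsub, ?_, ?_⟩
  · exact M.injective_subtype.comp e.symm.injective
  · rw [LinearMap.range_comp, LinearEquiv.range, Submodule.map_top, Submodule.range_subtype]

/-- a nonzero subcoalgebra inside the coefficient space of a simple comodule is everything -/
theorem cf_le_of_isSubcoalg_le (c : HopfRep.Comod k C V)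
    (hV : @HopfRep.IsSimpleComod k C _ _ _ _ V _ _ c)
    (B : Submodule k C) (hB : IsSubcoalg B) (hne : B ≠ ⊥) (hle : B ≤ cf c) : cf c ≤ B := by
  obtain ⟨M, hMB, -, hM⟩ := exists_isMinSub_le (HopfRep.Comod.regular k C)
    (isSub_of_isSubcoalg B hB) hne
  obtain ⟨j, hj, hinj, hr⟩ := exists_injective_isHom_of_le_cf c hV M hM (hMB.trans hle)
  exact cf_le_of_injective_isHom c j hj hinj B hB (by rw [hr]; exact hMB)

/-- the coefficient space of a simple comodule is a simple subcoalgebra -/
theorem isSimpleSubcoalg_cf (c : HopfRep.Comod k C V)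
    (hV : @HopfRep.IsSimpleComod k C _ _ _ _ V _ _ c) : IsSimpleSubcoalg (cf c) := by
  have := hV.1
  refine ⟨cf_ne_bot c, isSubcoalg_cf c, ?_⟩
  intro B hle hB
  by_cases h0 : B = ⊥
  · exact Or.inl h0
  · exact Or.inr (le_antisymm hle (cf_le_of_isSubcoalg_le c hV B hB h0 hle))

/-- every simple subcoalgebra is the coefficient space of a minimal subcomodule of the regular
comodule contained in it -/
theorem exists_isMinSub_cf_eq (D : Submodule k C) (hD : IsSimpleSubcoalg D) :
    ∃ (E : Submodule k C) (hE : IsMinSub (HopfRep.Comod.regular k C) E), E ≤ D ∧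
      cf (ComodSub.Comod.restr (HopfRep.Comod.regular k C) E hE.1) = D := by
  obtain ⟨E, hED, -, hE⟩ := exists_isMinSub_le (HopfRep.Comod.regular k C)
    (isSub_of_isSubcoalg D hD.2.1) hD.1
  refine ⟨E, hE, hED, ?_⟩
  have hle := cf_restr_le E hE.1 D hD.2.1 hED
  have : Nontrivial E := (Submodule.nontrivial_iff_ne_bot).mpr hE.2.1
  rcases hD.2.2 _ hle (isSubcoalg_cf _) with h0 | h1
  · exact absurd h0 (cf_ne_bot _)
  · exact h1

/-- the `IsLeast` form (as in the statements) of the coefficient space of a subcomodule of the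
regular comodule -/
theorem isLeast_cf_restr (E : Submodule k C) (hE : IsSub (HopfRep.Comod.regular k C) E) :
    IsLeast {D' : Submodule k C | ∀ e ∈ E, CoalgebraStruct.comul (R := k) e ∈
      LinearMap.range (TensorProduct.map E.subtype D'.subtype)}
      (cf (ComodSub.Comod.restr (HopfRep.Comod.regular k C) E hE)) := by
  constructor
  · intro e he
    obtain ⟨z, hz⟩ := coact_mem_cf (ComodSub.Comod.restr (HopfRep.Comod.regular k C) E hE) ⟨e, he⟩
    refine ⟨z, ?_⟩
    have h1 := ComodSub.restr_coact_coe (HopfRep.Comod.regular k C) E hE ⟨e, he⟩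
    have h2 : (HopfRep.Comod.regular k C).coact e = CoalgebraStruct.comul (R := k) e := rfl
    rw [← h2, ← h1, ← hz, ← LinearMap.comp_apply, LinearMap.rTensor_comp_lTensor]
  · intro D' hD'
    rw [cf_le_iff]
    intro e
    obtain ⟨z, hz⟩ := hD' e.1 e.2
    refine ⟨z, ?_⟩
    apply ComodSub.rTensor_subtype_injective (A := C) E
    have h1 := ComodSub.restr_coact_coe (HopfRep.Comod.regular k C) E hE e
    have h2 : (HopfRep.Comod.regular k C).coact (e : C) = CoalgebraStruct.comul (R := k) (e : C) :=
      rfl
    rw [h1, h2, ← hz, ← LinearMap.comp_apply, LinearMap.rTensor_comp_lTensor]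

/-- a simple subcoalgebra is a sum of minimal subcomodules of the regular comodule -/
theorem le_iSup_isMinSub_of_isSimpleSubcoalg (D : Submodule k C) (hD : IsSimpleSubcoalg D) :
    D ≤ ⨆ M : {M : Submodule k C // IsMinSub (HopfRep.Comod.regular k C) M},
      (M.1 : Submodule k C) := by
  obtain ⟨E, hE, -, hcf⟩ := exists_isMinSub_cf_eq D hD
  have hs := isSimple_restr_of_isMinSub _ hE
  rw [← hcf, cf_eq_iSup_range]
  apply iSup_le
  intro φ
  rcases eq_zero_or_injective_of_isSimple hs (isHom_cfMap _ φ) with h0 | hinj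
  · rw [h0, LinearMap.range_zero]
    exact bot_le
  · exact le_iSup (fun M : {M : Submodule k C // IsMinSub (HopfRep.Comod.regular k C) M} =>
      (M.1 : Submodule k C)) ⟨_, isMinSub_range_of_injective hs (isHom_cfMap _ φ) hinj⟩

end CoeffSimple

end Groth.Agent.Lib.Helper96

namespace Groth.Agent.Lib.Helper96

section CoeffIso

variable {k : Type u} [Field k] {C : Type v} [AddCommGroup C] [Module k C] [Coalgebra k C]
variable {V : Type w} [AddCommGroup V] [Module k V]
variable {W : Type w'} [AddCommGroup W] [Module k W]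

/-- a simple comodule whose coefficient space lies in that of another simple comodule is
isomorphic to it -/
theorem exists_iso_of_cf_le (cV : HopfRep.Comod k C V) (cW : HopfRep.Comod k C W)
    (hV : @HopfRep.IsSimpleComod k C _ _ _ _ V _ _ cV)
    (hW : @HopfRep.IsSimpleComod k C _ _ _ _ W _ _ cW) (hle : cf cW ≤ cf cV) :
    ∃ e : V ≃ₗ[k] W, IsHom cV cW e.toLinearMap := by
  have := hW.1
  have hne : ∃ ψ : Module.Dual k W, cfMap cW ψ ≠ 0 := by
    by_contra hcon
    push Not at hcon
    apply cf_ne_bot cW
    rw [cf_eq_iSup_range, eq_bot_iff]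
    apply iSup_le
    intro ψ
    rw [hcon ψ, LinearMap.range_zero]
  obtain ⟨ψ, hψ⟩ := hne
  have hle' : LinearMap.range (cfMap cW ψ) ≤
      ⨆ φ : Module.Dual k V, LinearMap.range (cfMap cV φ) := by
    rw [← cf_eq_iSup_range]
    refine le_trans ?_ hle
    rw [cf_eq_iSup_range]
    exact le_iSup (fun ψ : Module.Dual k W => LinearMap.range (cfMap cW ψ)) ψ
  obtain ⟨φ, e, he⟩ := exists_iso_of_le_iSup (fun _ : Module.Dual k V => V) (fun _ => cV)
    (fun _ => hV) W cW hW C (HopfRep.Comod.regular k C) (cfMap cV) (isHom_cfMap cV)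
    (cfMap cW ψ) (isHom_cfMap cW ψ) hψ hle'
  exact ⟨e.symm, isHom_symm e he⟩

end CoeffIso

end Groth.Agent.Lib.Helper96

namespace Groth.Agent.Lib.Helper96

section CoeffHom

variable {k : Type u} [Field k] {C : Type v} [AddCommGroup C] [Module k C] [Coalgebra k C]
variable {V : Type w} [AddCommGroup V] [Module k V]
variable {W : Type w'} [AddCommGroup W] [Module k W]

/-- a comodule with zero coefficient space is zero -/
theorem subsingleton_of_cf_eq_bot (c : HopfRep.Comod k C V) (h : cf c = ⊥) : Subsingleton V := by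
  by_contra hcon
  rw [not_subsingleton_iff_nontrivial] at hcon
  exact cf_ne_bot c h

/-- no nonzero comodule maps between comodules with coefficients in distinct simple
subcoalgebras -/
theorem eq_zero_of_cf_le_of_ne (cV : HopfRep.Comod k C V) (cW : HopfRep.Comod k C W)
    (D₁ D₂ : Submodule k C) (h₁ : IsSimpleSubcoalg D₁) (h₂ : IsSimpleSubcoalg D₂) (hne : D₁ ≠ D₂)
    (hV : cf cV ≤ D₁) (hW : cf cW ≤ D₂) (φ : V →ₗ[k] W) (hφ : IsHom cV cW φ) : φ = 0 := by
  have hU : IsSub cW (LinearMap.range φ) := isSub_range hφ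
  set cU := ComodSub.Comod.restr cW (LinearMap.range φ) hU with hcU
  have hsub : IsHom cU cW (LinearMap.range φ).subtype := ComodSub.isComodHom_subtype cW _ hU
  have hφ' : IsHom cV cU φ.rangeRestrict :=
    isHom_of_comp_injective (h := φ.rangeRestrict) hsub (LinearMap.range φ).injective_subtype hφ
      (by ext x; rfl)
  have hle₁ : cf cU ≤ D₁ :=
    (cf_le_of_surjective cV cU φ.rangeRestrict hφ' φ.surjective_rangeRestrict).trans hV
  have hle₂ : cf cU ≤ D₂ :=
    (cf_le_of_injective cU cW _ hsub (LinearMap.range φ).injective_subtype).trans hW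
  have h0 : cf cU = ⊥ := by
    rcases h₁.2.2 _ hle₁ (isSubcoalg_cf cU) with h | h
    · exact h
    · rcases h₂.2.2 _ hle₂ (isSubcoalg_cf cU) with h' | h'
      · exact h'
      · exact absurd (h.symm.trans h') hne
  have hss := subsingleton_of_cf_eq_bot cU h0
  apply LinearMap.ext
  intro v
  have : φ.rangeRestrict v = 0 := Subsingleton.elim _ _
  have h2 := congrArg Subtype.val this
  exact h2

end CoeffHom

end Groth.Agent.Lib.Helper96
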