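import Groth.Prelude.Def_HopfRep
import Groth.Prelude.Def_Hoch
import Groth.Prelude.Def_ComodSub
import Mathlib.LinearAlgebra.TensorProduct.Basis
import Mathlib.LinearAlgebra.TensorProduct.RightExactness
import Mathlib.LinearAlgebra.Basis.VectorSpace
import Mathlib.LinearAlgebra.FreeModule.Basic
import Mathlib.RingTheory.Flat.Basic
import Mathlib.LinearAlgebra.FiniteDimensional.Lemmas
import Mathlib.LinearAlgebra.Dimension.Constructions

set_option autoImplicit false

universe u v w w'

open TensorProduct

namespace Groth.Agent.Lib.Helper96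

/-! ### Slices -/
section Slice

variable {k : Type u} [CommRing k] {V : Type w} [AddCommGroup V] [Module k V]
  {V' : Type w'} [AddCommGroup V'] [Module k V']
  {B : Type v} [AddCommGroup B] [Module k B]

/-- contraction of the second factor against a linear form -/
noncomputable def slice (V : Type w) [AddCommGroup V] [Module k V] (g : B →ₗ[k] k) :
    V ⊗[k] B →ₗ[k] V :=
  (TensorProduct.rid k V).toLinearMap ∘ₗ g.lTensor V

@[simp] theorem slice_tmul (g : B →ₗ[k] k) (v : V) (b : B) : slice V g (v ⊗ₜ[k] b) = g b • v := by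
  simp [slice]

theorem slice_rTensor (g : B →ₗ[k] k) (h : V →ₗ[k] V') (x : V ⊗[k] B) :
    slice V' g (h.rTensor B x) = h (slice V g x) := by
  induction x using TensorProduct.induction_on with
  | zero => simp
  | add x y hx hy => simp only [map_add, hx, hy]
  | tmul v b => simp

theorem slice_lTensor {B' : Type*} [AddCommGroup B'] [Module k B'] (g : B' →ₗ[k] k)
    (φ : B →ₗ[k] B') (x : V ⊗[k] B) :
    slice V g (φ.lTensor V x) = slice V (g ∘ₗ φ) x := by
  induction x using TensorProduct.induction_on with
  | zero => simp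
  | add x y hx hy => simp only [map_add, hx, hy]
  | tmul v b => simp

theorem slice_add (g g' : B →ₗ[k] k) (x : V ⊗[k] B) :
    slice V (g + g') x = slice V g x + slice V g' x := by
  induction x using TensorProduct.induction_on with
  | zero => simp
  | add x y hx hy => simp only [map_add, hx, hy]; abel
  | tmul v b => simp [add_smul]

theorem slice_smul (c : k) (g : B →ₗ[k] k) (x : V ⊗[k] B) :
    slice V (c • g) x = c • slice V g x := by
  induction x using TensorProduct.induction_on with
  | zero => simp
  | add x y hx hy => simp only [map_add, hx, hy, smul_add]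
  | tmul v b => simp [mul_smul]

/-- the slices as a linear map in the form -/
noncomputable def sliceMap (x : V ⊗[k] B) : Module.Dual k B →ₗ[k] V where
  toFun g := slice V g x
  map_add' g g' := slice_add g g' x
  map_smul' c g := slice_smul c g x

@[simp] theorem sliceMap_apply (x : V ⊗[k] B) (g : Module.Dual k B) : sliceMap x g = slice V g x := rfl

theorem slice_slice {B' : Type*} [AddCommGroup B'] [Module k B'] (g : B →ₗ[k] k) (f : B' →ₗ[k] k)
    (z : (V ⊗[k] B) ⊗[k] B') :
    slice V g (slice (V ⊗[k] B) f z) =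
      slice V (LinearMap.mul' k k ∘ₗ TensorProduct.map g f) (TensorProduct.assoc k V B B' z) := by
  induction z using TensorProduct.induction_on with
  | zero => simp
  | add x y hx hy => simp only [map_add, hx, hy]
  | tmul y b' =>
    induction y using TensorProduct.induction_on with
    | zero => simp
    | add x y hx hy => simp only [add_tmul, map_add, hx, hy]
    | tmul v b =>
      simp [mul_smul]
      rw [smul_comm]

end Slice

/-! ### Membership in `W ⊗ B` over a field -/
section Mem

variable {k : Type u} [Field k] {V : Type w} [AddCommGroup V] [Module k V]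
  {B : Type v} [AddCommGroup B] [Module k B]

theorem equivFinsupp_apply_eq_slice {J : Type*} [DecidableEq J] (𝒞 : Module.Basis J k B)
    (y : V ⊗[k] B) (j : J) :
    (TensorProduct.equivFinsuppOfBasisRight 𝒞 y) j = slice V (𝒞.coord j) y := by
  induction y using TensorProduct.induction_on with
  | zero => simp
  | add x y hx hy => simp only [map_add, Finsupp.add_apply, hx, hy]
  | tmul m n =>
    rw [TensorProduct.equivFinsuppOfBasisRight_apply_tmul_apply, slice_tmul, Module.Basis.coord_apply]

theorem mem_range_rTensor_subtype_iff (W : Submodule k V) (y : V ⊗[k] B) :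
    y ∈ LinearMap.range (W.subtype.rTensor B) ↔ ∀ g : Module.Dual k B, slice V g y ∈ W := by
  classical
  constructor
  · rintro ⟨z, rfl⟩ g
    rw [slice_rTensor]
    exact (slice W g z).2
  · intro h
    let 𝒞 := Module.Free.chooseBasis k B
    let e := TensorProduct.equivFinsuppOfBasisRight (M := V) 𝒞
    have hy : y = e.symm (e y) := (e.symm_apply_apply y).symm
    rw [hy, TensorProduct.equivFinsuppOfBasisRight_symm_apply, Finsupp.sum]
    refine Submodule.sum_mem _ (fun j _ => ?_)
    have hj : (e y) j ∈ W := by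
      rw [equivFinsupp_apply_eq_slice]
      exact h _
    exact ⟨(⟨(e y) j, hj⟩ : W) ⊗ₜ[k] 𝒞 j, by simp⟩

end Mem

/-! ### Subcomodules over a field -/
section Sub

variable {k : Type u} [Field k] {A : Type v} [AddCommGroup A] [Module k A] [Coalgebra k A]
variable {V : Type w} [AddCommGroup V] [Module k V]
variable {V' : Type w'} [AddCommGroup V'] [Module k V']

/-- `HopfRep.IsSubcomod` with the structure explicit -/
abbrev IsSub (c : HopfRep.Comod k A V) (W : Submodule k V) : Prop :=
  @HopfRep.IsSubcomod k A _ _ _ _ V _ _ c W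

/-- `Hoch.IsComodHom` with the structures explicit -/
abbrev IsHom (c : HopfRep.Comod k A V) (c' : HopfRep.Comod k A V') (f : V →ₗ[k] V') : Prop :=
  @Hoch.IsComodHom k _ A _ _ _ V _ _ c V' _ _ c' f

theorem isSub_iff_slice (c : HopfRep.Comod k A V) (W : Submodule k V) :
    IsSub c W ↔ ∀ w ∈ W, ∀ g : Module.Dual k A, slice V g (c.coact w) ∈ W := by
  unfold IsSub HopfRep.IsSubcomod
  constructor
  · intro h w hw
    exact (mem_range_rTensor_subtype_iff W _).mp (h w hw)
  · intro h w hw
    exact (mem_range_rTensor_subtype_iff W _).mpr (h w hw)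

theorem isSub_bot (c : HopfRep.Comod k A V) : IsSub c ⊥ := by
  rw [isSub_iff_slice]
  intro w hw g
  rw [Submodule.mem_bot] at hw
  simp [hw]

theorem isSub_top (c : HopfRep.Comod k A V) : IsSub c ⊤ := by
  rw [isSub_iff_slice]
  intro w _ g
  trivial

theorem isSub_sup (c : HopfRep.Comod k A V) {W₁ W₂ : Submodule k V} (h₁ : IsSub c W₁)
    (h₂ : IsSub c W₂) : IsSub c (W₁ ⊔ W₂) := by
  rw [isSub_iff_slice] at *
  intro w hw g
  obtain ⟨w₁, hw₁, w₂, hw₂, rfl⟩ := Submodule.mem_sup.mp hw
  rw [map_add, map_add]
  exact Submodule.add_mem _ (Submodule.mem_sup_left (h₁ w₁ hw₁ g))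
    (Submodule.mem_sup_right (h₂ w₂ hw₂ g))

theorem isSub_inf (c : HopfRep.Comod k A V) {W₁ W₂ : Submodule k V} (h₁ : IsSub c W₁)
    (h₂ : IsSub c W₂) : IsSub c (W₁ ⊓ W₂) := by
  rw [isSub_iff_slice] at *
  intro w hw g
  exact ⟨h₁ w hw.1 g, h₂ w hw.2 g⟩

theorem isSub_iInf (c : HopfRep.Comod k A V) {ι : Sort*} {W : ι → Submodule k V}
    (h : ∀ i, IsSub c (W i)) : IsSub c (⨅ i, W i) := by
  simp only [isSub_iff_slice] at *
  intro w hw g
  rw [Submodule.mem_iInf] at hw ⊢
  intro i
  exact h i w (hw i) g

theorem isSub_sInf (c : HopfRep.Comod k A V) {S : Set (Submodule k V)}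
    (h : ∀ W ∈ S, IsSub c W) : IsSub c (sInf S) := by
  rw [sInf_eq_iInf']
  exact isSub_iInf c (fun i => h i.1 i.2)

theorem isSub_iSup (c : HopfRep.Comod k A V) {ι : Sort*} {W : ι → Submodule k V}
    (h : ∀ i, IsSub c (W i)) : IsSub c (⨆ i, W i) := by
  simp only [isSub_iff_slice] at *
  intro w hw g
  refine Submodule.iSup_induction W (motive := fun w => slice V g (c.coact w) ∈ ⨆ i, W i) hw ?_ ?_ ?_
  · intro i x hx
    exact Submodule.mem_iSup_of_mem i (h i x hx g)
  · simp
  · intro x y hx hy
    rw [map_add, map_add]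
    exact Submodule.add_mem _ hx hy

theorem isSub_sSup (c : HopfRep.Comod k A V) {S : Set (Submodule k V)}
    (h : ∀ W ∈ S, IsSub c W) : IsSub c (sSup S) := by
  rw [sSup_eq_iSup']
  exact isSub_iSup c (fun i => h i.1 i.2)

theorem isHom_apply {c : HopfRep.Comod k A V} {c' : HopfRep.Comod k A V'} {f : V →ₗ[k] V'}
    (hf : IsHom c c' f) (v : V) : c'.coact (f v) = f.rTensor A (c.coact v) :=
  LinearMap.congr_fun hf v

theorem isSub_comap {c : HopfRep.Comod k A V} {c' : HopfRep.Comod k A V'} {f : V →ₗ[k] V'}
    (hf : IsHom c c' f) {U : Submodule k V'} (hU : IsSub c' U) : IsSub c (U.comap f) := by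
  rw [isSub_iff_slice] at *
  intro w hw g
  rw [Submodule.mem_comap, ← slice_rTensor, ← isHom_apply hf]
  exact hU (f w) hw g

theorem isSub_map {c : HopfRep.Comod k A V} {c' : HopfRep.Comod k A V'} {f : V →ₗ[k] V'}
    (hf : IsHom c c' f) {U : Submodule k V} (hU : IsSub c U) : IsSub c' (U.map f) := by
  rw [isSub_iff_slice] at *
  rintro _ ⟨u, hu, rfl⟩ g
  rw [isHom_apply hf, slice_rTensor]
  exact ⟨_, hU u hu g, rfl⟩

theorem isSub_ker {c : HopfRep.Comod k A V} {c' : HopfRep.Comod k A V'} {f : V →ₗ[k] V'}
    (hf : IsHom c c' f) : IsSub c (LinearMap.ker f) := by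
  have := isSub_comap hf (isSub_bot c')
  rwa [Submodule.comap_bot] at this

theorem isSub_range {c : HopfRep.Comod k A V} {c' : HopfRep.Comod k A V'} {f : V →ₗ[k] V'}
    (hf : IsHom c c' f) : IsSub c' (LinearMap.range f) := by
  have := isSub_map hf (isSub_top c)
  rwa [Submodule.map_top] at this

end Sub

/-! ### Local finiteness -/
section Fund

variable {k : Type u} [Field k] {A : Type v} [AddCommGroup A] [Module k A] [Coalgebra k A]
variable {V : Type w} [AddCommGroup V] [Module k V]

/-- convolution of two linear forms on a coalgebra -/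
noncomputable def convForm (g f : Module.Dual k A) : Module.Dual k A :=
  (LinearMap.mul' k k ∘ₗ TensorProduct.map g f) ∘ₗ (CoalgebraStruct.comul (R := k) (A := A))

theorem slice_counit_coact (c : HopfRep.Comod k A V) (v : V) :
    slice V (CoalgebraStruct.counit (R := k) (A := A)) (c.coact v) = v := by
  have h := LinearMap.congr_fun c.counit_comp v
  simp only [LinearMap.coe_comp, Function.comp_apply, LinearMap.flip_apply,
    TensorProduct.mk_apply] at h
  unfold slice
  rw [LinearMap.comp_apply, h]
  simp

theorem slice_coact_slice (c : HopfRep.Comod k A V) (f g : Module.Dual k A) (v : V) :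
    slice V g (c.coact (slice V f (c.coact v))) = slice V (convForm g f) (c.coact v) := by
  have hco := LinearMap.congr_fun c.coassoc v
  simp only [LinearMap.coe_comp, Function.comp_apply, LinearEquiv.coe_coe] at hco
  rw [← slice_rTensor f c.coact (c.coact v), slice_slice, hco, slice_lTensor]
  rfl

/-- the subspace of all slices of `ρ v` -/
noncomputable def orbit (c : HopfRep.Comod k A V) (v : V) : Submodule k V :=
  LinearMap.range (sliceMap (c.coact v))

theorem mem_orbit_self (c : HopfRep.Comod k A V) (v : V) : v ∈ orbit c v :=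
  ⟨CoalgebraStruct.counit (R := k) (A := A), slice_counit_coact c v⟩

theorem isSub_orbit (c : HopfRep.Comod k A V) (v : V) : IsSub c (orbit c v) := by
  rw [isSub_iff_slice]
  rintro _ ⟨f, rfl⟩ g
  exact ⟨convForm g f, (slice_coact_slice c f g v).symm⟩

theorem exists_finset_slice_mem {B : Type*} [AddCommGroup B] [Module k B] (x : V ⊗[k] B) :
    ∃ s : Finset V, ∀ g : Module.Dual k B, slice V g x ∈ Submodule.span k (s : Set V) := by
  classical
  induction x using TensorProduct.induction_on with
  | zero => exact ⟨∅, fun g => by simp⟩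
  | tmul v b =>
    refine ⟨{v}, fun g => ?_⟩
    rw [slice_tmul]
    exact Submodule.smul_mem _ _ (Submodule.subset_span (by simp))
  | add x y hx hy =>
    obtain ⟨s, hs⟩ := hx
    obtain ⟨t, ht⟩ := hy
    refine ⟨s ∪ t, fun g => ?_⟩
    rw [map_add]
    refine Submodule.add_mem _ (Submodule.span_mono ?_ (hs g)) (Submodule.span_mono ?_ (ht g))
    · simp
    · simp

theorem finite_orbit (c : HopfRep.Comod k A V) (v : V) : Module.Finite k (orbit c v) := by
  obtain ⟨s, hs⟩ := exists_finset_slice_mem (c.coact v)
  have hle : orbit c v ≤ Submodule.span k (s : Set V) := by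
    rintro _ ⟨g, rfl⟩
    exact hs g
  exact Submodule.finiteDimensional_of_le hle

/-- local finiteness of comodules over a field -/
theorem exists_finite_isSub_mem (c : HopfRep.Comod k A V) (v : V) :
    ∃ W : Submodule k V, Module.Finite k W ∧ v ∈ W ∧ IsSub c W :=
  ⟨orbit c v, finite_orbit c v, mem_orbit_self c v, isSub_orbit c v⟩

/-- a simple comodule is finite dimensional -/
theorem finite_of_isSimple (c : HopfRep.Comod k A V)
    (hV : @HopfRep.IsSimpleComod k A _ _ _ _ V _ _ c) : Module.Finite k V := by
  obtain ⟨hnt, hsimple⟩ := hV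
  obtain ⟨v, hv⟩ := exists_ne (0 : V)
  have htop : orbit c v = ⊤ := by
    rcases hsimple (orbit c v) (isSub_orbit c v) with h | h
    · exact absurd ((Submodule.mem_bot k).mp (h ▸ mem_orbit_self c v)) hv
    · exact h
  have hfin := finite_orbit c v
  rw [htop] at hfin
  exact Module.Finite.of_surjective (⊤ : Submodule k V).subtype
    (fun x => ⟨⟨x, trivial⟩, rfl⟩)

end Fund

/-! ### Minimal subcomodules, restriction and quotient -/
section Simple

variable {k : Type u} [Field k] {A : Type v} [AddCommGroup A] [Module k A] [Coalgebra k A]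
variable {V : Type w} [AddCommGroup V] [Module k V]

/-- `W` is a minimal nonzero subcomodule -/
def IsMinSub (c : HopfRep.Comod k A V) (W : Submodule k V) : Prop :=
  IsSub c W ∧ W ≠ ⊥ ∧ ∀ W' : Submodule k V, IsSub c W' → W' ≤ W → W' = ⊥ ∨ W' = W

theorem exists_isMinSub_le (c : HopfRep.Comod k A V) {W : Submodule k V} (hW : IsSub c W)
    (hne : W ≠ ⊥) : ∃ W₀ : Submodule k V, W₀ ≤ W ∧ Module.Finite k W₀ ∧ IsMinSub c W₀ := by
  classical
  obtain ⟨v, hvW, hv0⟩ := Submodule.exists_mem_ne_zero_of_ne_bot hne
  let W₁ := orbit c v ⊓ W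
  have hW₁ : IsSub c W₁ := isSub_inf c (isSub_orbit c v) hW
  have hvW₁ : v ∈ W₁ := ⟨mem_orbit_self c v, hvW⟩
  have hW₁ne : W₁ ≠ ⊥ := fun h => hv0 ((Submodule.mem_bot k).mp (h ▸ hvW₁))
  haveI hfinorb : Module.Finite k (orbit c v) := finite_orbit c v
  haveI hfin₁ : Module.Finite k W₁ := Submodule.finiteDimensional_of_le inf_le_left
  let P : ℕ → Prop := fun n => ∃ U : Submodule k V, IsSub c U ∧ U ≠ ⊥ ∧ U ≤ W₁ ∧
    Module.finrank k U = n
  have hP : ∃ n, P n := ⟨_, W₁, hW₁, hW₁ne, le_rfl, rfl⟩
  obtain ⟨U₀, hU₀sub, hU₀ne, hU₀le, hU₀rank⟩ := Nat.find_spec hP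
  haveI hfinU₀ : Module.Finite k U₀ := Submodule.finiteDimensional_of_le hU₀le
  refine ⟨U₀, hU₀le.trans inf_le_right, hfinU₀, hU₀sub, hU₀ne, ?_⟩
  intro W' hW' hle
  by_cases hW'0 : W' = ⊥
  · exact Or.inl hW'0
  · right
    have hmin : Nat.find hP ≤ Module.finrank k W' :=
      Nat.find_min' hP ⟨W', hW', hW'0, hle.trans hU₀le, rfl⟩
    rw [← hU₀rank] at hmin
    exact Submodule.eq_of_le_of_finrank_le hle hmin

theorem exists_isMinSub (c : HopfRep.Comod k A V) [Nontrivial V] :
    ∃ W₀ : Submodule k V, Module.Finite k W₀ ∧ IsMinSub c W₀ := by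
  obtain ⟨W₀, -, hfin, hmin⟩ := exists_isMinSub_le c (isSub_top c) top_ne_bot
  exact ⟨W₀, hfin, hmin⟩

theorem isSimple_restr_of_isMinSub (c : HopfRep.Comod k A V) {W : Submodule k V}
    (h : IsMinSub c W) :
    @HopfRep.IsSimpleComod k A _ _ _ _ W _ _ (ComodSub.Comod.restr c W h.1) := by
  refine ⟨(Submodule.nontrivial_iff_ne_bot).mpr h.2.1, ?_⟩
  intro U hU
  have hmap : IsSub c (U.map W.subtype) :=
    isSub_map (ComodSub.isComodHom_subtype c W h.1) hU
  have hle : U.map W.subtype ≤ W := by
    rintro _ ⟨u, -, rfl⟩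
    exact u.2
  rcases h.2.2 _ hmap hle with h0 | h1
  · left
    apply Submodule.map_injective_of_injective W.injective_subtype
    rw [h0, Submodule.map_bot]
  · right
    apply Submodule.map_injective_of_injective W.injective_subtype
    rw [h1, Submodule.map_subtype_top]

theorem isMinSub_of_isSimple_restr (c : HopfRep.Comod k A V) {W : Submodule k V}
    (hW : IsSub c W)
    (h : @HopfRep.IsSimpleComod k A _ _ _ _ W _ _ (ComodSub.Comod.restr c W hW)) :
    IsMinSub c W := by
  obtain ⟨hnt, hs⟩ := h
  refine ⟨hW, (Submodule.nontrivial_iff_ne_bot).mp hnt, ?_⟩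
  intro W' hW' hle
  have hcomap : IsSub (ComodSub.Comod.restr c W hW) (W'.comap W.subtype) :=
    isSub_comap (ComodSub.isComodHom_subtype c W hW) hW'
  have hmap : (W'.comap W.subtype).map W.subtype = W' := by
    rw [Submodule.map_comap_subtype]
    exact inf_eq_right.mpr hle
  rcases hs _ hcomap with h0 | h1
  · left
    rw [← hmap, h0, Submodule.map_bot]
  · right
    rw [← hmap, h1, Submodule.map_subtype_top]

theorem finrank_comap_of_surjective {V' : Type w'} [AddCommGroup V'] [Module k V']
    [Module.Finite k V] (f : V →ₗ[k] V') (hf : Function.Surjective f) (U' : Submodule k V') :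
    Module.finrank k (U'.comap f) = Module.finrank k U' + Module.finrank k (LinearMap.ker f) := by
  have h := LinearMap.finrank_range_add_finrank_ker (f.domRestrict (U'.comap f))
  rw [LinearMap.range_domRestrict, LinearMap.ker_domRestrict,
    Submodule.map_comap_eq_of_surjective hf] at h
  have hle : LinearMap.ker f ≤ U'.comap f := by
    intro x hx
    rw [Submodule.mem_comap, LinearMap.mem_ker.mp hx]
    exact U'.zero_mem
  rw [← h, (Submodule.comapSubtypeEquivOfLe hle).finrank_eq]

end Simple

/-! ### Flags -/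
section Flag

variable {k : Type u} [Field k] {A : Type v} [AddCommGroup A] [Module k A] [Coalgebra k A]

theorem exists_flag_of
    (h1 : ∀ (U : Type w) [AddCommGroup U] [Module k U] (d : HopfRep.Comod k A U),
      Module.Finite k U → @HopfRep.IsSimpleComod k A _ _ _ _ U _ _ d → Module.finrank k U = 1) :
    ∀ (n : ℕ) (V : Type w) [AddCommGroup V] [Module k V] (c : HopfRep.Comod k A V)
      [Module.Finite k V], Module.finrank k V = n →
      ∃ F : ℕ → Submodule k V, Monotone F ∧ (∀ i, IsSub c (F i)) ∧
        ∀ i, i ≤ n → Module.finrank k (F i) = i := by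
  intro n
  induction n with
  | zero =>
    intro V _ _ c _ hn
    refine ⟨fun _ => ⊥, monotone_const, fun _ => isSub_bot c, ?_⟩
    intro i hi
    have : i = 0 := by omega
    subst this
    simp
  | succ n ih =>
    intro V _ _ c _ hn
    haveI : Nontrivial V := Module.nontrivial_of_finrank_pos (R := k) (by omega)
    obtain ⟨W, hWfin, hWmin⟩ := exists_isMinSub c
    have hW1 : Module.finrank k W = 1 :=
      h1 W (ComodSub.Comod.restr c W hWmin.1) hWfin (isSimple_restr_of_isMinSub c hWmin)
    have hq : Module.finrank k (V ⧸ W) = n := by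
      have := W.finrank_quotient_add_finrank
      omega
    obtain ⟨F', hmono, hsub, hrank⟩ := ih (V ⧸ W) (ComodSub.Comod.quot c W hWmin.1) hq
    let F : ℕ → Submodule k V := fun i =>
      match i with
      | 0 => ⊥
      | (j + 1) => (F' j).comap W.mkQ
    refine ⟨F, ?_, ?_, ?_⟩
    · apply monotone_nat_of_le_succ
      intro i
      cases i with
      | zero => exact bot_le
      | succ j => exact Submodule.comap_mono (hmono (Nat.le_succ j))
    · intro i
      cases i with
      | zero => exact isSub_bot c
      | succ j => exact isSub_comap (ComodSub.isComodHom_mkQ c W hWmin.1) (hsub j)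
    · intro i hi
      cases i with
      | zero => simp [F]
      | succ j =>
        show Module.finrank k ((F' j).comap W.mkQ) = j + 1
        rw [finrank_comap_of_surjective W.mkQ (Submodule.mkQ_surjective W), hrank j (by omega),
          Submodule.ker_mkQ, hW1]

end Flag

end Groth.Agent.Lib.Helper96
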