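import Groth.Agent.Lib.Helper96.LinRed
import Groth.Agent.Lib.Helper96.CoalgChange
import Mathlib.RingTheory.Coalgebra.GroupLike
import Mathlib.LinearAlgebra.Eigenspace.Triangularizable

set_option autoImplicit false

universe u v w w'

open TensorProduct

namespace Groth.Agent.Lib.Helper96

section Eigen

variable {k : Type u} [Field k] {A : Type v} [AddCommGroup A] [Module k A] [Coalgebra k A]
variable {V : Type w} [AddCommGroup V] [Module k V]

/-- the vectors spanning a one-dimensional (or zero) subcomodule -/
def eigSet (c : HopfRep.Comod k A V) : Set V := {v | ∃ a : A, c.coact v = v ⊗ₜ[k] a}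

theorem convForm_coord {J : Type*} (b : Module.Basis J k A)
    (hb : ∀ j, IsGroupLikeElem k (b j)) (f : Module.Dual k A) (j : J) :
    convForm f (b.coord j) = f (b j) • b.coord j := by
  classical
  apply b.ext
  intro i
  simp only [convForm, LinearMap.comp_apply, (hb i).comul_eq_tmul_self, TensorProduct.map_tmul,
    LinearMap.mul'_apply, LinearMap.smul_apply, Module.Basis.coord_apply, Module.Basis.repr_self,
    smul_eq_mul]
  by_cases hij : i = j
  · subst hij; simp
  · have : (Finsupp.single i (1 : k)) j = 0 := Finsupp.single_eq_of_ne (Ne.symm hij)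
    simp [this]

/-- if the coalgebra has a basis of group-like elements, the components of a vector are
eigenvectors -/
theorem coact_slice_coord {J : Type*} (b : Module.Basis J k A)
    (hb : ∀ j, IsGroupLikeElem k (b j)) (c : HopfRep.Comod k A V) (v : V) (j : J) :
    c.coact (slice V (b.coord j) (c.coact v)) = slice V (b.coord j) (c.coact v) ⊗ₜ[k] b j := by
  apply slice_ext
  intro f
  rw [slice_coact_slice, convForm_coord b hb, slice_smul, slice_tmul]

theorem span_eigSet_eq_top_of_basis {J : Type*} (b : Module.Basis J k A)
    (hb : ∀ j, IsGroupLikeElem k (b j)) (c : HopfRep.Comod k A V) :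
    Submodule.span k (eigSet c) = ⊤ := by
  classical
  rw [eq_top_iff]
  intro v _
  let e := TensorProduct.equivFinsuppOfBasisRight (M := V) b
  have hy : c.coact v = e.symm (e (c.coact v)) := (e.symm_apply_apply _).symm
  have hv : v = slice V (CoalgebraStruct.counit (R := k) (A := A)) (c.coact v) :=
    (slice_counit_coact c v).symm
  rw [hv, hy, TensorProduct.equivFinsuppOfBasisRight_symm_apply, Finsupp.sum, map_sum]
  refine Submodule.sum_mem _ (fun j _ => ?_)
  rw [slice_tmul]
  refine Submodule.smul_mem _ _ (Submodule.subset_span ?_)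
  refine ⟨b j, ?_⟩
  show c.coact ((e (c.coact v)) j) = (e (c.coact v)) j ⊗ₜ[k] b j
  rw [equivFinsupp_apply_eq_slice]
  exact coact_slice_coord b hb c v j

/-- a basis of group-like elements from the spanning condition -/
theorem exists_basis_groupLike
    (h : Submodule.span k {a : A | IsGroupLikeElem k a} = ⊤) :
    ∃ b : Module.Basis {a : A | IsGroupLikeElem k a} k A, ∀ j, IsGroupLikeElem k (b j) := by
  have hli : LinearIndependent k (fun a : {a : A | IsGroupLikeElem k a} => (a : A)) :=
    linearIndepOn_isGroupLikeElem
  have hsp : ⊤ ≤ Submodule.span k (Set.range (fun a : {a : A | IsGroupLikeElem k a} => (a : A))) := by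
    rw [Subtype.range_coe]
    exact h.ge
  refine ⟨Module.Basis.mk hli hsp, ?_⟩
  intro j
  rw [Module.Basis.mk_apply]
  exact j.2

theorem span_eigSet_eq_top_of_span_groupLike
    (h : Submodule.span k {a : A | IsGroupLikeElem k a} = ⊤) (c : HopfRep.Comod k A V) :
    Submodule.span k (eigSet c) = ⊤ := by
  obtain ⟨b, hb⟩ := exists_basis_groupLike h
  exact span_eigSet_eq_top_of_basis b hb c

/-- an eigenvector of the regular comodule is a multiple of a group-like element -/
theorem mem_span_groupLike_of_comul_eq {w a : A}
    (hw : CoalgebraStruct.comul (R := k) w = w ⊗ₜ[k] a) :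
    w ∈ Submodule.span k {a : A | IsGroupLikeElem k a} := by
  by_cases hw0 : w = 0
  · rw [hw0]; exact Submodule.zero_mem _
  -- `w = ε(w) a`
  have h1 : w = CoalgebraStruct.counit (R := k) w • a := by
    have := Coalgebra.rTensor_counit_comul (R := k) w
    rw [hw, LinearMap.rTensor_tmul] at this
    have h2 := congrArg (TensorProduct.lid k A) this
    simpa using h2.symm
  have hε : CoalgebraStruct.counit (R := k) w ≠ 0 := by
    intro h0
    apply hw0
    rw [h1, h0, zero_smul]
  -- `ε(a) = 1`
  have h3 : CoalgebraStruct.counit (R := k) a = 1 := by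
    have := Coalgebra.lTensor_counit_comul (R := k) w
    rw [hw, LinearMap.lTensor_tmul] at this
    have h2 := congrArg (TensorProduct.rid k A) this
    simp only [TensorProduct.rid_tmul] at h2
    have h4 : (CoalgebraStruct.counit (R := k) a - 1) • w = 0 := by
      rw [sub_smul, h2, sub_self]
    rcases smul_eq_zero.mp h4 with h5 | h5
    · exact sub_eq_zero.mp h5
    · exact absurd h5 hw0
  -- `Δ a = a ⊗ a`
  have h6 : CoalgebraStruct.comul (R := k) a = a ⊗ₜ[k] a := by
    have hco := Coalgebra.coassoc_apply (R := k) w
    rw [hw, LinearMap.rTensor_tmul, LinearMap.lTensor_tmul, hw, TensorProduct.assoc_tmul] at hco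
    -- `w ⊗ (a ⊗ a) = w ⊗ Δ a`
    have hinj : Function.Injective (TensorProduct.mk k A (A ⊗[k] A) w) := by
      have : Function.Injective (LinearMap.toSpanSingleton k A w) := by
        intro x y hxy
        simp only [LinearMap.toSpanSingleton_apply] at hxy
        exact smul_left_injective k hw0 hxy
      have h7 := Module.Flat.rTensor_preserves_injective_linearMap (M := A ⊗[k] A)
        (LinearMap.toSpanSingleton k A w) this
      intro x y hxy
      apply (TensorProduct.lid k (A ⊗[k] A)).symm.injective
      apply h7
      simpa using hxy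
    exact (hinj hco).symm
  rw [h1]
  exact Submodule.smul_mem _ _ (Submodule.subset_span ⟨h3, h6⟩)

/-- if every finite dimensional subcomodule of the regular comodule is spanned by eigenvectors then
the group-like elements span -/
theorem span_groupLike_eq_top_of_forall_span_eigSet
    (h : ∀ (W : Submodule k A) (hW : IsSub (HopfRep.Comod.regular k A) W), Module.Finite k W →
      Submodule.span k (eigSet (ComodSub.Comod.restr (HopfRep.Comod.regular k A) W hW)) = ⊤) :
    Submodule.span k {a : A | IsGroupLikeElem k a} = ⊤ := by
  rw [eq_top_iff]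
  intro a _
  let cA : HopfRep.Comod k A A := HopfRep.Comod.regular k A
  let W := orbit cA a
  have hW : IsSub cA W := isSub_orbit cA a
  let cW := ComodSub.Comod.restr cA W hW
  have hspan := h W hW (finite_orbit cA a)
  have hι := ComodSub.isComodHom_subtype cA W hW
  have hle : Submodule.map W.subtype (Submodule.span k (eigSet cW)) ≤
      Submodule.span k {a : A | IsGroupLikeElem k a} := by
    rw [Submodule.map_span]
    apply Submodule.span_le.mpr
    rintro _ ⟨w, ⟨b, hb⟩, rfl⟩
    have h1 := isHom_apply hι w
    rw [hb, LinearMap.rTensor_tmul] at h1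
    exact mem_span_groupLike_of_comul_eq h1
  apply hle
  refine ⟨⟨a, mem_orbit_self cA a⟩, ?_, rfl⟩
  rw [hspan]
  trivial

/-- a generator of a one-dimensional subcomodule is an eigenvector -/
theorem mem_eigSet_of_isSub_span_singleton (c : HopfRep.Comod k A V) (w : V)
    (hW : IsSub c (Submodule.span k {w})) : w ∈ eigSet c := by
  obtain ⟨z, hz⟩ := hW w (Submodule.mem_span_singleton_self w)
  have key : ∀ z : (Submodule.span k {w} : Submodule k V) ⊗[k] A,
      ∃ b : A, (Submodule.span k {w}).subtype.rTensor A z = w ⊗ₜ[k] b := by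
    intro z
    induction z using TensorProduct.induction_on with
    | zero => exact ⟨0, by simp⟩
    | add x y hx hy =>
      obtain ⟨b₁, h₁⟩ := hx
      obtain ⟨b₂, h₂⟩ := hy
      exact ⟨b₁ + b₂, by rw [map_add, h₁, h₂, TensorProduct.tmul_add]⟩
    | tmul x a =>
      obtain ⟨r, hr⟩ := Submodule.mem_span_singleton.mp x.2
      refine ⟨r • a, ?_⟩
      rw [LinearMap.rTensor_tmul, Submodule.subtype_apply, ← hr, TensorProduct.smul_tmul]
  obtain ⟨b, hb⟩ := key z
  exact ⟨b, by rw [← hz, hb]⟩

end Eigen

section Cocomm

variable {k : Type u} [Field k] {A : Type v} [AddCommGroup A] [Module k A] [Coalgebra k A]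
variable {V : Type w} [AddCommGroup V] [Module k V]

theorem slice_swap {C : Type*} [AddCommGroup C] [Module k C]
    {D : Type*} [AddCommGroup D] [Module k D]
    (g : C →ₗ[k] k) (Y : (V ⊗[k] D) ⊗[k] C) :
    (slice V g).rTensor D ((TensorProduct.assoc k V C D).symm
      ((TensorProduct.comm k D C).toLinearMap.lTensor V (TensorProduct.assoc k V D C Y))) =
      slice (V ⊗[k] D) g Y := by
  induction Y using TensorProduct.induction_on with
  | zero => simp
  | add x y hx hy => simp only [map_add, hx, hy]
  | tmul z c =>
    induction z using TensorProduct.induction_on with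
    | zero => simp
    | add x y hx hy => simp only [TensorProduct.add_tmul, map_add, hx, hy]
    | tmul v d => simp [TensorProduct.smul_tmul']

/-- over a cocommutative coalgebra the slice operators are comodule maps -/
theorem isHom_slice_coact [Coalgebra.IsCocomm k A] (c : HopfRep.Comod k A V)
    (g : Module.Dual k A) : IsHom c c (slice V g ∘ₗ c.coact) := by
  apply LinearMap.ext
  intro v
  show c.coact (slice V g (c.coact v)) = (slice V g ∘ₗ c.coact).rTensor A (c.coact v)
  rw [← slice_rTensor, LinearMap.rTensor_comp, LinearMap.comp_apply, ← slice_swap]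
  congr 1
  have hco := LinearMap.congr_fun c.coassoc v
  simp only [LinearMap.coe_comp, Function.comp_apply, LinearEquiv.coe_coe] at hco
  rw [hco, ← LinearMap.comp_apply, ← LinearMap.lTensor_comp]
  have hcomm : (TensorProduct.comm k A A).toLinearMap ∘ₗ CoalgebraStruct.comul (R := k) (A := A) =
      CoalgebraStruct.comul (R := k) (A := A) := Coalgebra.IsCocomm.comm_comp_comul
  rw [hcomm, ← hco, LinearEquiv.symm_apply_apply]

variable [IsAlgClosed k]

/-- Schur's lemma over an algebraically closed field -/
theorem exists_eq_smul_id_of_isSimple (c : HopfRep.Comod k A V)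
    (hV : @HopfRep.IsSimpleComod k A _ _ _ _ V _ _ c) (f : V →ₗ[k] V) (hf : IsHom c c f) :
    ∃ μ : k, f = μ • LinearMap.id := by
  haveI := finite_of_isSimple c hV
  haveI := hV.1
  obtain ⟨μ, hμ⟩ := Module.End.exists_eigenvalue f
  obtain ⟨v, hv⟩ := hμ.exists_hasEigenvector
  refine ⟨μ, ?_⟩
  have hg : IsHom c c (f - μ • LinearMap.id) := isHom_sub hf (isHom_smul μ (isHom_id c))
  rcases eq_zero_or_injective_of_isSimple hV hg with h0 | hinj
  · exact sub_eq_zero.mp h0
  · exfalso
    apply hv.2
    apply hinj
    rw [map_zero, LinearMap.sub_apply, LinearMap.smul_apply, LinearMap.id_apply,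
      hv.apply_eq_smul, sub_self]

/-- simple comodules over a cocommutative coalgebra over an algebraically closed field are
one-dimensional, spanned by an eigenvector -/
theorem eq_span_singleton_of_isSimple [Coalgebra.IsCocomm k A] (c : HopfRep.Comod k A V)
    (hV : @HopfRep.IsSimpleComod k A _ _ _ _ V _ _ c) :
    ∃ v : V, v ≠ 0 ∧ Submodule.span k {v} = ⊤ ∧ v ∈ eigSet c := by
  haveI := hV.1
  obtain ⟨v, hv⟩ := exists_ne (0 : V)
  have hsub : IsSub c (Submodule.span k {v}) := by
    rw [isSub_iff_slice]
    intro w hw g
    obtain ⟨μ, hμ⟩ := exists_eq_smul_id_of_isSimple c hV _ (isHom_slice_coact c g)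
    have : slice V g (c.coact w) = μ • w := by
      have := LinearMap.congr_fun hμ w
      simpa using this
    rw [this]
    exact Submodule.smul_mem _ _ hw
  refine ⟨v, hv, ?_, mem_eigSet_of_isSub_span_singleton c v hsub⟩
  rcases hV.2 _ hsub with h0 | h1
  · exfalso
    apply hv
    have := Submodule.mem_span_singleton_self (R := k) v
    rw [h0, Submodule.mem_bot] at this
    exact this
  · exact h1

/-- a semisimple comodule over a cocommutative coalgebra over an algebraically closed field is
spanned by eigenvectors -/
theorem span_eigSet_eq_top_of_isSS [Coalgebra.IsCocomm k A] (c : HopfRep.Comod k A V)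
    (hV : IsSS c) : Submodule.span k (eigSet c) = ⊤ := by
  rw [eq_top_iff, ← iSup_isMinSub_eq_top c hV]
  apply iSup_le
  rintro ⟨W, hW⟩
  have hsimple := isSimple_restr_of_isMinSub c hW
  obtain ⟨w, -, hspan, b, hb⟩ := eq_span_singleton_of_isSimple _ hsimple
  have hι := ComodSub.isComodHom_subtype c W hW.1
  have hw : (w : V) ∈ eigSet c := by
    refine ⟨b, ?_⟩
    have h1 := isHom_apply hι w
    rw [hb, LinearMap.rTensor_tmul] at h1
    exact h1
  intro x hx
  have hx' : (⟨x, hx⟩ : W) ∈ Submodule.span k {w} := by rw [hspan]; trivial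
  obtain ⟨r, hr⟩ := Submodule.mem_span_singleton.mp hx'
  have : x = r • (w : V) := by
    have := congrArg Subtype.val hr
    simpa using this.symm
  rw [this]
  exact Submodule.smul_mem _ _ (Submodule.subset_span hw)

end Cocomm

section DiagLinRed

variable {k : Type u} [Field k] {A : Type v} [CommRing A] [Bialgebra k A]

/-- diagonalizable implies linearly reductive -/
theorem isLinearlyReductive_of_isDiagonalizable (h : HopfRep.IsDiagonalizable k A) :
    HopfRep.IsLinearlyReductive k A := by
  intro V _ _ c _
  have hspan := span_eigSet_eq_top_of_span_groupLike h c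
  -- the lines spanned by nonzero eigenvectors are minimal subcomodules
  apply isSS_of_sum_minimal c
    (fun v : {v : V // v ∈ eigSet c ∧ v ≠ 0} => Submodule.span k {(v : V)})
  · rintro ⟨v, ⟨a, ha⟩, hv0⟩
    refine ⟨?_, ?_, ?_⟩
    · intro w hw
      obtain ⟨r, rfl⟩ := Submodule.mem_span_singleton.mp hw
      refine ⟨(r • ⟨v, Submodule.mem_span_singleton_self v⟩) ⊗ₜ[k] a, ?_⟩
      have ha' : c.coact v = v ⊗ₜ[k] a := ha
      rw [LinearMap.rTensor_tmul, map_smul]
      show (r • v) ⊗ₜ[k] a = c.coact (r • v)
      rw [map_smul, ha', TensorProduct.smul_tmul']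
    · intro h0
      apply hv0
      have := Submodule.mem_span_singleton_self (R := k) v
      rw [h0, Submodule.mem_bot] at this
      exact this
    · intro W' _ hle
      by_cases hW'0 : W' = ⊥
      · exact Or.inl hW'0
      · right
        apply le_antisymm hle
        obtain ⟨x, hxW', hx0⟩ := Submodule.exists_mem_ne_zero_of_ne_bot hW'0
        obtain ⟨r, rfl⟩ := Submodule.mem_span_singleton.mp (hle hxW')
        have hr : r ≠ 0 := by
          intro hr
          apply hx0
          rw [hr, zero_smul]
        rw [Submodule.span_singleton_le_iff_mem]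
        have := W'.smul_mem r⁻¹ hxW'
        rwa [smul_smul, inv_mul_cancel₀ hr, one_smul] at this
  · rw [eq_top_iff, ← hspan]
    apply Submodule.span_le.mpr
    intro v hv
    by_cases hv0 : v = 0
    · rw [hv0]; exact Submodule.zero_mem _
    · exact (le_iSup (fun v : {v : V // v ∈ eigSet c ∧ v ≠ 0} => Submodule.span k {(v : V)})
        ⟨v, hv, hv0⟩) (Submodule.mem_span_singleton_self v)

/-- cocommutative linearly reductive over an algebraically closed field implies diagonalizable -/
theorem isDiagonalizable_of_isLinearlyReductive [IsAlgClosed k] [Coalgebra.IsCocomm k A]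
    (h : HopfRep.IsLinearlyReductive k A) : HopfRep.IsDiagonalizable k A := by
  apply span_groupLike_eq_top_of_forall_span_eigSet
  intro W hW hfin
  apply span_eigSet_eq_top_of_isSS
  exact @h W _ _ (ComodSub.Comod.restr (HopfRep.Comod.regular k A) W hW) hfin

end DiagLinRed

end Groth.Agent.Lib.Helper96
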