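import Groth.Agent.Lib.Helper96.LinRed
import Groth.Agent.S16471
import Groth.Agent.S16691
import Groth.Prelude.Def_ComodTens
import Groth.Prelude.Def_ComodDual

/-!
# Linear reductivity from splitting of surjections onto the trivial comodule
-/

set_option autoImplicit false

universe u v w w' w''

open TensorProduct

namespace Groth.Agent.Lib.Helper96

section Functoriality

variable {k : Type u} [Field k] {A : Type v} [CommRing A] [HopfAlgebra k A]
variable {V : Type w} [AddCommGroup V] [Module k V]
variable {W : Type w'} [AddCommGroup W] [Module k W]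

/-- naturality of `dualTensorHom` in the source -/
theorem dualTensorHom_rTensor_dualMap (j : W →ₗ[k] V) (y : Module.Dual k V ⊗[k] A) :
    dualTensorHom k W A ((j.dualMap).rTensor A y) = dualTensorHom k V A y ∘ₗ j := by
  induction y using TensorProduct.induction_on with
  | zero => simp
  | add x y hx hy => simp only [map_add, hx, hy, LinearMap.add_comp]
  | tmul φ a =>
    apply LinearMap.ext
    intro w
    simp [dualTensorHom_apply]

/-- the transpose of a comodule map is a comodule map between the contragredients -/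
theorem isHom_dualMap [Module.Finite k W] {cV : HopfRep.Comod k A V} {cW : HopfRep.Comod k A W}
    {dV : HopfRep.Comod k A (Module.Dual k V)} {dW : HopfRep.Comod k A (Module.Dual k W)}
    (hdV : ComodTens.Comod.IsDual cV dV) (hdW : ComodTens.Comod.IsDual cW dW)
    (j : W →ₗ[k] V) (hj : IsHom cW cV j) : IsHom dV dW j.dualMap := by
  apply LinearMap.ext
  intro f
  show dW.coact (j.dualMap f) = (j.dualMap).rTensor A (dV.coact f)
  apply (dualTensorHom_bijective (R := k) (M := W) (N := A)).1
  rw [dualTensorHom_rTensor_dualMap, hdW, hdV]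
  apply LinearMap.ext
  intro w
  rw [LinearMap.comp_apply, ComodTens.dualCoactFun_apply, ComodTens.dualCoactFun_apply,
    isHom_apply hj w]
  congr 1
  generalize cW.coact w = z
  induction z using TensorProduct.induction_on with
  | zero => simp
  | add x y hx hy => simp only [map_add, hx, hy]
  | tmul w' a => simp

end Functoriality

section TensorFunct

variable {k : Type u} [Field k] {A : Type v} [CommRing A] [Bialgebra k A]
variable {V₁ : Type*} [AddCommGroup V₁] [Module k V₁] {V₂ : Type*} [AddCommGroup V₂] [Module k V₂]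
variable {W₁ : Type*} [AddCommGroup W₁] [Module k W₁] {W₂ : Type*} [AddCommGroup W₂] [Module k W₂]

/-- the tensor product of two comodule maps is a comodule map -/
theorem isHom_tensor_map {c₁ : HopfRep.Comod k A V₁} {c₂ : HopfRep.Comod k A V₂}
    {d₁ : HopfRep.Comod k A W₁} {d₂ : HopfRep.Comod k A W₂} {f : V₁ →ₗ[k] V₂} {g : W₁ →ₗ[k] W₂}
    (hf : IsHom c₁ c₂ f) (hg : IsHom d₁ d₂ g) :
    IsHom (ComodTens.Comod.tensor c₁ d₁) (ComodTens.Comod.tensor c₂ d₂) (TensorProduct.map f g) := by
  apply TensorProduct.ext'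
  intro v w
  show (ComodTens.Comod.tensor c₂ d₂).coact (f v ⊗ₜ[k] g w) =
    (TensorProduct.map f g).rTensor A ((ComodTens.Comod.tensor c₁ d₁).coact (v ⊗ₜ[k] w))
  rw [ComodTens.tensor_coact_tmul, ComodTens.tensor_coact_tmul, isHom_apply hf, isHom_apply hg]
  generalize c₁.coact v = y
  generalize d₁.coact w = z
  induction y using TensorProduct.induction_on with
  | zero => simp
  | add y y' hy hy' => simp only [map_add, TensorProduct.add_tmul, hy, hy']
  | tmul v' a =>
    induction z using TensorProduct.induction_on with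
    | zero => simp
    | add z z' hz hz' => simp only [map_add, TensorProduct.tmul_add, hz, hz']
    | tmul w' b => simp

end TensorFunct

section Lower

theorem nontrivial_of_hopf (k : Type u) [Field k] (A : Type v) [CommRing A] [HopfAlgebra k A] :
    Nontrivial A := by
  refine ⟨⟨1, 0, fun h => ?_⟩⟩
  have h1 : CoalgebraStruct.counit (R := k) (1 : A) = 1 := Bialgebra.counit_one
  rw [h, map_zero] at h1
  exact zero_ne_one h1

/-- every finite-dimensional vector space has a model in the universe of `A` -/
theorem exists_lower (k : Type u) [Field k] (A : Type v) [CommRing A] [HopfAlgebra k A]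
    (X : Type w) [AddCommGroup X] [Module k X] [Module.Finite k X] :
    ∃ (X' : Type v) (_ : AddCommGroup X') (_ : Module k X'), Nonempty (X ≃ₗ[k] X') := by
  have hnt := nontrivial_of_hopf k A
  let b := Module.finBasis k X
  let f : X →ₗ[k] (Fin (Module.finrank k X) → A) :=
    LinearMap.pi (fun i => (LinearMap.toSpanSingleton k A 1) ∘ₗ (b.coord i))
  have hinj : Function.Injective f := by
    rw [← LinearMap.ker_eq_bot, LinearMap.ker_eq_bot']
    intro x hx
    apply b.ext_elem
    intro i
    have h1 : f x i = 0 := by rw [hx]; rfl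
    have h2 : b.coord i x • (1 : A) = 0 := h1
    rw [smul_eq_zero] at h2
    rcases h2 with h2 | h2
    · rw [map_zero, Finsupp.zero_apply]
      exact h2
    · exact absurd h2 one_ne_zero
  exact ⟨LinearMap.range f, inferInstance, inferInstance, ⟨LinearEquiv.ofInjective f hinj⟩⟩

/-- the splitting criterion: surjections of finite-dimensional comodules (in the universe of `A`)
onto the trivial comodule `k` admit a fixed vector not in the kernel -/
def SplitTriv (k : Type u) [Field k] (A : Type v) [CommRing A] [HopfAlgebra k A] : Prop :=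
  ∀ (V : Type v) [AddCommGroup V] [Module k V] [HopfRep.Comod k A V], Module.Finite k V →
    ∀ π : V →ₗ[k] k, Function.Surjective π →
      LinearMap.rTensor A π ∘ₗ HopfRep.Comod.coact (k := k) (A := A) (V := V) =
        (TensorProduct.mk k k A).flip (1 : A) ∘ₗ π →
      ∃ v ∈ HopfRep.fixedPts k A V, π v ≠ 0

variable {k : Type u} [Field k] {A : Type v} [CommRing A] [HopfAlgebra k A]

/-- the splitting criterion in all universes -/
theorem splitTriv_univ (h : SplitTriv k A) (X : Type w) [AddCommGroup X] [Module k X]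
    [Module.Finite k X] (cX : HopfRep.Comod k A X) (π : X →ₗ[k] k) (hsurj : Function.Surjective π)
    (hπ : LinearMap.rTensor A π ∘ₗ cX.coact = (TensorProduct.mk k k A).flip (1 : A) ∘ₗ π) :
    ∃ x : X, cX.coact x = x ⊗ₜ[k] (1 : A) ∧ π x ≠ 0 := by
  obtain ⟨X', _, _, ⟨e⟩⟩ := exists_lower k A X
  have hfin : Module.Finite k X' := Module.Finite.equiv e
  have hπ' : LinearMap.rTensor A (π ∘ₗ e.symm.toLinearMap) ∘ₗ (ComodTens.Comod.ofEquiv e cX).coact =
      (TensorProduct.mk k k A).flip (1 : A) ∘ₗ (π ∘ₗ e.symm.toLinearMap) := by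
    apply LinearMap.ext
    intro x'
    rw [LinearMap.comp_apply, ComodTens.ofEquiv_coact, ← LinearMap.comp_apply (LinearMap.rTensor A _),
      ← LinearMap.rTensor_comp]
    have h1 : (π ∘ₗ e.symm.toLinearMap) ∘ₗ (e : X →ₗ[k] X') = π := by
      apply LinearMap.ext
      intro x
      simp
    rw [h1]
    have h2 := LinearMap.congr_fun hπ (e.symm x')
    rw [LinearMap.comp_apply] at h2
    rw [h2]
    rfl
  obtain ⟨x', hx', hne⟩ := @h X' _ _ (ComodTens.Comod.ofEquiv e cX) hfin (π ∘ₗ e.symm.toLinearMap)
    (hsurj.comp e.symm.surjective) hπ'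
  refine ⟨e.symm x', ?_, hne⟩
  have h3 : (ComodTens.Comod.ofEquiv e cX).coact x' = x' ⊗ₜ[k] (1 : A) := hx'
  rw [ComodTens.ofEquiv_coact] at h3
  have h4 := congrArg ((e.symm : X' →ₗ[k] X).rTensor A) h3
  rw [← LinearMap.comp_apply, ← LinearMap.rTensor_comp] at h4
  have h5 : (e.symm : X' →ₗ[k] X) ∘ₗ (e : X →ₗ[k] X') = LinearMap.id := by
    apply LinearMap.ext
    intro x
    simp
  rw [h5, LinearMap.rTensor_id, LinearMap.id_apply, LinearMap.rTensor_tmul] at h4
  exact h4

end Lower

section Main

variable {k : Type u} [Field k] {A : Type v} [CommRing A] [HopfAlgebra k A]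

omit [HopfAlgebra k A] in
theorem dualTensorHom_comm_map {V : Type w} [AddCommGroup V] [Module k V]
    {W : Type w'} [AddCommGroup W] [Module k W] {B : Type w''} [AddCommGroup B] [Module k B]
    (j : W →ₗ[k] V) (x : B ⊗[k] Module.Dual k V) :
    dualTensorHom k W B (TensorProduct.comm k B (Module.Dual k W)
      (TensorProduct.map LinearMap.id j.dualMap x)) =
      dualTensorHom k V B (TensorProduct.comm k B (Module.Dual k V) x) ∘ₗ j := by
  induction x using TensorProduct.induction_on with
  | zero => simp
  | add x y hx hy => simp only [map_add, hx, hy, LinearMap.add_comp]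
  | tmul b φ =>
    apply LinearMap.ext
    intro w
    simp [dualTensorHom_apply]

/-- the splitting criterion implies that every finite-dimensional comodule is semisimple -/
theorem isSS_of_splitTriv (h : SplitTriv k A) (V : Type w) [AddCommGroup V] [Module k V]
    [Module.Finite k V] (cV : HopfRep.Comod k A V) : IsSS cV := by
  intro W hW
  by_cases hW0 : W = ⊥
  · exact ⟨⊤, isSub_top cV, by rw [hW0]; exact isCompl_bot_top⟩
  set cW := ComodSub.Comod.restr cV W hW with hcW
  have hι : IsHom cW cV W.subtype := ComodSub.isComodHom_subtype cV W hW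
  obtain ⟨dV, hdV⟩ := Groth.Agent.S16471.result k A V cV
  obtain ⟨dW, hdW⟩ := Groth.Agent.S16471.result k A W cW
  have hιd : IsHom dV dW W.subtype.dualMap := isHom_dualMap hdV hdW _ hι
  set cH := ComodTens.Comod.tensor cW dV with hcH
  set cG := ComodTens.Comod.tensor cW dW with hcG
  set R : W ⊗[k] Module.Dual k V →ₗ[k] W ⊗[k] Module.Dual k W :=
    TensorProduct.map LinearMap.id W.subtype.dualMap with hR'
  have hR : IsHom cH cG R := isHom_tensor_map (isHom_id cW) hιd
  have : Module.FinitePresentation k V := Module.finitePresentation_of_projective k V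
  have : Module.FinitePresentation k W := Module.finitePresentation_of_projective k W
  have bijV := Groth.Agent.S16691.result k A W cW V cV dV hdV
  have bijW := Groth.Agent.S16691.result k A W cW W cW dW hdW
  -- the coevaluation
  obtain ⟨x₀, hx₀fix, hx₀⟩ := bijW.surjOn (show (LinearMap.id : W →ₗ[k] W) ∈
    {h : W →ₗ[k] W | @Hoch.IsComodHom k _ A _ _ _ W _ _ cW W _ _ cW h} from isHom_id cW)
  have hx₀fix' : cG.coact x₀ = x₀ ⊗ₜ[k] (1 : A) := hx₀fix
  have hx₀' : dualTensorHom k W W (TensorProduct.comm k W (Module.Dual k W) x₀) = LinearMap.id :=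
    hx₀
  have hx₀ne : x₀ ≠ 0 := by
    intro h0
    rw [h0, map_zero, map_zero] at hx₀'
    apply hW0
    rw [eq_bot_iff]
    intro w hw
    have := LinearMap.congr_fun hx₀' ⟨w, hw⟩
    rw [LinearMap.zero_apply, LinearMap.id_apply] at this
    rw [Submodule.mem_bot]
    exact (congrArg Subtype.val this).symm
  -- the line spanned by the coevaluation and its preimage
  have hL : IsSub cG (Submodule.span k {x₀}) := by
    intro y hy
    obtain ⟨c, rfl⟩ := Submodule.mem_span_singleton.mp hy
    refine ⟨(⟨c • x₀, hy⟩ : Submodule.span k {x₀}) ⊗ₜ[k] (1 : A), ?_⟩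
    rw [LinearMap.rTensor_tmul, map_smul, hx₀fix', TensorProduct.smul_tmul']
    rfl
  have hH' : IsSub cH ((Submodule.span k {x₀}).comap R) := isSub_comap hR hL
  set H' := (Submodule.span k {x₀}).comap R with hH'def
  set cH' := ComodSub.Comod.restr cH H' hH' with hcH'
  obtain ⟨lam, hlam⟩ := LinearMap.exists_leftInverse_of_injective
    (LinearMap.toSpanSingleton k (W ⊗[k] Module.Dual k W) x₀)
    (LinearMap.ker_toSpanSingleton k hx₀ne)
  have hlam0 : lam x₀ = 1 := by
    have := LinearMap.congr_fun hlam 1
    simpa using this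
  set π : H' →ₗ[k] k := lam ∘ₗ R ∘ₗ H'.subtype with hπdef
  have hRx : ∀ x : H', R x.1 = π x • x₀ := by
    intro x
    obtain ⟨c, hc⟩ := Submodule.mem_span_singleton.mp x.2
    rw [hπdef, LinearMap.comp_apply, LinearMap.comp_apply, Submodule.subtype_apply, ← hc, map_smul,
      hlam0, smul_eq_mul, mul_one]
  have hRsurj : Function.Surjective R :=
    TensorProduct.map_surjective Function.surjective_id
      (LinearMap.dualMap_surjective_of_injective W.injective_subtype)
  have hπsurj : Function.Surjective π := by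
    obtain ⟨y, hy⟩ := hRsurj x₀
    have hyH : y ∈ H' := by
      show R y ∈ Submodule.span k {x₀}
      rw [hy]
      exact Submodule.mem_span_singleton_self x₀
    intro a
    refine ⟨a • ⟨y, hyH⟩, ?_⟩
    rw [map_smul, hπdef, LinearMap.comp_apply, LinearMap.comp_apply, Submodule.subtype_apply, hy,
      hlam0, smul_eq_mul, mul_one]
  have hπhom : LinearMap.rTensor A π ∘ₗ cH'.coact = (TensorProduct.mk k k A).flip (1 : A) ∘ₗ π := by
    apply LinearMap.ext
    intro x
    rw [LinearMap.comp_apply, LinearMap.comp_apply, LinearMap.flip_apply, TensorProduct.mk_apply]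
    have h1 : H'.subtype.rTensor A (cH'.coact x) = cH.coact x.1 :=
      ComodSub.restr_coact_coe cH H' hH' x
    have h2 : R.rTensor A (cH.coact x.1) = cG.coact (R x.1) := (isHom_apply hR x.1).symm
    rw [hπdef, LinearMap.rTensor_comp, LinearMap.rTensor_comp, LinearMap.comp_apply,
      LinearMap.comp_apply, h1, h2, hRx x, map_smul, hx₀fix', map_smul, LinearMap.rTensor_tmul,
      hlam0, TensorProduct.smul_tmul', smul_eq_mul, mul_one]
  obtain ⟨x, hxfix, hxne⟩ := splitTriv_univ h H' cH' π hπsurj hπhom
  have hxfix' : cH.coact x.1 = x.1 ⊗ₜ[k] (1 : A) := by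
    rw [← ComodSub.restr_coact_coe cH H' hH' x]
    show H'.subtype.rTensor A (cH'.coact x) = _
    rw [hxfix, LinearMap.rTensor_tmul]
    rfl
  have hp := bijV.mapsTo (show x.1 ∈ ((@HopfRep.fixedPts k A _ _ _ (W ⊗[k] Module.Dual k V) _ _ cH) :
    Set (W ⊗[k] Module.Dual k V)) from hxfix')
  set p : V →ₗ[k] W := dualTensorHom k V W (TensorProduct.comm k W (Module.Dual k V) x.1) with hpdef
  have hp' : IsHom cV cW p := hp
  have hpι : p ∘ₗ W.subtype = π x • LinearMap.id := by
    rw [hpdef, ← dualTensorHom_comm_map, ← hR', hRx x, map_smul, map_smul, hx₀']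
  refine ⟨LinearMap.ker p, isSub_ker hp', ?_⟩
  constructor
  · rw [disjoint_iff, eq_bot_iff]
    intro v hv
    obtain ⟨hv1, hv2⟩ := Submodule.mem_inf.mp hv
    have h1 := LinearMap.congr_fun hpι ⟨v, hv1⟩
    rw [LinearMap.comp_apply, Submodule.subtype_apply, LinearMap.smul_apply, LinearMap.id_apply,
      LinearMap.mem_ker.mp hv2] at h1
    have h2 : (⟨v, hv1⟩ : W) = 0 := by
      rcases smul_eq_zero.mp h1.symm with h3 | h3
      · exact absurd h3 hxne
      · exact h3
    rw [Submodule.mem_bot]
    exact congrArg Subtype.val h2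
  · rw [codisjoint_iff, eq_top_iff]
    intro v _
    rw [Submodule.mem_sup]
    refine ⟨((π x)⁻¹ • p v : W), ((π x)⁻¹ • p v : W).2, v - ((π x)⁻¹ • p v : W), ?_, by abel⟩
    rw [LinearMap.mem_ker, map_sub]
    have h1 := LinearMap.congr_fun hpι ((π x)⁻¹ • p v)
    rw [LinearMap.comp_apply, Submodule.subtype_apply, LinearMap.smul_apply, LinearMap.id_apply,
      smul_smul, mul_inv_cancel₀ hxne, one_smul] at h1
    rw [h1, sub_self]

end Main

section Converse

variable {k : Type u} [Field k] {A : Type v} [CommRing A] [HopfAlgebra k A]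

/-- in a semisimple comodule, a surjective comodule map onto the trivial comodule `k` has a fixed
vector outside its kernel -/
theorem exists_fixed_of_isSS {V : Type w} [AddCommGroup V] [Module k V] (cV : HopfRep.Comod k A V)
    (hss : IsSS cV) (π : V →ₗ[k] k) (hsurj : Function.Surjective π)
    (hπ : LinearMap.rTensor A π ∘ₗ cV.coact = (TensorProduct.mk k k A).flip (1 : A) ∘ₗ π) :
    ∃ v : V, cV.coact v = v ⊗ₜ[k] (1 : A) ∧ π v = 1 := by
  have hhom : IsHom cV (HopfRep.Comod.trivial k A k) π := hπ.symm
  obtain ⟨K', hK', hcompl⟩ := hss (LinearMap.ker π) (isSub_ker hhom)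
  obtain ⟨v₀, hv₀⟩ := hsurj 1
  have hv₀top : v₀ ∈ LinearMap.ker π ⊔ K' := by
    rw [hcompl.sup_eq_top]
    exact Submodule.mem_top
  obtain ⟨a, ha, b, hb, hab⟩ := Submodule.mem_sup.mp hv₀top
  have hπb : π b = 1 := by
    rw [← hv₀, ← hab, map_add, LinearMap.mem_ker.mp ha, zero_add]
  refine ⟨b, ?_, hπb⟩
  obtain ⟨z, hz⟩ := hK' b hb
  -- the restriction of `π` to `K'` is injective
  have hq : Function.Injective (π ∘ₗ K'.subtype) := by
    rw [← LinearMap.ker_eq_bot, LinearMap.ker_eq_bot']
    intro x hx
    have h1 : (x : V) ∈ LinearMap.ker π ⊓ K' := Submodule.mem_inf.mpr ⟨hx, x.2⟩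
    rw [hcompl.inf_eq_bot, Submodule.mem_bot] at h1
    exact Subtype.ext h1
  have hqinj : Function.Injective ((π ∘ₗ K'.subtype).rTensor A) :=
    Module.Flat.rTensor_preserves_injective_linearMap _ hq
  have h2 : z = (⟨b, hb⟩ : K') ⊗ₜ[k] (1 : A) := by
    apply hqinj
    rw [LinearMap.rTensor_comp, LinearMap.comp_apply, hz, LinearMap.comp_apply,
      LinearMap.rTensor_tmul, LinearMap.rTensor_tmul, Submodule.subtype_apply]
    have h3 := LinearMap.congr_fun hπ b
    rw [LinearMap.comp_apply, LinearMap.comp_apply, LinearMap.flip_apply,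
      TensorProduct.mk_apply] at h3
    exact h3
  rw [← hz, h2, LinearMap.rTensor_tmul, Submodule.subtype_apply]

theorem splitTriv_of_isLinearlyReductive (h : HopfRep.IsLinearlyReductive k A) : SplitTriv k A := by
  intro V _ _ cV hfin π hsurj hπ
  obtain ⟨v, hv, hv1⟩ := exists_fixed_of_isSS cV (@h V _ _ cV hfin) π hsurj hπ
  exact ⟨v, hv, by rw [hv1]; exact one_ne_zero⟩

theorem isLinearlyReductive_of_splitTriv (h : SplitTriv k A) : HopfRep.IsLinearlyReductive k A := by
  intro V _ _ cV hfin
  exact isSS_of_splitTriv h V cV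

theorem isLinearlyReductive_iff_splitTriv : HopfRep.IsLinearlyReductive k A ↔ SplitTriv k A :=
  ⟨splitTriv_of_isLinearlyReductive, isLinearlyReductive_of_splitTriv⟩

end Converse

end Groth.Agent.Lib.Helper96
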