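import Groth.Agent.Lib.Helper96.MultType
import Groth.Agent.Lib.Helper96.CartierG

/-! Semisimple action of points: diagonalizable ⇔ all points act semisimply, for smooth
commutative groups over an algebraically closed field (helper96). -/

set_option autoImplicit false

open TensorProduct Polynomial
universe u v w
namespace Groth.Agent.Lib.Helper96

namespace SSPts

section LA
variable {K : Type u} [Field K] {V : Type w} [AddCommGroup V] [Module K V] [Module.Finite K V]

/-- an endomorphism of a finite-dimensional space spanned by eigenvectors is semisimple -/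
theorem isSemisimple_of_span_eigenvectors (f : Module.End K V)
    (h : Submodule.span K {v : V | ∃ μ : K, f v = μ • v} = ⊤) : f.IsSemisimple := by
  classical
  let p : K[X] := ∏ μ : f.Eigenvalues, (X - C (μ : K))
  have hsq : Squarefree p := by
    apply Polynomial.Separable.squarefree
    rw [Polynomial.separable_prod_X_sub_C_iff]
    exact Subtype.val_injective
  apply Module.End.isSemisimple_of_squarefree_aeval_eq_zero hsq
  apply LinearMap.ext_on h
  rintro v ⟨μ, hv⟩
  rw [LinearMap.zero_apply]
  by_cases hv0 : v = 0
  · rw [hv0, map_zero]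
  have hev : f.HasEigenvector μ v := ⟨Module.End.mem_eigenspace_iff.mpr hv, hv0⟩
  rw [Module.End.aeval_apply_of_hasEigenvector hev]
  have hμ : f.HasEigenvalue μ := Module.End.hasEigenvalue_of_hasEigenvector hev
  have : p.eval μ = 0 := by
    rw [Polynomial.eval_prod]
    let μ' : f.Eigenvalues := ⟨μ, hμ⟩
    apply Finset.prod_eq_zero (Finset.mem_univ μ')
    simp [μ']
  rw [this, zero_smul]

end LA

variable {k : Type u} [Field k] {A : Type v} [CommRing A] [HopfAlgebra k A]

theorem act_eq_smul {V : Type w} [AddCommGroup V] [Module k V] (c : HopfRep.Comod k A V)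
    (g : A →ₐ[k] k) {v : V} {a : A} (h : c.coact v = v ⊗ₜ[k] a) :
    @HopfRep.Comod.act k A _ _ _ V _ _ c g v = g a • v := by
  unfold HopfRep.Comod.act
  rw [LinearMap.comp_apply, LinearMap.comp_apply, h]
  simp

theorem isSemisimple_act_of_isDiagonalizable (h : HopfRep.IsDiagonalizable k A)
    {V : Type w} [AddCommGroup V] [Module k V] [Module.Finite k V] (c : HopfRep.Comod k A V)
    (g : A →ₐ[k] k) : Module.End.IsSemisimple (@HopfRep.Comod.act k A _ _ _ V _ _ c g) := by
  apply isSemisimple_of_span_eigenvectors
  rw [eq_top_iff, ← span_eigSet_eq_top_of_span_groupLike h c]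
  apply Submodule.span_mono
  rintro v ⟨a, ha⟩
  exact ⟨g a, act_eq_smul c g ha⟩

/-- comodule maps commute with the action of a point -/
theorem act_hom {V : Type w} [AddCommGroup V] [Module k V] {V' : Type w} [AddCommGroup V']
    [Module k V'] {c : HopfRep.Comod k A V} {c' : HopfRep.Comod k A V'} {φ : V →ₗ[k] V'}
    (hφ : IsHom c c' φ) (g : A →ₐ[k] k) (v : V) :
    @HopfRep.Comod.act k A _ _ _ V' _ _ c' g (φ v) = φ (@HopfRep.Comod.act k A _ _ _ V _ _ c g v) := by
  unfold HopfRep.Comod.act
  rw [LinearMap.comp_apply, LinearMap.comp_apply, LinearMap.comp_apply, LinearMap.comp_apply,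
    isHom_apply hφ]
  generalize c.coact v = x
  induction x using TensorProduct.induction_on with
  | zero => simp
  | add x y hx hy => simp only [map_add, hx, hy]
  | tmul x a => simp

theorem act_regular (g : A →ₐ[k] k) (a : A) :
    @HopfRep.Comod.act k A _ _ _ A _ _ (HopfRep.Comod.regular k A) g a =
      TensorProduct.rid k A (LinearMap.lTensor A g.toLinearMap (Coalgebra.comul (R := k) a)) := rfl

/-- a point acting semisimply on all finite-dimensional comodules kills primitive elements -/
theorem point_eq_zero_of_primitive (g : A →ₐ[k] k) {f : A}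
    (hf : Coalgebra.comul (R := k) f = f ⊗ₜ[k] (1 : A) + (1 : A) ⊗ₜ[k] f)
    (hss : ∀ (V : Type v) [AddCommGroup V] [Module k V] [HopfRep.Comod k A V], Module.Finite k V →
      Module.End.IsSemisimple (HopfRep.Comod.act k A V g)) : g f = 0 := by
  let cA := HopfRep.Comod.regular k A
  let W : Submodule k A := Submodule.span k {(1 : A), f}
  have h1W : (1 : A) ∈ W := Submodule.subset_span (by simp)
  have hfW : f ∈ W := Submodule.subset_span (by simp)
  have hW : IsSub cA W := by
    rw [isSub_iff_slice]
    intro w hw φ
    obtain ⟨a, b, rfl⟩ := Submodule.mem_span_pair.mp hw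
    have : cA.coact (a • (1 : A) + b • f) =
        a • ((1 : A) ⊗ₜ[k] (1 : A)) + b • (f ⊗ₜ[k] (1 : A) + (1 : A) ⊗ₜ[k] f) := by
      show Coalgebra.comul (R := k) (a • (1 : A) + b • f) = _
      rw [map_add, map_smul, map_smul, hf, Bialgebra.comul_one, Algebra.TensorProduct.one_def]
    rw [this]
    simp only [map_add, map_smul, slice_tmul]
    exact W.add_mem (W.smul_mem _ (W.smul_mem _ h1W))
      (W.smul_mem _ (W.add_mem (W.smul_mem _ hfW) (W.smul_mem _ h1W)))
  let cW := ComodSub.Comod.restr cA W hW
  have hι : IsHom cW cA W.subtype := ComodSub.isComodHom_subtype cA W hW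
  have : Module.Finite k W := Module.Finite.span_of_finite k (by simp)
  have hsem := @hss W _ _ cW inferInstance
  set T := @HopfRep.Comod.act k A _ _ _ W _ _ cW g with hT
  have hT1 : ∀ w : W, ((T w : W) : A) = @HopfRep.Comod.act k A _ _ _ A _ _ cA g (w : A) := by
    intro w
    exact (act_hom hι g w).symm
  have hA1 : @HopfRep.Comod.act k A _ _ _ A _ _ cA g (1 : A) = 1 := by
    rw [act_regular, Bialgebra.comul_one, Algebra.TensorProduct.one_def]
    simp
  have hAf : @HopfRep.Comod.act k A _ _ _ A _ _ cA g f = f + g f • (1 : A) := by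
    rw [act_regular, hf]
    simp
  let N : Module.End k W := T - algebraMap k (Module.End k W) 1
  have hNss : N.IsSemisimple := Module.End.isSemisimple_sub_algebraMap_iff.mpr hsem
  have hNval : ∀ w : W, ((N w : W) : A) =
      @HopfRep.Comod.act k A _ _ _ A _ _ cA g (w : A) - (w : A) := by
    intro w
    simp only [N, LinearMap.sub_apply, map_one, Module.End.one_apply, Submodule.coe_sub, hT1]
  have hNN : N * N = 0 := by
    apply LinearMap.ext
    intro w
    apply Subtype.ext
    rw [Module.End.mul_apply, hNval, hNval, LinearMap.zero_apply, Submodule.coe_zero]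
    obtain ⟨a, b, hab⟩ := Submodule.mem_span_pair.mp w.2
    rw [← hab]
    simp only [map_add, map_smul, hA1, hAf, map_sub]
    simp only [smul_add]
    abel
  have hN0 : N = 0 :=
    Module.End.eq_zero_of_isNilpotent_isSemisimple ⟨2, by rw [pow_two, hNN]⟩ hNss
  have h2 := hNval ⟨f, hfW⟩
  rw [hN0, LinearMap.zero_apply, Submodule.coe_zero, hAf, add_sub_cancel_left] at h2
  have := nontrivial_of_hopf k A
  rcases smul_eq_zero.mp h2.symm with h3 | h3
  · exact h3
  · exact absurd h3 one_ne_zero

theorem eq_zero_of_forall_point_eq_zero [IsAlgClosed k] [Algebra.FiniteType k A] [IsReduced A]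
    (f : A) (h : ∀ g : A →ₐ[k] k, g f = 0) : f = 0 := by
  have hle : Ideal.span {f} ≤ (⊥ : Ideal A) := by
    apply Cartier.le_of_forall_points (k := k) Ideal.isRadical_bot
    intro z _
    let e : k ≃ₐ[k] AlgebraicClosure k :=
      AlgEquiv.ofBijective (Algebra.ofId k _) IsAlgClosed.algebraMap_bijective_of_isIntegral
    let g : A →ₐ[k] k := (e.symm : AlgebraicClosure k →ₐ[k] k).comp z
    rw [Ideal.span_le, Set.singleton_subset_iff]
    show z f = 0
    have hg : e.symm (z f) = 0 := h g
    exact (EmbeddingLike.map_eq_zero_iff (f := e.symm)).mp hg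
  have := hle (Ideal.subset_span (Set.mem_singleton f))
  exact (Submodule.mem_bot A).mp this

/-- over an algebraically closed field, a reduced cocommutative Hopf algebra of finite type is
diagonalizable iff every point acts semisimply on every finite-dimensional comodule -/
theorem isDiagonalizable_iff [IsAlgClosed k] [Algebra.FiniteType k A] [IsReduced A]
    [Coalgebra.IsCocomm k A] :
    HopfRep.IsDiagonalizable k A ↔
      ∀ (g : A →ₐ[k] k) (V : Type v) [AddCommGroup V] [Module k V] [HopfRep.Comod k A V],
        Module.Finite k V → Module.End.IsSemisimple (HopfRep.Comod.act k A V g) := by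
  constructor
  · intro h g V _ _ cV hfin
    exact isSemisimple_act_of_isDiagonalizable h cV g
  · intro h
    apply MultType.isDiagonalizable_of_cocomm_noPrim
    intro f hf
    apply eq_zero_of_forall_point_eq_zero (k := k)
    intro g
    exact point_eq_zero_of_primitive g hf (h g)

end SSPts

end Groth.Agent.Lib.Helper96
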