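import Groth.Agent.Lib.Helper96.Reynolds
import Groth.Agent.Lib.Helper96.LinRed
import Mathlib

/-! Orbit maps of comodule algebras, k-points over algebraically closed fields, and separation of
orbit closures by invariants (helper96). -/

set_option autoImplicit false

open TensorProduct
universe u v w
namespace Groth.Agent.Lib.Helper96

namespace OrbitSep

section Points
variable {k : Type u} [Field k] [IsAlgClosed k] {R : Type w} [CommRing R] [Algebra k R]
  [Algebra.FiniteType k R]

/-- Nullstellensatz: a proper ideal of a finitely generated algebra over an algebraically closed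
field is killed by some `k`-point -/
theorem exists_algHom_of_ne_top (J : Ideal R) (hJ : J ≠ ⊤) :
    ∃ z : R →ₐ[k] k, ∀ f ∈ J, z f = 0 := by
  obtain ⟨m, hm, hJm⟩ := Ideal.exists_le_maximal J hJ
  letI := Ideal.Quotient.field m
  haveI : Algebra.FiniteType k (R ⧸ m) :=
    Algebra.FiniteType.of_surjective (Ideal.Quotient.mkₐ k m) (Ideal.Quotient.mkₐ_surjective k m)
  haveI : Module.Finite k (R ⧸ m) := finite_of_finite_type_of_isJacobsonRing k (R ⧸ m)
  haveI : Algebra.IsIntegral k (R ⧸ m) := Algebra.IsIntegral.of_finite k (R ⧸ m)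
  have hbij : Function.Bijective (algebraMap k (R ⧸ m)) :=
    IsAlgClosed.algebraMap_bijective_of_isIntegral
  let e : k ≃ₐ[k] (R ⧸ m) := AlgEquiv.ofBijective (Algebra.ofId k (R ⧸ m)) hbij
  refine ⟨e.symm.toAlgHom.comp (Ideal.Quotient.mkₐ k m), ?_⟩
  intro f hf
  have : Ideal.Quotient.mkₐ k m f = 0 := by
    rw [Ideal.Quotient.mkₐ_eq_mk, Ideal.Quotient.eq_zero_iff_mem]
    exact hJm hf
  rw [AlgHom.comp_apply, this, map_zero]

/-- an element killed by every `k`-point is nilpotent -/
theorem isNilpotent_of_forall_algHom (F : R) (h : ∀ g : R →ₐ[k] k, g F = 0) : IsNilpotent F := by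
  haveI : IsJacobsonRing R := isJacobsonRing_of_finiteType (A := k) (B := R)
  rw [← mem_nilradical, nilradical, ← IsJacobsonRing.out inferInstance (Ideal.radical_isRadical _)]
  rw [Ideal.jacobson, Ideal.mem_sInf]
  rintro m ⟨-, hm⟩
  by_contra hF
  obtain ⟨z, hz⟩ := exists_algHom_of_ne_top (k := k) m hm.ne_top
  have hker : m = RingHom.ker z := by
    apply hm.eq_of_le (RingHom.ker_ne_top _)
    intro f hf
    exact hz f hf
  apply hF
  rw [hker, RingHom.mem_ker]
  exact h z

end Points

section Orbit
variable {k : Type u} [Field k] {A : Type v} [CommRing A] [HopfAlgebra k A]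
variable {R : Type w} [CommRing R] [Algebra k R]
variable (c : HopfRep.Comod k A R)

/-- the orbit map `f ↦ Σ x(f₀) f₁` -/
noncomputable def orbMap (x : R →ₐ[k] k) : R →ₗ[k] A :=
  (TensorProduct.lid k A).toLinearMap ∘ₗ x.toLinearMap.rTensor A ∘ₗ c.coact

theorem orbMap_apply (x : R →ₐ[k] k) (f : R) :
    orbMap c x f = TensorProduct.lid k A (x.toLinearMap.rTensor A (c.coact f)) := rfl

theorem eval_act (x : R →ₐ[k] k) (g : A →ₐ[k] k) (f : R) :
    x (@HopfRep.Comod.act k A _ _ _ R _ _ c g f) = g (orbMap c x f) := by
  unfold HopfRep.Comod.act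
  rw [orbMap_apply]
  simp only [LinearMap.comp_apply, LinearEquiv.coe_coe]
  generalize c.coact f = y
  induction y using TensorProduct.induction_on with
  | zero => simp
  | add a b ha hb => simp only [map_add, ha, hb]
  | tmul r a => simp [mul_comm]

theorem counit_orbMap (x : R →ₐ[k] k) (f : R) :
    Coalgebra.counit (R := k) (orbMap c x f) = x f := by
  have h := slice_counit_coact c f
  rw [orbMap_apply]
  conv_rhs => rw [← h]
  generalize c.coact f = y
  induction y using TensorProduct.induction_on with
  | zero => simp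
  | add a b ha hb => simp only [map_add, ha, hb]
  | tmul r a => simp [mul_comm]

theorem orbMap_comodHom_aux (x : R →ₐ[k] k) (r : R) (w : A ⊗[k] A) :
    ((TensorProduct.lid k A).toLinearMap ∘ₗ x.toLinearMap.rTensor A).rTensor A
      ((TensorProduct.assoc k R A A).symm (r ⊗ₜ[k] w)) = x r • w := by
  induction w using TensorProduct.induction_on with
  | zero => simp
  | add a b ha hb => simp only [TensorProduct.tmul_add, map_add, ha, hb, smul_add]
  | tmul a b => simp [TensorProduct.smul_tmul']

/-- the orbit map is a comodule map to the regular comodule -/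
theorem orbMap_comodHom (x : R →ₐ[k] k) (f : R) :
    (orbMap c x).rTensor A (c.coact f) = Coalgebra.comul (R := k) (orbMap c x f) := by
  have hco := LinearMap.congr_fun c.coassoc f
  simp only [LinearMap.comp_apply, LinearEquiv.coe_coe] at hco
  have h1 : (orbMap c x).rTensor A (c.coact f) =
      ((TensorProduct.lid k A).toLinearMap ∘ₗ x.toLinearMap.rTensor A).rTensor A
        (c.coact.rTensor A (c.coact f)) := by
    have : orbMap c x = ((TensorProduct.lid k A).toLinearMap ∘ₗ x.toLinearMap.rTensor A) ∘ₗ
        c.coact := rfl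
    rw [this, LinearMap.rTensor_comp, LinearMap.comp_apply]
  rw [h1]
  have h2 : c.coact.rTensor A (c.coact f) =
      (TensorProduct.assoc k R A A).symm ((Coalgebra.comul (R := k) (A := A)).lTensor R (c.coact f)) := by
    rw [← hco, LinearEquiv.symm_apply_apply]
  rw [h2, orbMap_apply]
  generalize c.coact f = y
  induction y using TensorProduct.induction_on with
  | zero => simp
  | add a b ha hb => simp only [map_add, ha, hb]
  | tmul r a =>
    rw [LinearMap.lTensor_tmul, orbMap_comodHom_aux]
    simp

variable (hmul : ∀ f g : R, c.coact (f * g) = c.coact f * c.coact g) (hone : c.coact (1 : R) = 1)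

include hmul in
theorem orbMap_mul (x : R →ₐ[k] k) (f g : R) : orbMap c x (f * g) = orbMap c x f * orbMap c x g := by
  rw [orbMap_apply, orbMap_apply, orbMap_apply, hmul]
  generalize c.coact f = y
  generalize c.coact g = y'
  induction y using TensorProduct.induction_on with
  | zero => simp
  | add a b ha hb => simp only [add_mul, map_add, ha, hb]
  | tmul r a =>
    induction y' using TensorProduct.induction_on with
    | zero => simp
    | add a' b' ha hb => simp only [mul_add, map_add, ha, hb]
    | tmul r' a' =>
      simp only [Algebra.TensorProduct.tmul_mul_tmul, LinearMap.rTensor_tmul,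
        AlgHom.toLinearMap_apply, map_mul, TensorProduct.lid_tmul, smul_mul_smul_comm]

include hone in
theorem orbMap_one (x : R →ₐ[k] k) : orbMap c x 1 = 1 := by
  rw [orbMap_apply, hone, Algebra.TensorProduct.one_def]
  simp

/-- the orbit map as a ring hom -/
noncomputable def orbAlg (x : R →ₐ[k] k) : R →ₐ[k] A :=
  AlgHom.ofLinearMap (orbMap c x) (orbMap_one c hone x) (orbMap_mul c hmul x)

theorem orbAlg_apply (x : R →ₐ[k] k) (f : R) : orbAlg c hmul hone x f = orbMap c x f := rfl

/-- the kernel of the orbit map (ideal of the scheme-theoretic orbit closure) is a subcomodule -/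
theorem isSub_ker_orbMap (x : R →ₐ[k] k) : IsSub c (LinearMap.ker (orbMap c x)) := by
  rw [isSub_iff_slice]
  intro f hf φ
  rw [LinearMap.mem_ker] at hf ⊢
  rw [← slice_rTensor, orbMap_comodHom, hf, map_zero, map_zero]

theorem orbMap_fixed (x : R →ₐ[k] k) {f : R} (hf : c.coact f = f ⊗ₜ[k] (1 : A)) :
    orbMap c x f = x f • (1 : A) := by
  rw [orbMap_apply, hf]
  simp

end Orbit

end OrbitSep

end Groth.Agent.Lib.Helper96
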