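import Groth.Agent.Lib.Helper96.Integral

/-! Reynolds operator of a comodule over a Hopf algebra with a total integral (helper96). -/

set_option autoImplicit false

universe u v w w'

open TensorProduct

namespace Groth.Agent.Lib.Helper96

section Reynolds

variable {k : Type u} [Field k] {A : Type v} [CommRing A] [HopfAlgebra k A]
variable {V : Type w} [AddCommGroup V] [Module k V]
variable {W : Type w'} [AddCommGroup W] [Module k W]

/-- Reynolds operator `v ↦ Σ α(S v₁) v₀` -/
noncomputable def reyn (c : HopfRep.Comod k A V) (α : A →ₗ[k] k) : V →ₗ[k] V :=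
  slice V (α ∘ₗ (HopfAlgebra.antipode k (A := A))) ∘ₗ c.coact

theorem reyn_apply (c : HopfRep.Comod k A V) (α : A →ₗ[k] k) (v : V) :
    reyn c α v = slice V (α ∘ₗ (HopfAlgebra.antipode k (A := A))) (c.coact v) := rfl

theorem theta'_tmul_one (c : HopfRep.Comod k A V) (v : V) :
    theta' c (v ⊗ₜ[k] (1 : A)) = (HopfAlgebra.antipode k (A := A)).lTensor V (c.coact v) := by
  rw [theta', tw_tmul]
  congr 1
  ext b
  simp [mulS_apply]

theorem reyn_eq_retr (c : HopfRep.Comod k A V) (α : A →ₗ[k] k) (v : V) :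
    reyn c α v = retr c α (v ⊗ₜ[k] (1 : A)) := by
  rw [retr, LinearMap.comp_apply, theta'_tmul_one, slice_lTensor, reyn_apply]

theorem coact_reyn (c : HopfRep.Comod k A V) (α : A →ₗ[k] k)
    (hα : @Hoch.IsComodHom k _ A _ _ _ A _ _ _ k _ _ (HopfRep.Comod.trivial k A k) α) (v : V) :
    c.coact (reyn c α v) = reyn c α v ⊗ₜ[k] (1 : A) := by
  rw [reyn_eq_retr, isHom_apply (isHom_retr c α hα), indComod_coact_tmul, Bialgebra.comul_one,
    Algebra.TensorProduct.one_def]
  simp

theorem reyn_of_fixed (c : HopfRep.Comod k A V) (α : A →ₗ[k] k) (h1 : α 1 = 1) {v : V}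
    (hv : c.coact v = v ⊗ₜ[k] (1 : A)) : reyn c α v = v := by
  rw [reyn_eq_retr, ← hv, retr_coact c α h1]

theorem reyn_natural (c : HopfRep.Comod k A V) (d : HopfRep.Comod k A W) (α : A →ₗ[k] k)
    (f : V →ₗ[k] W) (v : V) (hf : d.coact (f v) = f.rTensor A (c.coact v)) :
    reyn d α (f v) = f (reyn c α v) := by
  rw [reyn_apply, hf, slice_rTensor, reyn_apply]

end Reynolds

section ReynoldsAlg

variable {k : Type u} [Field k] {A : Type v} [CommRing A] [HopfAlgebra k A]
variable {R : Type w} [CommRing R] [Algebra k R]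

theorem slice_mul_tmul_one (β : A →ₗ[k] k) (a : R) (y : R ⊗[k] A) :
    slice R β (y * (a ⊗ₜ[k] (1 : A))) = slice R β y * a := by
  induction y using TensorProduct.induction_on with
  | zero => simp
  | add x y hx hy => rw [add_mul, map_add, hx, hy, map_add, add_mul]
  | tmul r h =>
    rw [Algebra.TensorProduct.tmul_mul_tmul, mul_one, slice_tmul, slice_tmul, smul_mul_assoc]

/-- the Reynolds operator of a comodule algebra is linear over the invariants -/
theorem reyn_mul_fixed (c : HopfRep.Comod k A R) (α : A →ₗ[k] k)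
    (hmul : ∀ f g : R, c.coact (f * g) = c.coact f * c.coact g) (r a : R)
    (ha : c.coact a = a ⊗ₜ[k] (1 : A)) : reyn c α (r * a) = reyn c α r * a := by
  rw [reyn_apply, reyn_apply, hmul, ha]
  exact slice_mul_tmul_one _ _ _

end ReynoldsAlg

end Groth.Agent.Lib.Helper96
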