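import Groth.Agent.Lib.Helper96.Integral
import Groth.Agent.Lib.Helper96.CoalgChange

set_option autoImplicit false

open TensorProduct
universe u v w

namespace Groth.Agent.Lib.Helper96

section
variable {k : Type u} [Field k] {A : Type w} [AddCommGroup A] [Module k A] [Coalgebra k A]
variable {V : Type v} [AddCommGroup V] [Module k V]

/-- `x ⊗ b ↦ φ(x) b` -/
noncomputable def lsl' (φ : V →ₗ[k] k) : V ⊗[k] A →ₗ[k] A :=
  (TensorProduct.lid k A).toLinearMap ∘ₗ φ.rTensor A

theorem lsl'_tmul (φ : V →ₗ[k] k) (x : V) (b : A) : lsl' φ (x ⊗ₜ[k] b) = φ x • b := by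
  simp [lsl']

theorem comul_lsl' (φ : V →ₗ[k] k) (y : V ⊗[k] A) :
    CoalgebraStruct.comul (R := k) (lsl' φ y) =
      (lsl' (A := A) φ).rTensor A ((TensorProduct.assoc k V A A).symm
        ((CoalgebraStruct.comul (R := k) (A := A)).lTensor V y)) := by
  induction y using TensorProduct.induction_on with
  | zero => simp
  | add x y hx hy => simp only [map_add, hx, hy]
  | tmul x b =>
    rw [lsl'_tmul, map_smul, LinearMap.lTensor_tmul]
    generalize CoalgebraStruct.comul (R := k) b = z
    induction z using TensorProduct.induction_on with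
    | zero => simp
    | add z z' hz hz' => simp only [TensorProduct.tmul_add, map_add, smul_add, hz, hz']
    | tmul b' b'' =>
      simp [lsl'_tmul, TensorProduct.smul_tmul']

theorem comul_lsl'_coact (c : HopfRep.Comod k A V) (φ : V →ₗ[k] k) (v : V) :
    CoalgebraStruct.comul (R := k) (lsl' φ (c.coact v)) =
      (lsl' (A := A) φ ∘ₗ c.coact).rTensor A (c.coact v) := by
  rw [comul_lsl']
  have hco := LinearMap.congr_fun c.coassoc v
  simp only [LinearMap.coe_comp, Function.comp_apply, LinearEquiv.coe_coe] at hco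
  rw [← hco, LinearEquiv.symm_apply_apply, LinearMap.rTensor_comp, LinearMap.comp_apply]

theorem counit_lsl'_coact (c : HopfRep.Comod k A V) (φ : V →ₗ[k] k) (v : V) :
    CoalgebraStruct.counit (R := k) (lsl' φ (c.coact v)) = φ v := by
  have key : ∀ y : V ⊗[k] A, CoalgebraStruct.counit (R := k) (lsl' φ y) =
      φ (slice V (CoalgebraStruct.counit (R := k) (A := A)) y) := by
    intro y
    induction y using TensorProduct.induction_on with
    | zero => simp
    | add x y hx hy => simp only [map_add, hx, hy]
    | tmul x b => simp [lsl'_tmul, mul_comm]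
  rw [key, slice_counit_coact]

end


section Sep
variable {k : Type u} [Field k] {B : Type w} [AddCommGroup B] [Module k B]
variable {V : Type v} [AddCommGroup V] [Module k V]

/-- `x ⊗ b ↦ φ(x) b` for a plain module `B` -/
noncomputable def lslM (φ : V →ₗ[k] k) : V ⊗[k] B →ₗ[k] B :=
  (TensorProduct.lid k B).toLinearMap ∘ₗ φ.rTensor B

theorem lslM_tmul (φ : V →ₗ[k] k) (x : V) (b : B) : lslM φ (x ⊗ₜ[k] b) = φ x • b := by
  simp [lslM]

theorem lslM_eq_slice_comm (φ : V →ₗ[k] k) (y : V ⊗[k] B) :
    lslM φ y = slice B φ (TensorProduct.comm k V B y) := by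
  induction y using TensorProduct.induction_on with
  | zero => simp
  | add x y hx hy => simp only [map_add, hx, hy]
  | tmul x b => simp [lslM_tmul]

/-- left slices separate points -/
theorem eq_zero_of_lslM_eq_zero (y : V ⊗[k] B) (h : ∀ φ : Module.Dual k V, lslM φ y = 0) :
    y = 0 := by
  apply (TensorProduct.comm k V B).injective
  rw [map_zero]
  apply eq_zero_of_slice_eq_zero
  intro φ
  rw [← lslM_eq_slice_comm]
  exact h φ

theorem lslM_lTensor {B' : Type*} [AddCommGroup B'] [Module k B'] (φ : V →ₗ[k] k)
    (g : B →ₗ[k] B') (y : V ⊗[k] B) : lslM φ (g.lTensor V y) = g (lslM φ y) := by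
  induction y using TensorProduct.induction_on with
  | zero => simp
  | add x y hx hy => simp only [map_add, hx, hy]
  | tmul x b => simp [lslM_tmul]

theorem lslM_rTensor {V' : Type*} [AddCommGroup V'] [Module k V'] (φ : V' →ₗ[k] k)
    (f : V →ₗ[k] V') (y : V ⊗[k] B) : lslM φ (f.rTensor B y) = lslM (φ ∘ₗ f) y := by
  induction y using TensorProduct.induction_on with
  | zero => simp
  | add x y hx hy => simp only [map_add, hx, hy]
  | tmul x b => simp [lslM_tmul]

end Sep

end Groth.Agent.Lib.Helper96
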