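import Groth.Agent.Lib.Helper96.LeftSlice
import Groth.Agent.Lib.Helper96.Comod

/-! Matrix comodules: a multiplicative matrix `c : P → P → A` over a coalgebra gives a comodule
structure on `P → k`; coefficient matrices of comodules with respect to a basis (helper96). -/

set_option autoImplicit false

open TensorProduct
universe u v w
namespace Groth.Agent.Lib.Helper96

namespace MatComod

section Basic

variable {k : Type u} [Field k] {A : Type v} [AddCommGroup A] [Module k A] [Coalgebra k A]
variable {P : Type w} [Fintype P] [DecidableEq P]

/-- multiplicative matrices over a coalgebra -/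
structure IsMult (c : P → P → A) : Prop where
  comul : ∀ p q, CoalgebraStruct.comul (R := k) (c p q) = ∑ r, c p r ⊗ₜ[k] c r q
  counit : ∀ p q, CoalgebraStruct.counit (R := k) (c p q) = if p = q then 1 else 0

/-- the coaction attached to a matrix -/
noncomputable def coactFun (c : P → P → A) : (P → k) →ₗ[k] (P → k) ⊗[k] A :=
  ∑ q, ∑ p, (LinearMap.proj q : (P → k) →ₗ[k] k).smulRight
    ((Pi.single p (1 : k) : P → k) ⊗ₜ[k] c p q)

theorem coactFun_apply (c : P → P → A) (x : P → k) :
    coactFun (k := k) c x = ∑ q, ∑ p, x q • ((Pi.single p (1 : k) : P → k) ⊗ₜ[k] c p q) := by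
  simp [coactFun, LinearMap.sum_apply]

theorem coactFun_single (c : P → P → A) (q : P) :
    coactFun (k := k) c (Pi.single q 1) = ∑ p, (Pi.single p (1 : k) : P → k) ⊗ₜ[k] c p q := by
  rw [coactFun_apply, Finset.sum_eq_single q]
  · simp
  · intro q' _ hq'
    simp [Pi.single_eq_of_ne hq']
  · intro h
    exact absurd (Finset.mem_univ q) h

/-- the comodule on `P → k` attached to a multiplicative matrix -/
@[reducible] noncomputable def comod (c : P → P → A) (hc : IsMult (k := k) c) : HopfRep.Comod k A (P → k) where
  coact := coactFun c
  coassoc := by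
    apply LinearMap.pi_ext'
    intro q
    apply LinearMap.ext_ring
    simp only [LinearMap.coe_comp, Function.comp_apply, LinearMap.coe_single, LinearEquiv.coe_coe]
    rw [coactFun_single]
    simp only [map_sum, LinearMap.rTensor_tmul, LinearMap.lTensor_tmul, coactFun_single,
      TensorProduct.sum_tmul, TensorProduct.assoc_tmul, hc.comul, TensorProduct.tmul_sum]
    exact Finset.sum_comm
  counit_comp := by
    apply LinearMap.pi_ext'
    intro q
    apply LinearMap.ext_ring
    simp only [LinearMap.coe_comp, Function.comp_apply, LinearMap.coe_single]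
    rw [coactFun_single]
    simp only [map_sum, LinearMap.lTensor_tmul, hc.counit, LinearMap.flip_apply,
      TensorProduct.mk_apply]
    rw [Finset.sum_eq_single q]
    · simp
    · intro p _ hp
      simp [hp]
    · intro h
      exact absurd (Finset.mem_univ q) h

theorem comod_coact (c : P → P → A) (hc : IsMult (k := k) c) :
    (comod c hc).coact = coactFun c := rfl

end Basic

section Coef

variable {k : Type u} [Field k] {B : Type v} [AddCommGroup B] [Module k B]
variable {V : Type w} [AddCommGroup V] [Module k V]
variable {P : Type*} [Fintype P] [DecidableEq P]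

/-- expansion of a tensor along a finite basis of the left factor -/
theorem sum_basis_tmul_lslM (b : Module.Basis P k V) (y : V ⊗[k] B) :
    y = ∑ p, b p ⊗ₜ[k] lslM (b.coord p) y := by
  induction y using TensorProduct.induction_on with
  | zero => simp
  | add x y hx hy =>
    simp only [map_add, TensorProduct.tmul_add, Finset.sum_add_distrib]
    rw [← hx, ← hy]
  | tmul x r =>
    simp only [lslM_tmul, Module.Basis.coord_apply]
    conv_lhs => rw [← b.sum_repr x]
    rw [TensorProduct.sum_tmul]
    apply Finset.sum_congr rfl
    intro p _
    rw [TensorProduct.smul_tmul]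

theorem eq_zero_of_forall_coord (b : Module.Basis P k V) (y : V ⊗[k] B)
    (h : ∀ p, lslM (b.coord p) y = 0) : y = 0 := by
  rw [sum_basis_tmul_lslM b y]
  simp [h]

end Coef

section CoefMatrix

variable {k : Type u} [Field k] {A : Type v} [AddCommGroup A] [Module k A] [Coalgebra k A]
variable {V : Type w} [AddCommGroup V] [Module k V]
variable {P : Type*} [Fintype P] [DecidableEq P]

/-- the coefficient matrix of a comodule with respect to a basis -/
noncomputable def coefMatrix (c : HopfRep.Comod k A V) (b : Module.Basis P k V) : P → P → A :=
  fun p q => lsl' (b.coord p) (c.coact (b q))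

theorem lsl'_eq_lslM (φ : V →ₗ[k] k) (y : V ⊗[k] A) : lsl' φ y = lslM φ y := rfl

theorem coact_basis (c : HopfRep.Comod k A V) (b : Module.Basis P k V) (q : P) :
    c.coact (b q) = ∑ p, b p ⊗ₜ[k] coefMatrix c b p q :=
  sum_basis_tmul_lslM b (c.coact (b q))

theorem isMult_coefMatrix (c : HopfRep.Comod k A V) (b : Module.Basis P k V) :
    IsMult (k := k) (coefMatrix c b) where
  comul := by
    intro p q
    show CoalgebraStruct.comul (R := k) (lsl' (b.coord p) (c.coact (b q))) = _
    rw [comul_lsl'_coact]
    conv_lhs => rw [coact_basis c b q]
    simp only [map_sum, LinearMap.rTensor_tmul, LinearMap.comp_apply]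
    rfl
  counit := by
    intro p q
    show CoalgebraStruct.counit (R := k) (lsl' (b.coord p) (c.coact (b q))) = _
    rw [counit_lsl'_coact, Module.Basis.coord_apply, Module.Basis.repr_self,
      Finsupp.single_apply]
    simp only [eq_comm]

end CoefMatrix

end MatComod

end Groth.Agent.Lib.Helper96
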