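import Mathlib.RingTheory.Bialgebra.TensorProduct
import Mathlib.RingTheory.Bialgebra.Equiv
import Mathlib.RingTheory.TensorProduct.Maps
import Mathlib.RingTheory.Bialgebra.MonoidAlgebra
import Mathlib.RingTheory.HopfAlgebra.GroupLike
import Mathlib.RingTheory.HopfAlgebra.MonoidAlgebra

set_option autoImplicit false
universe u
open TensorProduct

namespace Groth.Agent.Lib.Helper96.BaseChangeBialg

variable (R S T : Type*) [CommRing R] [CommRing S] [CommRing T]
  [Algebra R S] [Algebra R T] [Algebra S T] [IsScalarTower R S T]
variable (N : Type*) [CommRing N] [Bialgebra R N]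

/-- cancellation of base change, as an isomorphism of bialgebras -/
noncomputable def cbc : T ⊗[S] (S ⊗[R] N) ≃ₐc[T] T ⊗[R] N :=
  BialgEquiv.ofAlgEquiv (Algebra.TensorProduct.cancelBaseChange R S T T N)
    (by
      ext x
      simp
      rw [Algebra.smul_def, Algebra.smul_def, mul_one, mul_one, ← IsScalarTower.algebraMap_apply])
    (by
      ext x
      simp
      generalize CoalgebraStruct.comul (R := R) x = z
      induction z using TensorProduct.induction_on with
      | zero => simp
      | add a b ha hb => simp only [TensorProduct.tmul_add, map_add, ha, hb]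
      | tmul a b => simp)

section GroupLike

variable (S T : Type*) [CommRing S] [CommRing T] [Algebra S T]
variable (C : Type*) [CommRing C] [Bialgebra S C]

/-- base change preserves group-like elements -/
theorem isGroupLikeElem_one_tmul {x : C} (hx : IsGroupLikeElem S x) :
    IsGroupLikeElem T ((1 : T) ⊗ₜ[S] x) where
  counit_eq_one := by
    rw [TensorProduct.counit_tmul, hx.counit_eq_one]
    simp
  comul_eq_tmul_self := by
    rw [TensorProduct.comul_tmul, hx.comul_eq_tmul_self]
    simp

/-- if `C` is spanned by group-likes, so is `T ⊗ C` -/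
theorem span_groupLike_baseChange
    (h : Submodule.span S {x : C | IsGroupLikeElem S x} = ⊤) :
    Submodule.span T {y : T ⊗[S] C | IsGroupLikeElem T y} = ⊤ := by
  rw [eq_top_iff]
  rintro y -
  induction y using TensorProduct.induction_on with
  | zero => exact Submodule.zero_mem _
  | add a b ha hb => exact Submodule.add_mem _ ha hb
  | tmul t c =>
    have hc : c ∈ Submodule.span S {x : C | IsGroupLikeElem S x} := by rw [h]; trivial
    induction hc using Submodule.span_induction with
    | mem x hx =>
      have : t ⊗ₜ[S] x = t • ((1 : T) ⊗ₜ[S] x) := by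
        rw [TensorProduct.smul_tmul', smul_eq_mul, mul_one]
      rw [this]
      exact Submodule.smul_mem _ _ (Submodule.subset_span (isGroupLikeElem_one_tmul S T C hx))
    | zero => simp
    | add a b _ _ ha hb => rw [TensorProduct.tmul_add]; exact Submodule.add_mem _ ha hb
    | smul r a _ ha =>
      rw [TensorProduct.tmul_smul]
      have : r • (t ⊗ₜ[S] a) = (algebraMap S T r) • (t ⊗ₜ[S] a) := by
        rw [algebraMap_smul]
      rw [this]
      exact Submodule.smul_mem _ _ ha

end GroupLike

section Transport

variable {K : Type*} [CommRing K] {B B' : Type*} [CommRing B] [Bialgebra K B] [CommRing B']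
  [Bialgebra K B']

/-- surjective coalgebra maps preserve "spanned by group-likes" -/
theorem span_groupLike_of_surjective (f : B →ₐc[K] B') (hf : Function.Surjective f)
    (h : Submodule.span K {x : B | IsGroupLikeElem K x} = ⊤) :
    Submodule.span K {y : B' | IsGroupLikeElem K y} = ⊤ := by
  rw [eq_top_iff]
  rintro y -
  obtain ⟨x, rfl⟩ := hf y
  have hx : x ∈ Submodule.span K {x : B | IsGroupLikeElem K x} := by rw [h]; trivial
  induction hx using Submodule.span_induction with
  | mem x hx => exact Submodule.subset_span (IsGroupLikeElem.map f hx)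
  | zero => simp
  | add a b _ _ ha hb => rw [map_add]; exact Submodule.add_mem _ ha hb
  | smul r a _ ha => rw [map_smul]; exact Submodule.smul_mem _ _ ha

end Transport

section Field

variable {K : Type u} [Field K] {B : Type u} [CommRing B] [HopfAlgebra K B]

/-- a commutative Hopf algebra over a field spanned by its group-likes is a group algebra -/
theorem exists_bialgEquiv_monoidAlgebra
    (h : Submodule.span K {x : B | IsGroupLikeElem K x} = ⊤) :
    ∃ (M : Type u) (_ : CommGroup M), Nonempty (B ≃ₐc[K] MonoidAlgebra K M) := by
  refine ⟨GroupLike K B, inferInstance, ⟨(BialgEquiv.ofBijective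
    (MonoidAlgebra.liftGroupLikeBialgHom (R := K) (A := B)) ⟨?_, ?_⟩).symm⟩⟩
  · -- injective: group-likes are linearly independent
    rw [injective_iff_map_eq_zero]
    intro x hx
    have hli := linearIndep_groupLikeVal (R := K) (A := B)
    rw [linearIndependent_iff] at hli
    have h1 : (MonoidAlgebra.liftGroupLikeBialgHom (R := K) (A := B)) x =
        Finsupp.linearCombination K (GroupLike.val (R := K) (A := B)) x.coeff := by
      rw [Finsupp.linearCombination_apply]
      exact MonoidAlgebra.lift_apply _ x
    rw [h1] at hx
    have := hli _ hx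
    exact MonoidAlgebra.coeff_injective this
  · -- surjective: the range contains all group-likes
    intro b
    have hb : b ∈ Submodule.span K {x : B | IsGroupLikeElem K x} := by rw [h]; trivial
    induction hb using Submodule.span_induction with
    | mem x hx =>
      refine ⟨MonoidAlgebra.single ⟨x, hx⟩ 1, ?_⟩
      simp
    | zero => exact ⟨0, map_zero _⟩
    | add a b _ _ ha hb =>
      obtain ⟨a', rfl⟩ := ha
      obtain ⟨b', rfl⟩ := hb
      exact ⟨a' + b', map_add _ _ _⟩
    | smul r a _ ha =>
      obtain ⟨a', rfl⟩ := ha
      exact ⟨r • a', map_smul _ _ _⟩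

end Field

end Groth.Agent.Lib.Helper96.BaseChangeBialg
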