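import Groth.Agent.Lib.Helper96.Chevalley
import Groth.Prelude.Def_ComodTens

/-! Stabilizers of lines for points in arbitrary algebras: coordinates, units, tensor products and
characters of closed subgroups (helper96). -/

set_option autoImplicit false

open TensorProduct
universe u v w
namespace Groth.Agent.Lib.Helper96

namespace ChevChar

section Coalg

variable {k : Type u} [Field k] {B : Type v} [AddCommGroup B] [Module k B] [Coalgebra k B]
variable {V : Type w} [AddCommGroup V] [Module k V]

theorem exists_dual_eq_one {v : V} (hv : v ≠ 0) : ∃ φ : Module.Dual k V, φ v = 1 := by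
  have h := (Module.forall_dual_apply_eq_zero_iff k v).not.mpr hv
  push Not at h
  obtain ⟨φ, hφ⟩ := h
  refine ⟨(φ v)⁻¹ • φ, ?_⟩
  rw [LinearMap.smul_apply, smul_eq_mul, inv_mul_cancel₀ hφ]

/-- the eigenvalue of a nonzero eigenvector is group-like -/
theorem isGroupLikeElem_of_coact_eq (c : HopfRep.Comod k B V) {v : V} (hv : v ≠ 0) {χ : B}
    (h : c.coact v = v ⊗ₜ[k] χ) : IsGroupLikeElem k χ := by
  obtain ⟨φ, hφ⟩ := exists_dual_eq_one (k := k) hv
  have hχ : lsl' φ (c.coact v) = χ := by
    rw [h, lsl'_tmul, hφ, one_smul]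
  constructor
  · rw [← hχ, counit_lsl'_coact, hφ]
  · have h1 := comul_lsl'_coact c φ v
    rw [hχ] at h1
    rw [h1, h, LinearMap.rTensor_tmul, LinearMap.comp_apply, hχ]

end Coalg

section Points

variable {k : Type u} [Field k] {A : Type v} [CommRing A] [HopfAlgebra k A]
variable {V : Type w} [AddCommGroup V] [Module k V]
variable {R : Type*} [CommRing R] [Algebra k R]

/-- stabilizing a line, in coordinates -/
theorem stab_iff (c : HopfRep.Comod k A V) (v : V) (g : A →ₐ[k] R) (r : R) :
    LinearMap.lTensor V g.toLinearMap (c.coact v) = v ⊗ₜ[k] r ↔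
      ∀ φ : Module.Dual k V, g (lslM φ (c.coact v)) = φ v • r := by
  constructor
  · intro h φ
    have := congrArg (lslM φ) h
    rwa [lslM_lTensor, lslM_tmul] at this
  · intro h
    rw [← sub_eq_zero]
    apply eq_zero_of_lslM_eq_zero
    intro φ
    rw [map_sub, lslM_lTensor, lslM_tmul, AlgHom.toLinearMap_apply, h φ, sub_self]

/-- the scalar by which a point moves a stabilized nonzero vector is a unit -/
theorem isUnit_of_stab (c : HopfRep.Comod k A V) {v : V} (hv : v ≠ 0) (g : A →ₐ[k] R) (r : R)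
    (h : LinearMap.lTensor V g.toLinearMap (c.coact v) = v ⊗ₜ[k] r) : IsUnit r := by
  obtain ⟨φ, hφ⟩ := exists_dual_eq_one (k := k) hv
  let cf : V →ₗ[k] A := lsl' φ ∘ₗ c.coact
  let Ψ : V ⊗[k] R →ₗ[k] R := TensorProduct.lift
    ((LinearMap.mul k R).comp (g.toLinearMap ∘ₗ (HopfAlgebra.antipode k (A := A)) ∘ₗ cf))
  have key : ∀ y : V ⊗[k] A, Ψ (LinearMap.lTensor V g.toLinearMap y) =
      g (LinearMap.mul' k A ((HopfAlgebra.antipode k (A := A)).rTensor A (cf.rTensor A y))) := by
    intro y
    induction y using TensorProduct.induction_on with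
    | zero => simp
    | add y z hy hz => simp only [map_add, hy, hz]
    | tmul y z => simp [Ψ]
  have h1 := key (c.coact v)
  have h2 : cf.rTensor A (c.coact v) = CoalgebraStruct.comul (R := k) (cf v) :=
    (comul_lsl'_coact c φ v).symm
  have h3 : CoalgebraStruct.counit (R := k) (cf v) = 1 := by
    show CoalgebraStruct.counit (R := k) (lsl' φ (c.coact v)) = 1
    rw [counit_lsl'_coact, hφ]
  rw [h2, HopfAlgebra.mul_antipode_rTensor_comul_apply, h3, map_one, map_one, h] at h1
  have h4 : Ψ (v ⊗ₜ[k] r) = g (HopfAlgebra.antipode k (cf v)) * r := by simp [Ψ]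
  rw [h4] at h1
  exact IsUnit.of_mul_eq_one_right _ h1

end Points

section Tensor

variable {k : Type u} [Field k] {A : Type v} [CommRing A] [HopfAlgebra k A]
variable {V : Type w} [AddCommGroup V] [Module k V] {V' : Type w} [AddCommGroup V'] [Module k V']

/-- the tensor product of two linear forms -/
noncomputable def dualTensor (φ : Module.Dual k V) (φ' : Module.Dual k V') :
    Module.Dual k (V ⊗[k] V') :=
  (TensorProduct.lid k k).toLinearMap ∘ₗ TensorProduct.map φ φ'

theorem dualTensor_tmul (φ : Module.Dual k V) (φ' : Module.Dual k V') (v : V) (v' : V') :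
    dualTensor φ φ' (v ⊗ₜ[k] v') = φ v * φ' v' := by
  simp [dualTensor]

/-- matrix coefficients of a tensor product -/
theorem lslM_tensor_coact (c : HopfRep.Comod k A V) (c' : HopfRep.Comod k A V')
    (φ : Module.Dual k V) (φ' : Module.Dual k V') (v : V) (v' : V') :
    lslM (dualTensor φ φ') ((ComodTens.Comod.tensor c c').coact (v ⊗ₜ[k] v')) =
      lslM φ (c.coact v) * lslM φ' (c'.coact v') := by
  rw [ComodTens.tensor_coact_tmul]
  generalize c.coact v = y
  generalize c'.coact v' = y'
  induction y using TensorProduct.induction_on with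
  | zero => simp
  | add y z hy hz => simp only [TensorProduct.add_tmul, map_add, hy, hz, add_mul]
  | tmul w a =>
    induction y' using TensorProduct.induction_on with
    | zero => simp
    | add y z hy hz => simp only [TensorProduct.tmul_add, map_add, hy, hz, mul_add]
    | tmul w' a' =>
      simp only [AlgebraTensorModule.tensorTensorTensorComm_tmul, TensorProduct.map_tmul,
        LinearMap.id_apply, LinearMap.mul'_apply, lslM_tmul, dualTensor_tmul]
      rw [smul_mul_smul_comm]

theorem tmul_ne_zero {v : V} {v' : V'} (hv : v ≠ 0) (hv' : v' ≠ 0) : v ⊗ₜ[k] v' ≠ 0 := by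
  obtain ⟨φ, hφ⟩ := exists_dual_eq_one (k := k) hv
  obtain ⟨φ', hφ'⟩ := exists_dual_eq_one (k := k) hv'
  intro h
  have := congrArg (dualTensor φ φ') h
  rw [dualTensor_tmul, hφ, hφ', map_zero, one_mul] at this
  exact one_ne_zero this

variable {R : Type*} [CommRing R] [Algebra k R]

/-- a point stabilizing the line of a pure tensor stabilizes the line of the first factor -/
theorem stab_of_stab_tensor (c : HopfRep.Comod k A V) (c' : HopfRep.Comod k A V')
    {v : V} {v' : V'} (hv : v ≠ 0) (hv' : v' ≠ 0) (g : A →ₐ[k] R) (r : R)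
    (h : LinearMap.lTensor (V ⊗[k] V') g.toLinearMap
      ((ComodTens.Comod.tensor c c').coact (v ⊗ₜ[k] v')) = (v ⊗ₜ[k] v') ⊗ₜ[k] r) :
    ∃ r' : R, LinearMap.lTensor V g.toLinearMap (c.coact v) = v ⊗ₜ[k] r' := by
  have hr : IsUnit r := isUnit_of_stab _ (tmul_ne_zero hv hv') g r h
  obtain ⟨φ₁, hφ₁⟩ := exists_dual_eq_one (k := k) hv
  obtain ⟨φ'₁, hφ'₁⟩ := exists_dual_eq_one (k := k) hv'
  have hcoef : ∀ (φ : Module.Dual k V) (φ' : Module.Dual k V'),
      g (lslM φ (c.coact v)) * g (lslM φ' (c'.coact v')) = (φ v * φ' v') • r := by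
    intro φ φ'
    have := (stab_iff _ _ g r).mp h (dualTensor φ φ')
    rwa [lslM_tensor_coact, map_mul, dualTensor_tmul] at this
  set u := g (lslM φ'₁ (c'.coact v')) with hu
  have hu1 : g (lslM φ₁ (c.coact v)) * u = r := by
    rw [hcoef φ₁ φ'₁, hφ₁, hφ'₁, one_mul, one_smul]
  have huu : IsUnit u := isUnit_of_mul_isUnit_right (hu1 ▸ hr)
  obtain ⟨u', hu'⟩ := huu.exists_right_inv
  refine ⟨r * u', ?_⟩
  rw [stab_iff]
  intro φ
  have h1 := hcoef φ φ'₁
  rw [hφ'₁, mul_one] at h1
  calc g (lslM φ (c.coact v)) = g (lslM φ (c.coact v)) * (u * u') := by rw [hu', mul_one]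
    _ = (g (lslM φ (c.coact v)) * u) * u' := by ring
    _ = φ v • (r * u') := by rw [h1, smul_mul_assoc]

end Tensor

section Sub

variable {k : Type u} [Field k] {A : Type v} [CommRing A] [HopfAlgebra k A]
variable {B : Type v} [CommRing B] [HopfAlgebra k B]

/-- bialgebra maps of commutative Hopf algebras commute with the antipodes -/
theorem bialgHom_antipode (π : A →ₐc[k] B) (a : A) :
    π (HopfAlgebra.antipode k a) = HopfAlgebra.antipode k (π a) := by
  let F : WithConv (A →ₐ[k] B) := WithConv.toConv (π : A →ₐ[k] B)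
  let F' : WithConv (A →ₐ[k] B) :=
    WithConv.toConv ((HopfAlgebra.antipodeAlgHom k B).comp (π : A →ₐ[k] B))
  have h1 : F' * F = 1 := by
    have h2 := AlgHom.convMul_comp_bialgHom_distrib
      (WithConv.toConv (HopfAlgebra.antipodeAlgHom k B)) (WithConv.toConv (AlgHom.id k B)) π
    rw [AlgHom.antipode_id_cancel] at h2
    apply WithConv.ofConv_injective
    have h3 : (F' * F).ofConv = ((1 : WithConv (B →ₐ[k] B)).ofConv).comp (π : A →ₐ[k] B) := by
      rw [h2]
      rfl
    rw [h3]
    apply AlgHom.ext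
    intro x
    show algebraMap k B (CoalgebraStruct.counit (R := k) (π x)) =
      algebraMap k B (CoalgebraStruct.counit (R := k) x)
    rw [CoalgHomClass.counit_comp_apply]
  have h4 : F' = F⁻¹ := eq_inv_of_mul_eq_one_left h1
  have h5 := congrArg (fun G : WithConv (A →ₐ[k] B) => G.ofConv a) h4
  exact h5.symm

/-- the kernel of a bialgebra map of commutative Hopf algebras is a Hopf ideal -/
theorem isHopfIdeal_ker (π : A →ₐc[k] B) : (RingHom.ker (π : A →+* B)).IsHopfIdeal k := by
  let J : Submodule k A := (RingHom.ker (π : A →+* B)).restrictScalars k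
  have hJ : ∀ x, x ∈ J ↔ π x = 0 := fun x => Iff.rfl
  let π' : (A ⧸ J) →ₗ[k] B := J.liftQ (π : A →ₗ[k] B) (fun x hx => (hJ x).mp hx)
  have hπ' : Function.Injective π' := by
    rw [← LinearMap.ker_eq_bot, Submodule.ker_liftQ_eq_bot']
    ext x
    exact (hJ x).symm
  have hinj : Function.Injective (TensorProduct.map π' π') :=
    TensorProduct.map_injective_of_flat_flat π' π' hπ' hπ'
  have hcoideal : J.IsCoideal := by
    constructor
    · intro x hx
      rw [← CoalgHomClass.counit_comp_apply π x, (hJ x).mp hx, map_zero]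
    · intro x hx
      apply hinj
      rw [map_zero, ← LinearMap.comp_apply, ← TensorProduct.map_comp]
      have h1 : π' ∘ₗ J.mkQ = (π : A →ₗ[k] B) := J.liftQ_mkQ _ _
      rw [h1]
      have h2 := CoalgHomClass.map_comp_comul_apply π x
      rw [(hJ x).mp hx, map_zero] at h2
      exact h2
  exact { toIsCoideal := hcoideal
          antipode_mem := by
            intro x hx
            have : π x = 0 := hx
            show π (HopfAlgebra.antipode k x) = 0
            rw [bialgHom_antipode, this, map_zero] }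

variable {V : Type w} [AddCommGroup V] [Module k V] {V' : Type w} [AddCommGroup V'] [Module k V']
variable {R : Type*} [CommRing R] [Algebra k R]

/-- an eigenvector of a closed subgroup has its line stabilized by the points of the subgroup -/
theorem stab_of_eig (π : A →ₐc[k] B) (hπ : Function.Surjective π) (c : HopfRep.Comod k A V)
    (v : V) (χ : B)
    (hχ : LinearMap.lTensor V π.toLinearMap (c.coact v) = v ⊗ₜ[k] χ)
    (g : A →ₐ[k] R) (hg : ∀ a ∈ RingHom.ker (π : A →+* B), g a = 0) :
    ∃ r : R, LinearMap.lTensor V g.toLinearMap (c.coact v) = v ⊗ₜ[k] r := by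
  obtain ⟨x, hx⟩ := hπ χ
  refine ⟨g x, ?_⟩
  rw [stab_iff]
  intro φ
  have h1 := (stab_iff c v (π : A →ₐ[k] B) χ).mp hχ φ
  have h2 : lslM φ (c.coact v) - φ v • x ∈ RingHom.ker (π : A →+* B) := by
    show π (lslM φ (c.coact v) - φ v • x) = 0
    rw [map_sub, map_smul, hx]
    exact sub_eq_zero.mpr h1
  have h3 := hg _ h2
  rw [map_sub, map_smul] at h3
  exact sub_eq_zero.mp h3

/-- eigenvectors of a closed subgroup tensor to eigenvectors -/
theorem eig_tensor (π : A →ₐc[k] B) (c : HopfRep.Comod k A V) (c' : HopfRep.Comod k A V')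
    (v : V) (v' : V') (χ ψ : B)
    (hχ : LinearMap.lTensor V π.toLinearMap (c.coact v) = v ⊗ₜ[k] χ)
    (hψ : LinearMap.lTensor V' π.toLinearMap (c'.coact v') = v' ⊗ₜ[k] ψ) :
    LinearMap.lTensor (V ⊗[k] V') π.toLinearMap
      ((ComodTens.Comod.tensor c c').coact (v ⊗ₜ[k] v')) = (v ⊗ₜ[k] v') ⊗ₜ[k] (χ * ψ) := by
  rw [ComodTens.tensor_coact_tmul]
  have key : ∀ (y : V ⊗[k] A) (y' : V' ⊗[k] A),
      LinearMap.lTensor (V ⊗[k] V') π.toLinearMap
        (TensorProduct.map LinearMap.id (LinearMap.mul' k A)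
          (AlgebraTensorModule.tensorTensorTensorComm k k k k V A V' A (y ⊗ₜ[k] y'))) =
      TensorProduct.map LinearMap.id (LinearMap.mul' k B)
        (AlgebraTensorModule.tensorTensorTensorComm k k k k V B V' B
          (LinearMap.lTensor V π.toLinearMap y ⊗ₜ[k] LinearMap.lTensor V' π.toLinearMap y')) := by
    intro y y'
    induction y using TensorProduct.induction_on with
    | zero => simp
    | add y z hy hz => simp only [TensorProduct.add_tmul, map_add, hy, hz]
    | tmul w a =>
      induction y' using TensorProduct.induction_on with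
      | zero => simp
      | add y z hy hz => simp only [TensorProduct.tmul_add, map_add, hy, hz]
      | tmul w' a' =>
        simp only [AlgebraTensorModule.tensorTensorTensorComm_tmul, TensorProduct.map_tmul,
          LinearMap.id_apply, LinearMap.mul'_apply, LinearMap.lTensor_tmul]
        congr 1
        exact map_mul π a a'
  rw [key, hχ, hψ]
  simp

end Sub

section Final

variable {k A B : Type u} [Field k] [CommRing A] [HopfAlgebra k A] [CommRing B] [HopfAlgebra k B]

/-- a character of the closed subgroup `Spec B` occurs in a finite-dimensional representation -/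
def Occ (π : A →ₐc[k] B) (ψ : B) : Prop :=
  ∃ (V : Type u) (_ : AddCommGroup V) (_ : Module k V) (c : HopfRep.Comod k A V)
    (_ : Module.Finite k V) (v : V),
    v ≠ 0 ∧ LinearMap.lTensor V π.toLinearMap (c.coact v) = v ⊗ₜ[k] ψ

/-- the closed subgroup `Spec B` is the stabilizer of a line on which it acts through `χ` -/
def Good (π : A →ₐc[k] B) (χ : B) : Prop :=
  ∃ (V : Type u) (_ : AddCommGroup V) (_ : Module k V) (c : HopfRep.Comod k A V)
    (_ : Module.Finite k V) (v : V),
    v ≠ 0 ∧
    (∀ (R : Type u) [CommRing R] [Algebra k R] (g : A →ₐ[k] R),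
      (∀ a ∈ RingHom.ker (π : A →+* B), g a = 0) ↔
        ∃ r : R, LinearMap.lTensor V g.toLinearMap (c.coact v) = v ⊗ₜ[k] r) ∧
    LinearMap.lTensor V π.toLinearMap (c.coact v) = v ⊗ₜ[k] χ

theorem Good.occ {π : A →ₐc[k] B} {χ : B} (h : Good π χ) : Occ π χ := by
  obtain ⟨V, i1, i2, c, i3, v, hv, -, hχ⟩ := h
  exact ⟨V, i1, i2, c, i3, v, hv, hχ⟩

theorem good_tensor {π : A →ₐc[k] B} (hπ : Function.Surjective π) {χ ψ : B}
    (h1 : Good π χ) (h2 : Occ π ψ) : Good π (χ * ψ) := by
  obtain ⟨V, i1, i2, c, i3, v, hv, hrep, hχ⟩ := h1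
  obtain ⟨V', j1, j2, c', j3, v', hv', hψ⟩ := h2
  refine ⟨V ⊗[k] V', inferInstance, inferInstance, ComodTens.Comod.tensor c c', inferInstance,
    v ⊗ₜ[k] v', tmul_ne_zero hv hv', ?_, eig_tensor π c c' v v' χ ψ hχ hψ⟩
  intro R _ _ g
  constructor
  · intro hg
    exact stab_of_eig π hπ _ _ _ (eig_tensor π c c' v v' χ ψ hχ hψ) g hg
  · rintro ⟨r, hr⟩
    exact (hrep R g).mpr (stab_of_stab_tensor c c' hv hv' g r hr)

theorem good_pow {π : A →ₐc[k] B} (hπ : Function.Surjective π) {χ : B} (h : Good π χ) :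
    ∀ m : ℕ, 0 < m → Good π (χ ^ m) := by
  intro m hm
  induction m with
  | zero => omega
  | succ m ih =>
    rcases Nat.eq_zero_or_pos m with h0 | hpos
    · subst h0
      rw [zero_add, pow_one]
      exact h
    · rw [pow_succ]
      exact good_tensor hπ (ih hpos) h.occ

theorem exists_good [Algebra.FiniteType k A] (π : A →ₐc[k] B) : ∃ χ : B, Good π χ := by
  have hI : (RingHom.ker (π : A →+* B)).IsHopfIdeal k := isHopfIdeal_ker π
  obtain ⟨d, e, cc, hcc, h⟩ := Chevalley.exists_line.{u, u, u} (k := k) (RingHom.ker (π : A →+* B))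
  have h1 := (h B (π : A →ₐ[k] B)).mp (fun a ha => ha)
  obtain ⟨χ, hχ⟩ := h1
  refine ⟨χ, (Fin d → ChevDet.Idx d e) → k, inferInstance, inferInstance, MatComod.comod cc hcc,
    inferInstance, ChevDet.vvec k d e, ?_, fun R _ _ g => h R g, hχ⟩
  intro h0
  have h1 := ChevDet.vvec_inl (d := d) (e := e) k
  rw [h0] at h1
  exact zero_ne_one h1

/-- Chevalley's theorem with trivial character -/
theorem good_one [Algebra.FiniteType k A] (π : A →ₐc[k] B) (hπ : Function.Surjective π)
    (hocc : ∀ χ : B, IsGroupLikeElem k χ → Occ π χ →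
      ∃ m : ℕ, 0 < m ∧ ∃ ψ : B, IsGroupLikeElem k ψ ∧ ψ * χ ^ m = 1 ∧ Occ π ψ) :
    Good π 1 := by
  obtain ⟨χ, hχ⟩ := exists_good π
  have hgl : IsGroupLikeElem k χ := by
    obtain ⟨V, i1, i2, c, i3, v, hv, -, hv2⟩ := hχ
    exact isGroupLikeElem_of_coact_eq (GLin.comodAlong π c) hv hv2
  obtain ⟨m, hm, ψ, -, hψm, hψ⟩ := hocc χ hgl hχ.occ
  have := good_tensor hπ (good_pow hπ hχ m hm) hψ
  rwa [mul_comm, hψm] at this

end Final

end ChevChar

end Groth.Agent.Lib.Helper96
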