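import Mathlib

/-! Determinantal identities behind Chevalley's theorem on stabilizers of lines: the antisymmetrizer
vector in a tensor power, written in coordinates (helper96). -/

set_option autoImplicit false

open Matrix
universe u v
namespace Groth.Agent.Lib.Helper96

namespace ChevDet

variable {d e : ℕ}

/-- the index type of the adapted basis: the first `d` vectors span the subspace -/
abbrev Idx (d e : ℕ) := Fin d ⊕ Fin e

section Vvec

variable (k : Type u) [Field k]

/-- the antisymmetrizer of the first `d` basis vectors, as a function on multi-indices -/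
noncomputable def vvec (d e : ℕ) : (Fin d → Idx d e) → k :=
  ∑ σ : Equiv.Perm (Fin d), (Equiv.Perm.sign σ : ℤ) •
    (Pi.single (fun j => Sum.inl (σ j)) (1 : k) : (Fin d → Idx d e) → k)

theorem vvec_apply (f : Fin d → Idx d e) :
    vvec k d e f = ∑ σ : Equiv.Perm (Fin d), (Equiv.Perm.sign σ : ℤ) •
      (if (fun j => (Sum.inl (σ j) : Idx d e)) = f then (1 : k) else 0) := by
  simp only [vvec, Finset.sum_apply, Pi.smul_apply, Pi.single_apply]
  apply Finset.sum_congr rfl
  intro σ _
  congr 1
  simp only [eq_comm]

theorem vvec_inl : vvec k d e (fun j => Sum.inl j) = 1 := by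
  rw [vvec_apply, Finset.sum_eq_single (1 : Equiv.Perm (Fin d))]
  · simp
  · intro σ _ hσ
    have : (fun j => (Sum.inl (σ j) : Idx d e)) ≠ fun j => Sum.inl j := by
      intro h
      apply hσ
      ext j
      have := congrFun h j
      simpa using congrArg Fin.val (Sum.inl_injective this)
    simp [this]
  · intro h
    exact absurd (Finset.mem_univ _) h

theorem vvec_eq_zero_of_inr (f : Fin d → Idx d e) (j : Fin d) (i : Fin e)
    (h : f j = Sum.inr i) : vvec k d e f = 0 := by
  rw [vvec_apply]
  apply Finset.sum_eq_zero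
  intro σ _
  have : (fun j => (Sum.inl (σ j) : Idx d e)) ≠ f := by
    intro h'
    have := congrFun h' j
    rw [h] at this
    exact Sum.inl_ne_inr this
  simp [this]

end Vvec

section Det

variable {R : Type v} [CommRing R]

/-- the `d × d` matrix of the first `d` columns of `t`, rows picked by `f` (transposed) -/
def Tm (t : Idx d e → Idx d e → R) (f : Fin d → Idx d e) : Matrix (Fin d) (Fin d) R :=
  fun l j => t (f j) (Sum.inl l)

/-- the matrix of a self-map of `Fin d` -/
def Pm (R : Type v) [CommRing R] (τ : Fin d → Fin d) : Matrix (Fin d) (Fin d) R :=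
  fun m j => if τ j = m then 1 else 0

theorem Tm_comp (t : Idx d e → Idx d e → R) (τ : Fin d → Fin d) :
    Tm t (fun j => Sum.inl (τ j)) = Tm t (fun j => Sum.inl j) * Pm R τ := by
  ext l j
  simp only [Tm, Pm, Matrix.mul_apply, mul_ite, mul_one, mul_zero]
  rw [Finset.sum_eq_single (τ j)]
  · simp
  · intro m _ hm
    simp [Ne.symm hm]
  · intro h
    exact absurd (Finset.mem_univ _) h

theorem det_Pm (k : Type u) [Field k] [Algebra k R] (τ : Fin d → Fin d) :
    (Pm R τ).det = algebraMap k R (vvec k d e (fun j => Sum.inl (τ j))) := by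
  rw [vvec_apply, Matrix.det_apply, map_sum]
  apply Finset.sum_congr rfl
  intro σ _
  rw [map_zsmul]
  congr 1
  simp only [Pm]
  rw [Fintype.prod_boole]
  have : (∀ i, τ i = σ i) ↔ (fun j => (Sum.inl (σ j) : Idx d e)) = fun j => Sum.inl (τ j) := by
    constructor
    · intro h
      funext j
      rw [h j]
    · intro h i
      exact (Sum.inl_injective (congrFun h i)).symm
  by_cases h : ∀ i, τ i = σ i
  · rw [if_pos h, if_pos (this.mp h), map_one]
  · rw [if_neg h, if_neg (fun h' => h (this.mpr h')), map_zero]

/-- block upper triangular matrices have the right Plücker coordinates -/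
theorem det_Tm_of_block (k : Type u) [Field k] [Algebra k R] (t : Idx d e → Idx d e → R)
    (ht : ∀ i l, t (Sum.inr i) (Sum.inl l) = 0) (f : Fin d → Idx d e) :
    (Tm t f).det = vvec k d e f • (Tm t (fun j => Sum.inl j)).det := by
  by_cases h : ∃ j i, f j = Sum.inr i
  · obtain ⟨j, i, hji⟩ := h
    rw [vvec_eq_zero_of_inr k f j i hji, zero_smul]
    apply Matrix.det_eq_zero_of_column_eq_zero j
    intro l
    simp only [Tm, hji, ht]
  · push Not at h
    have h' : ∀ j, ∃ l, f j = Sum.inl l := by
      intro j
      rcases hfj : f j with l | i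
      · exact ⟨l, rfl⟩
      · exact absurd hfj (h j i)
    choose τ hτ using h'
    have hf : f = fun j => Sum.inl (τ j) := funext hτ
    rw [hf, Tm_comp, Matrix.det_mul, det_Pm k, Algebra.smul_def, mul_comm]

/-- Cauchy–Binet in function form -/
theorem det_mul_rect {Q : Type*} [Fintype Q] [DecidableEq Q] (X : Matrix (Fin d) Q R)
    (Y : Matrix Q (Fin d) R) :
    (X * Y).det = ∑ f : Fin d → Q, (∏ j, Y (f j) j) * (Matrix.of fun l j => X l (f j)).det := by
  rw [Matrix.det_apply']
  simp only [Matrix.mul_apply, Fintype.prod_sum, Finset.mul_sum]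
  rw [Finset.sum_comm]
  apply Finset.sum_congr rfl
  intro f _
  rw [Matrix.det_apply', Finset.mul_sum]
  apply Finset.sum_congr rfl
  intro σ _
  simp only [Matrix.of_apply, Finset.prod_mul_distrib]
  ring

/-- conversely, the Plücker coordinates force the block shape, when `t` is invertible -/
theorem block_of_det_Tm (k : Type u) [Field k] [Algebra k R] (t s : Idx d e → Idx d e → R)
    (hst : ∀ m l : Fin d, ∑ r, t r (Sum.inl l) * s (Sum.inl m) r = if l = m then 1 else 0)
    (c : R) (h : ∀ f, (Tm t f).det = vvec k d e f • c) :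
    ∀ i l, t (Sum.inr i) (Sum.inl l) = 0 := by
  -- `c` is a unit
  have hunit : IsUnit c := by
    let X : Matrix (Fin d) (Idx d e) R := fun l r => t r (Sum.inl l)
    let Y : Matrix (Idx d e) (Fin d) R := fun r m => s (Sum.inl m) r
    have hXY : X * Y = 1 := by
      ext l m
      rw [Matrix.mul_apply, Matrix.one_apply]
      exact hst m l
    have h1 := det_mul_rect X Y
    rw [hXY, Matrix.det_one] at h1
    have h2 : ∀ f : Fin d → Idx d e, (Matrix.of fun l j => X l (f j)) = Tm t f := by
      intro f
      rfl
    simp only [h2, h, Algebra.smul_def] at h1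
    refine isUnit_iff_exists_inv.mpr ⟨∑ f : Fin d → Idx d e,
      (∏ j, Y (f j) j) * algebraMap k R (vvec k d e f), ?_⟩
    rw [Finset.mul_sum, h1]
    apply Finset.sum_congr rfl
    intro f _
    ring
  have htop : (Tm t (fun j => Sum.inl j)).det = c := by
    rw [h, vvec_inl, one_smul]
  intro i l
  let r : Fin d → R := fun l => t (Sum.inr i) (Sum.inl l)
  have hcr : ∀ l₀, Matrix.cramer (Tm t (fun j => Sum.inl j)) r l₀ = 0 := by
    intro l₀
    rw [Matrix.cramer_apply]
    have hupd : (Tm t (fun j => Sum.inl j)).updateCol l₀ r =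
        Tm t (Function.update (fun j => (Sum.inl j : Idx d e)) l₀ (Sum.inr i)) := by
      ext l' j
      simp only [Matrix.updateCol_apply, Tm, Function.update_apply]
      split_ifs <;> rfl
    rw [hupd, h, vvec_eq_zero_of_inr k _ l₀ i (by simp), zero_smul]
  have h3 := Matrix.mulVec_cramer (Tm t (fun j => Sum.inl j)) r
  have h4 : Matrix.cramer (Tm t (fun j => Sum.inl j)) r = 0 := funext hcr
  rw [h4, Matrix.mulVec_zero, htop] at h3
  have h5 := congrFun h3 l
  simp only [Pi.zero_apply, Pi.smul_apply, smul_eq_mul] at h5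
  exact (hunit.mul_right_eq_zero).mp h5.symm

end Det

end ChevDet

end Groth.Agent.Lib.Helper96
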