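import Groth.Agent.Lib.Helper96.HilbertFin

/-! Hilbert's finiteness theorem for actions of linearly reductive groups on finitely generated
algebras, by reduction to the linear case (helper96). -/

set_option autoImplicit false

open TensorProduct MvPolynomial
universe u v w
namespace Groth.Agent.Lib.Helper96

namespace HilbertFin2

variable {k : Type u} [Field k] {A : Type v} [CommRing A] [HopfAlgebra k A]
variable {R : Type w} [CommRing R] [Algebra k R]
variable (c : HopfRep.Comod k A R)
variable (V : Submodule k R) (hV : IsSub c V) {n : ℕ} (b : Module.Basis (Fin n) k V)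

/-- `V → P`, sending the basis to the variables -/
noncomputable def L : V →ₗ[k] MvPolynomial (Fin n) k := b.constr k (fun i => X i)

theorem L_basis (i : Fin n) : L V b (b i) = X i := b.constr_basis k _ i

theorem L_mem (v : V) : L V b v ∈ homogeneousSubmodule (Fin n) k 1 := by
  have : L V b v ∈ LinearMap.range (L V b) := ⟨v, rfl⟩
  rw [L, b.constr_range, ← homogeneousSubmodule_one_eq_span_X] at this
  exact this

/-- the images of the variables -/
noncomputable def gen (j : Fin n) : MvPolynomial (Fin n) k ⊗[k] A :=
  (L V b).rTensor A ((ComodSub.Comod.restr c V hV).coact (b j))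

/-- the coaction on the polynomial ring, as an algebra map -/
noncomputable def rhoP : MvPolynomial (Fin n) k →ₐ[k] MvPolynomial (Fin n) k ⊗[k] A :=
  aeval (gen c V hV b)

theorem rhoP_X (j : Fin n) : rhoP c V hV b (X j) = gen c V hV b j := aeval_X _ _

theorem rhoP_L (v : V) :
    rhoP c V hV b (L V b v) = (L V b).rTensor A ((ComodSub.Comod.restr c V hV).coact v) := by
  have : (rhoP c V hV b).toLinearMap ∘ₗ L V b =
      (L V b).rTensor A ∘ₗ (ComodSub.Comod.restr c V hV).coact := by
    apply b.ext
    intro j
    simp only [LinearMap.comp_apply, AlgHom.toLinearMap_apply, L_basis, rhoP_X]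
    rfl
  exact LinearMap.congr_fun this v

theorem map_eq_rTensor {P Q : Type*} [CommRing P] [Algebra k P] [CommRing Q] [Algebra k Q]
    (f : P →ₐ[k] Q) (y : P ⊗[k] A) :
    Algebra.TensorProduct.map f (AlgHom.id k A) y = f.toLinearMap.rTensor A y := by
  induction y using TensorProduct.induction_on with
  | zero => simp
  | add x y hx hy => rw [map_add, map_add, hx, hy]
  | tmul p a => simp

theorem map_eq_lTensor {P : Type*} [CommRing P] [Algebra k P] {B C : Type*} [CommRing B]
    [Algebra k B] [CommRing C] [Algebra k C]
    (f : B →ₐ[k] C) (y : P ⊗[k] B) :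
    Algebra.TensorProduct.map (AlgHom.id k P) f y = f.toLinearMap.lTensor P y := by
  induction y using TensorProduct.induction_on with
  | zero => simp
  | add x y hx hy => rw [map_add, map_add, hx, hy]
  | tmul p a => simp

theorem assoc_eq {P : Type*} [CommRing P] [Algebra k P] (z : (P ⊗[k] A) ⊗[k] A) :
    (Algebra.TensorProduct.assoc k k k P A A).toAlgHom z = TensorProduct.assoc k P A A z := by
  induction z using TensorProduct.induction_on with
  | zero => simp
  | add x y hx hy => rw [map_add, map_add, hx, hy]
  | tmul y a =>
    induction y using TensorProduct.induction_on with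
    | zero => simp
    | add x y hx hy => rw [TensorProduct.add_tmul, map_add, map_add, hx, hy]
    | tmul p a' => simp

/-- the comodule structure on the polynomial ring -/
noncomputable def comodP : HopfRep.Comod k A (MvPolynomial (Fin n) k) where
  coact := (rhoP c V hV b).toLinearMap
  coassoc := by
    set cV := ComodSub.Comod.restr c V hV with hcV
    have hEq : (Algebra.TensorProduct.assoc k k k (MvPolynomial (Fin n) k) A A).toAlgHom.comp
        ((Algebra.TensorProduct.map (rhoP c V hV b) (AlgHom.id k A)).comp (rhoP c V hV b)) =
        (Algebra.TensorProduct.map (AlgHom.id k (MvPolynomial (Fin n) k))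
          (Bialgebra.comulAlgHom k A)).comp (rhoP c V hV b) := by
      apply MvPolynomial.algHom_ext
      intro j
      simp only [AlgHom.comp_apply]
      rw [← L_basis V b j, rhoP_L, map_eq_rTensor, map_eq_lTensor, assoc_eq]
      rw [← LinearMap.comp_apply, ← LinearMap.rTensor_comp]
      have h1 : (rhoP c V hV b).toLinearMap ∘ₗ L V b = (L V b).rTensor A ∘ₗ cV.coact := by
        apply LinearMap.ext
        intro v
        exact rhoP_L c V hV b v
      rw [h1, LinearMap.rTensor_comp, LinearMap.comp_apply]
      have hco := LinearMap.congr_fun cV.coassoc (b j)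
      simp only [LinearMap.comp_apply, LinearEquiv.coe_coe] at hco
      have hnat : ∀ z : (↥V ⊗[k] A) ⊗[k] A,
          TensorProduct.assoc k (MvPolynomial (Fin n) k) A A
            (((L V b).rTensor A).rTensor A z) =
          (L V b).rTensor (A ⊗[k] A) (TensorProduct.assoc k ↥V A A z) := by
        intro z
        induction z using TensorProduct.induction_on with
        | zero => simp
        | add x y hx hy => simp only [map_add, hx, hy]
        | tmul y a =>
          induction y using TensorProduct.induction_on with
          | zero => simp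
          | add x y hx hy => simp only [TensorProduct.add_tmul, map_add, hx, hy]
          | tmul v a' => simp
      rw [hnat, hco]
      rw [← LinearMap.comp_apply, ← LinearMap.comp_apply (g := (L V b).rTensor A)]
      have : (Bialgebra.comulAlgHom k A).toLinearMap = Coalgebra.comul (R := k) (A := A) := rfl
      rw [this, LinearMap.rTensor_comp_lTensor, LinearMap.lTensor_comp_rTensor]
    apply LinearMap.ext
    intro p
    have := AlgHom.congr_fun hEq p
    simp only [AlgHom.comp_apply] at this
    rw [map_eq_rTensor, map_eq_lTensor, assoc_eq] at this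
    exact this
  counit_comp := by
    set cV := ComodSub.Comod.restr c V hV with hcV
    have hEq : (Algebra.TensorProduct.map (AlgHom.id k (MvPolynomial (Fin n) k))
          (Bialgebra.counitAlgHom k A)).comp (rhoP c V hV b) =
        (Algebra.TensorProduct.includeLeft : MvPolynomial (Fin n) k →ₐ[k]
          MvPolynomial (Fin n) k ⊗[k] k) := by
      apply MvPolynomial.algHom_ext
      intro j
      simp only [AlgHom.comp_apply]
      rw [← L_basis V b j, rhoP_L, map_eq_lTensor]
      rw [← LinearMap.comp_apply, LinearMap.lTensor_comp_rTensor, ← LinearMap.rTensor_comp_lTensor,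
        LinearMap.comp_apply]
      have hcu := LinearMap.congr_fun cV.counit_comp (b j)
      simp only [LinearMap.comp_apply, LinearMap.flip_apply, TensorProduct.mk_apply] at hcu
      have : (Bialgebra.counitAlgHom k A).toLinearMap = Coalgebra.counit (R := k) (A := A) := rfl
      rw [this, hcu, LinearMap.rTensor_tmul]
      rfl
    apply LinearMap.ext
    intro p
    have := AlgHom.congr_fun hEq p
    simp only [AlgHom.comp_apply] at this
    rw [map_eq_lTensor] at this
    simpa using this

theorem comodP_coact (p : MvPolynomial (Fin n) k) :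
    (comodP c V hV b).coact p = rhoP c V hV b p := rfl

theorem isLinAct : HilbertFin.IsLinAct (comodP c V hV b) := by
  refine ⟨fun f g => map_mul (rhoP c V hV b) f g, map_one (rhoP c V hV b), ?_⟩
  intro i
  rw [comodP_coact, rhoP_X, gen]
  generalize (ComodSub.Comod.restr c V hV).coact (b i) = z
  induction z using TensorProduct.induction_on with
  | zero => simp
  | add x y hx hy => rw [map_add]; exact Submodule.add_mem _ hx hy
  | tmul v a =>
    rw [LinearMap.rTensor_tmul]
    exact HilbertFin.tmul_mem_T (L_mem V b v) a

/-- the equivariant surjection onto `R` -/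
noncomputable def piR : MvPolynomial (Fin n) k →ₐ[k] R := aeval (fun j => ((b j : V) : R))

theorem piR_L (v : V) : piR V b (L V b v) = (v : R) := by
  have : (piR V b).toLinearMap ∘ₗ L V b = V.subtype := by
    apply b.ext
    intro j
    simp [L_basis, piR]
  exact LinearMap.congr_fun this v

theorem piR_hom (hmul : ∀ f g : R, c.coact (f * g) = c.coact f * c.coact g)
    (hone : c.coact (1 : R) = 1) (p : MvPolynomial (Fin n) k) :
    c.coact (piR V b p) = (piR V b).toLinearMap.rTensor A ((comodP c V hV b).coact p) := by
  let cA : R →ₐ[k] R ⊗[k] A := AlgHom.ofLinearMap c.coact hone hmul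
  have hEq : cA.comp (piR V b) =
      (Algebra.TensorProduct.map (piR V b) (AlgHom.id k A)).comp (rhoP c V hV b) := by
    apply MvPolynomial.algHom_ext
    intro j
    simp only [AlgHom.comp_apply]
    rw [← L_basis V b j, rhoP_L, map_eq_rTensor, piR_L, ← LinearMap.comp_apply,
      ← LinearMap.rTensor_comp]
    have : (piR V b).toLinearMap ∘ₗ L V b = V.subtype := by
      apply LinearMap.ext
      intro v
      exact piR_L V b v
    rw [this, ComodSub.restr_coact_coe]
    rfl
  have := AlgHom.congr_fun hEq p
  simp only [AlgHom.comp_apply] at this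
  rw [map_eq_rTensor] at this
  exact this

omit [HopfAlgebra k A] [CommRing A] in
theorem exists_finite_isSub_finset {A : Type v} [AddCommGroup A] [Module k A] [Coalgebra k A]
    {M : Type w} [AddCommGroup M] [Module k M]
    (c : HopfRep.Comod k A M) (t : Finset M) :
    ∃ W : Submodule k M, Module.Finite k W ∧ (t : Set M) ⊆ W ∧ IsSub c W := by
  classical
  induction t using Finset.induction_on with
  | empty => exact ⟨⊥, inferInstance, by simp, isSub_bot c⟩
  | insert a t _ ih =>
    obtain ⟨W, hWfin, htW, hW⟩ := ih
    obtain ⟨W', hW'fin, haW', hW'⟩ := exists_finite_isSub_mem c a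
    refine ⟨W ⊔ W', Submodule.finite_sup W W', ?_, isSub_sup c hW hW'⟩
    intro x hx
    rw [Finset.coe_insert] at hx
    rcases hx with rfl | hx
    · exact (le_sup_right : W' ≤ W ⊔ W') haW'
    · exact (le_sup_left : W ≤ W ⊔ W') (htW hx)

/-- Hilbert's finiteness theorem for a finitely generated comodule algebra over a Hopf algebra
with a total integral -/
theorem exists_finset_generators_of_finiteType [Algebra.FiniteType k R]
    (hmul : ∀ f g : R, c.coact (f * g) = c.coact f * c.coact g)
    (hone : c.coact (1 : R) = 1) (α : A →ₗ[k] k)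
    (hα : @Hoch.IsComodHom k _ A _ _ _ A _ _ _ k _ _ (HopfRep.Comod.trivial k A k) α)
    (h1 : α 1 = 1) :
    ∃ s : Finset R, (∀ f ∈ s, c.coact f = f ⊗ₜ[k] (1 : A)) ∧
      ∀ f : R, c.coact f = f ⊗ₜ[k] (1 : A) → f ∈ Algebra.adjoin k (s : Set R) := by
  classical
  obtain ⟨t, ht⟩ := (Algebra.FiniteType.out : (⊤ : Subalgebra k R).FG)
  obtain ⟨V, hVfin, htV, hV⟩ := exists_finite_isSub_finset c t
  let b := Module.finBasis k V
  have hact := isLinAct c V hV b
  obtain ⟨s, hs1, hs2⟩ := HilbertFin.exists_finset_generators hact α hα h1
  have hsurj : Function.Surjective (piR V b) := by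
    rw [← AlgHom.range_eq_top, eq_top_iff, ← ht]
    apply Algebra.adjoin_le
    intro x hx
    exact ⟨L V b ⟨x, htV hx⟩, piR_L V b _⟩
  refine ⟨s.image (piR V b), ?_, ?_⟩
  · intro f hf
    obtain ⟨p, hp, rfl⟩ := Finset.mem_image.mp hf
    rw [piR_hom c V hV b hmul hone, hs1 p hp, LinearMap.rTensor_tmul]
    rfl
  · intro r hr
    obtain ⟨p, rfl⟩ := hsurj r
    have hE : reyn c α (piR V b p) = piR V b p := reyn_of_fixed c α h1 hr
    have hnat : reyn c α ((piR V b).toLinearMap p) =
        (piR V b).toLinearMap (reyn (comodP c V hV b) α p) :=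
      reyn_natural (comodP c V hV b) c α (piR V b).toLinearMap p (piR_hom c V hV b hmul hone p)
    have hmem : reyn (comodP c V hV b) α p ∈ Algebra.adjoin k (s : Set (MvPolynomial (Fin _) k)) :=
      hs2 _ (coact_reyn (comodP c V hV b) α hα p)
    rw [← hE]
    rw [Finset.coe_image, ← AlgHom.map_adjoin]
    exact ⟨_, hmem, hnat.symm⟩

end HilbertFin2

end Groth.Agent.Lib.Helper96
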