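import Groth.Agent.Lib.Helper96.MatComod
import Groth.Agent.Lib.Helper96.ChevDet
import Groth.Agent.Lib.Helper96.HilbertFin2

/-! Chevalley's theorem: a closed subgroup scheme of an affine algebraic group is the stabilizer of
a line in a finite-dimensional representation, for points in arbitrary algebras (helper96). -/

set_option autoImplicit false

open TensorProduct
universe u v w
namespace Groth.Agent.Lib.Helper96

namespace Chevalley

open ChevDet

section Adapted

variable {k : Type u} [Field k] {A : Type v} [CommRing A] [HopfAlgebra k A]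
  [Algebra.FiniteType k A]

/-- an adapted basis of a finite-dimensional subcomodule of the regular comodule containing
generators of a Hopf ideal -/
theorem exists_adapted (I : Ideal A) [I.IsHopfIdeal k] :
    ∃ (d e : ℕ) (b : Idx d e → A) (a : Idx d e → Idx d e → A),
      MatComod.IsMult (k := k) a ∧
      (∀ q, CoalgebraStruct.comul (R := k) (b q) = ∑ p, b p ⊗ₜ[k] a p q) ∧
      (∀ l, b (Sum.inl l) ∈ I) ∧
      I = Ideal.span (Set.range fun l : Fin d => b (Sum.inl l)) ∧
      (∀ i : Fin e, ∃ Λ : A →ₗ[k] k, (∀ x ∈ I, Λ x = 0) ∧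
        ∀ p, Λ (b p) = if p = Sum.inr i then 1 else 0) := by
  classical
  have hnoeth : IsNoetherianRing A := Algebra.FiniteType.isNoetherianRing k A
  obtain ⟨s, hs⟩ := (isNoetherianRing_iff_ideal_fg A).mp hnoeth I
  obtain ⟨W, hWfin, hsW, hW⟩ :=
    HilbertFin2.exists_finite_isSub_finset (HopfRep.Comod.regular k A) s
  let cW := ComodSub.Comod.restr (HopfRep.Comod.regular k A) W hW
  obtain ⟨M', hM'⟩ : ∃ M' : Submodule k W, ∀ w : W, w ∈ M' ↔ (w : A) ∈ I :=
    ⟨(I.restrictScalars k).comap W.subtype, fun w => Iff.rfl⟩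
  obtain ⟨C', hC'⟩ := Submodule.exists_isCompl M'
  have hfM : Module.Free k M' := Module.Free.of_divisionRing k M'
  have hfC : Module.Free k C' := Module.Free.of_divisionRing k C'
  obtain ⟨d, ⟨bM⟩⟩ : ∃ d : ℕ, Nonempty (Module.Basis (Fin d) k M') := ⟨_, ⟨Module.finBasis k M'⟩⟩
  obtain ⟨e, ⟨bC⟩⟩ : ∃ e : ℕ, Nonempty (Module.Basis (Fin e) k C') := ⟨_, ⟨Module.finBasis k C'⟩⟩
  let bW : Module.Basis (Idx d e) k W :=
    (bM.prod bC).map (Submodule.prodEquivOfIsCompl M' C' hC')
  have hbl : ∀ l : Fin d, bW (Sum.inl l) = (bM l : W) := by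
    intro l
    simp [bW]
  have hbr : ∀ i : Fin e, bW (Sum.inr i) = (bC i : W) := by
    intro i
    simp [bW]
  let a := MatComod.coefMatrix cW bW
  refine ⟨d, e, fun p => ((bW p : W) : A), a, MatComod.isMult_coefMatrix cW bW, ?_, ?_, ?_, ?_⟩
  · intro q
    have h3 := ComodSub.restr_coact_coe (HopfRep.Comod.regular k A) W hW (bW q)
    rw [MatComod.coact_basis cW bW q, map_sum] at h3
    simp only [LinearMap.rTensor_tmul, Submodule.subtype_apply] at h3
    exact h3.symm
  · intro l
    show ((bW (Sum.inl l) : W) : A) ∈ I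
    rw [hbl l]
    exact (hM' _).mp (bM l).2
  · apply le_antisymm
    · rw [← hs, Ideal.span_le]
      intro x hx
      have hxW : x ∈ W := hsW hx
      have hxI : x ∈ I := by
        rw [← hs]
        exact Ideal.subset_span hx
      have hxM : (⟨x, hxW⟩ : W) ∈ M' := (hM' _).mpr hxI
      have h1 := bM.sum_repr ⟨⟨x, hxW⟩, hxM⟩
      have h2 : x = ∑ l, (bM.repr ⟨⟨x, hxW⟩, hxM⟩ l) • ((bW (Sum.inl l) : W) : A) := by
        have := congrArg (fun y : M' => ((y : W) : A)) h1
        simp only [Submodule.coe_sum, Submodule.coe_smul] at this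
        refine this.symm.trans ?_
        apply Finset.sum_congr rfl
        intro l _
        rw [hbl l]
      rw [h2]
      apply Ideal.sum_mem
      intro l _
      rw [Algebra.smul_def]
      exact Ideal.mul_mem_left _ _ (Ideal.subset_span ⟨l, rfl⟩)
    · rw [Ideal.span_le]
      rintro _ ⟨l, rfl⟩
      show ((bW (Sum.inl l) : W) : A) ∈ I
      rw [hbl l]
      exact (hM' _).mp (bM l).2
  · intro i
    -- the map C' → A ⧸ I is injective
    let j : C' →ₗ[k] (A ⧸ I.restrictScalars k) :=
      (I.restrictScalars k).mkQ ∘ₗ W.subtype ∘ₗ C'.subtype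
    have hj : LinearMap.ker j = ⊥ := by
      rw [LinearMap.ker_eq_bot']
      intro x hx
      have h1 : ((x : W) : A) ∈ I.restrictScalars k := by
        have : (I.restrictScalars k).mkQ ((x : W) : A) = 0 := hx
        rwa [Submodule.mkQ_apply, Submodule.Quotient.mk_eq_zero] at this
      have h2 : (x : W) ∈ M' ⊓ C' := ⟨(hM' _).mpr h1, x.2⟩
      rw [hC'.inf_eq_bot, Submodule.mem_bot] at h2
      exact Subtype.ext h2
    obtain ⟨ρ, hρ⟩ := @LinearMap.exists_leftInverse_of_injective k C' (A ⧸ I.restrictScalars k) _ _ _ _ _ j hj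
    refine ⟨(bC.coord i) ∘ₗ ρ ∘ₗ (I.restrictScalars k).mkQ, ?_, ?_⟩
    · intro x hx
      have : (I.restrictScalars k).mkQ x = 0 := by
        rw [Submodule.mkQ_apply, Submodule.Quotient.mk_eq_zero]
        exact hx
      simp only [LinearMap.comp_apply, this, map_zero]
    · intro p
      rcases p with l | i'
      · have h1 : ((bW (Sum.inl l) : W) : A) ∈ I.restrictScalars k := by
          rw [hbl l]
          exact (hM' _).mp (bM l).2
        have : (I.restrictScalars k).mkQ ((bW (Sum.inl l) : W) : A) = 0 := by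
          rw [Submodule.mkQ_apply, Submodule.Quotient.mk_eq_zero]
          exact h1
        simp only [LinearMap.comp_apply, this, map_zero]
        rw [if_neg Sum.inl_ne_inr]
      · have h1 : (I.restrictScalars k).mkQ ((bW (Sum.inr i') : W) : A) = j (bC i') := by
          rw [hbr i']
          rfl
        have h2 : ρ (j (bC i')) = bC i' := LinearMap.congr_fun hρ (bC i')
        simp only [LinearMap.comp_apply, h1, h2, Module.Basis.coord_apply, Module.Basis.repr_self,
          Finsupp.single_apply]
        by_cases hii : i' = i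
        · subst hii
          simp
        · rw [if_neg hii, if_neg]
          intro h
          exact hii (Sum.inr_injective h)

end Adapted

section TPow

variable {k : Type u} [Field k] {A : Type v} [CommRing A] [Bialgebra k A]
variable {P₀ : Type*} [Fintype P₀] [DecidableEq P₀]

/-- the matrix of the `d`-th tensor power -/
def tpowMatrix (d : ℕ) (a : P₀ → P₀ → A) : (Fin d → P₀) → (Fin d → P₀) → A :=
  fun f' f => ∏ j, a (f' j) (f j)

omit [Fintype P₀] [DecidableEq P₀] in
theorem prod_tmul {ι : Type*} (s : Finset ι) (x y : ι → A) :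
    ∏ j ∈ s, (x j ⊗ₜ[k] y j) = (∏ j ∈ s, x j) ⊗ₜ[k] (∏ j ∈ s, y j) := by
  classical
  induction s using Finset.induction_on with
  | empty => simp [Algebra.TensorProduct.one_def]
  | insert i s hi ih =>
    rw [Finset.prod_insert hi, Finset.prod_insert hi, Finset.prod_insert hi, ih,
      Algebra.TensorProduct.tmul_mul_tmul]

theorem isMult_tpowMatrix (d : ℕ) (a : P₀ → P₀ → A) (ha : MatComod.IsMult (k := k) a) :
    MatComod.IsMult (k := k) (tpowMatrix d a) where
  comul := by
    intro f' f
    have h1 : CoalgebraStruct.comul (R := k) (∏ j, a (f' j) (f j)) =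
        ∏ j, CoalgebraStruct.comul (R := k) (a (f' j) (f j)) :=
      map_prod (Bialgebra.comulAlgHom k A) _ _
    simp only [tpowMatrix]
    rw [h1]
    simp only [ha.comul]
    rw [Fintype.prod_sum]
    apply Finset.sum_congr rfl
    intro f'' _
    rw [prod_tmul]
  counit := by
    intro f' f
    have h1 : CoalgebraStruct.counit (R := k) (∏ j, a (f' j) (f j)) =
        ∏ j, CoalgebraStruct.counit (R := k) (a (f' j) (f j)) :=
      map_prod (Bialgebra.counitAlgHom k A) _ _
    simp only [tpowMatrix]
    rw [h1]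
    simp only [ha.counit]
    rw [Fintype.prod_boole]
    by_cases h : f' = f
    · subst h
      simp
    · rw [if_neg h, if_neg]
      intro h'
      exact h (funext h')

end TPow

section Act

variable {k : Type u} [Field k] {A : Type v} [CommRing A] [Bialgebra k A]
variable {P : Type*} [Fintype P] [DecidableEq P]
variable {R : Type w} [CommRing R] [Algebra k R]

/-- coordinates of the action of a point on a matrix comodule -/
theorem coef_act (c : P → P → A) (g : A →ₐ[k] R) (x : P → k) (p' : P) :
    lslM (LinearMap.proj p' : (P → k) →ₗ[k] k)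
      (LinearMap.lTensor (P → k) g.toLinearMap (MatComod.coactFun (k := k) c x)) =
        ∑ q, x q • g (c p' q) := by
  rw [lslM_lTensor, MatComod.coactFun_apply]
  simp only [map_sum, map_smul, lslM_tmul, LinearMap.proj_apply, Pi.single_apply,
    AlgHom.toLinearMap_apply]
  apply Finset.sum_congr rfl
  intro q _
  rw [Finset.sum_eq_single p']
  · simp
  · intro p _ hp
    simp [Ne.symm hp]
  · intro h
    exact absurd (Finset.mem_univ _) h

theorem ext_coef (y₁ y₂ : (P → k) ⊗[k] R)
    (h : ∀ p, lslM (LinearMap.proj p : (P → k) →ₗ[k] k) y₁ =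
      lslM (LinearMap.proj p : (P → k) →ₗ[k] k) y₂) : y₁ = y₂ := by
  rw [← sub_eq_zero]
  apply MatComod.eq_zero_of_forall_coord (Pi.basisFun k P)
  intro p
  have : (Pi.basisFun k P).coord p = (LinearMap.proj p : (P → k) →ₗ[k] k) := by
    ext x
    simp
  rw [this, map_sub, h p, sub_self]

end Act

section Main

variable {k : Type u} [Field k] {A : Type v} [CommRing A] [HopfAlgebra k A]
variable {R : Type w} [CommRing R] [Algebra k R]

/-- a coideal is killed by `Λ ⊗ g` when both `Λ` and `g` kill it -/
theorem lslM_lTensor_comul_eq_zero (I : Ideal A) [I.IsHopfIdeal k]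
    (Λ : A →ₗ[k] k) (hΛ : ∀ x ∈ I, Λ x = 0) (g : A →ₐ[k] R) (hg : ∀ x ∈ I, g x = 0)
    (x : A) (hx : x ∈ I) :
    lslM Λ (LinearMap.lTensor A g.toLinearMap (CoalgebraStruct.comul (R := k) x)) = 0 := by
  let J : Submodule k A := I.restrictScalars k
  have hJ : J.IsCoideal := inferInstance
  let Λ' : (A ⧸ J) →ₗ[k] k := J.liftQ Λ (fun y hy => hΛ y hy)
  let g' : (A ⧸ J) →ₗ[k] R := J.liftQ g.toLinearMap (fun y hy => hg y hy)
  have key : ∀ y : A ⊗[k] A, lslM Λ (LinearMap.lTensor A g.toLinearMap y) =
      lslM Λ' (LinearMap.lTensor (A ⧸ J) g' (TensorProduct.map J.mkQ J.mkQ y)) := by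
    intro y
    induction y using TensorProduct.induction_on with
    | zero => simp
    | add y z hy hz => simp only [map_add, hy, hz]
    | tmul y z =>
      simp only [LinearMap.lTensor_tmul, TensorProduct.map_tmul, lslM_tmul]
      rfl
  rw [key, hJ.map_mkQ_comul_eq_zero hx, map_zero, map_zero]

theorem kills_iff_block (I : Ideal A) [I.IsHopfIdeal k] {d e : ℕ} (b : Idx d e → A)
    (a : Idx d e → Idx d e → A)
    (hb : ∀ q, CoalgebraStruct.comul (R := k) (b q) = ∑ p, b p ⊗ₜ[k] a p q)
    (hbI : ∀ l, b (Sum.inl l) ∈ I)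
    (hspan : I = Ideal.span (Set.range fun l : Fin d => b (Sum.inl l)))
    (hΛ : ∀ i : Fin e, ∃ Λ : A →ₗ[k] k, (∀ x ∈ I, Λ x = 0) ∧
      ∀ p, Λ (b p) = if p = Sum.inr i then 1 else 0)
    (g : A →ₐ[k] R) :
    (∀ x ∈ I, g x = 0) ↔ ∀ i l, g (a (Sum.inr i) (Sum.inl l)) = 0 := by
  classical
  constructor
  · intro hg i l
    obtain ⟨Λ, hΛ0, hΛb⟩ := hΛ i
    have h1 := lslM_lTensor_comul_eq_zero I Λ hΛ0 g hg (b (Sum.inl l)) (hbI l)
    rw [hb, map_sum, map_sum] at h1
    simp only [LinearMap.lTensor_tmul, lslM_tmul, hΛb, AlgHom.toLinearMap_apply] at h1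
    rw [Finset.sum_eq_single (Sum.inr i)] at h1
    · simpa using h1
    · intro p _ hp
      simp [hp]
    · intro h
      exact absurd (Finset.mem_univ _) h
  · intro hblock
    have hgb : ∀ q, g (b q) = ∑ p, CoalgebraStruct.counit (R := k) (b p) • g (a p q) := by
      intro q
      have h1 := Coalgebra.rTensor_counit_comul (R := k) (b q)
      rw [hb, map_sum] at h1
      simp only [LinearMap.rTensor_tmul] at h1
      have h2 := congrArg (TensorProduct.lid k A) h1
      simp only [map_sum, TensorProduct.lid_tmul, one_smul] at h2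
      rw [← h2, map_sum]
      simp only [map_smul]
    have hJ : (I.restrictScalars k).IsCoideal := inferInstance
    have hgl : ∀ l, g (b (Sum.inl l)) = 0 := by
      intro l
      rw [hgb, Fintype.sum_sum_type]
      have e1 : ∀ l', CoalgebraStruct.counit (R := k) (b (Sum.inl l')) = 0 :=
        fun l' => hJ.counit_eq_zero (hbI l')
      simp only [e1, zero_smul, hblock, smul_zero, Finset.sum_const_zero, add_zero]
    intro x hx
    rw [hspan] at hx
    have : Ideal.span (Set.range fun l : Fin d => b (Sum.inl l)) ≤ RingHom.ker (g : A →+* R) := by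
      rw [Ideal.span_le]
      rintro _ ⟨l, rfl⟩
      exact hgl l
    exact this hx

theorem antipode_mult {P : Type*} [Fintype P] [DecidableEq P] (a : P → P → A)
    (ha : MatComod.IsMult (k := k) a) (p q : P) :
    ∑ r, HopfAlgebra.antipode k (a p r) * a r q = if p = q then 1 else 0 := by
  have h1 := HopfAlgebra.mul_antipode_rTensor_comul_apply (R := k) (a p q)
  rw [ha.comul, map_sum, map_sum, ha.counit] at h1
  simp only [LinearMap.rTensor_tmul, LinearMap.mul'_apply] at h1
  rw [h1]
  split_ifs <;> simp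

end Main

section Final

variable {k : Type u} [Field k] {A : Type v} [CommRing A] [HopfAlgebra k A]

theorem sum_vvec_smul {d e : ℕ} {R : Type w} [CommRing R] [Algebra k R]
    (G : (Fin d → Idx d e) → R) :
    ∑ f, vvec k d e f • G f =
      ∑ σ : Equiv.Perm (Fin d), (Equiv.Perm.sign σ : ℤ) • G (fun j => Sum.inl (σ j)) := by
  classical
  simp only [vvec, Finset.sum_apply, Pi.smul_apply, Finset.sum_smul]
  rw [Finset.sum_comm]
  apply Finset.sum_congr rfl
  intro σ _
  rw [Finset.sum_eq_single (fun j => (Sum.inl (σ j) : Idx d e))]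
  · simp [Algebra.smul_def]
  · intro f _ hf
    simp [Pi.single_eq_of_ne hf]
  · intro h
    exact absurd (Finset.mem_univ _) h

/-- the coordinates of the translate of the antisymmetrizer are the Plücker coordinates -/
theorem coef_act_vvec {d e : ℕ} {R : Type w} [CommRing R] [Algebra k R]
    (a : Idx d e → Idx d e → A) (g : A →ₐ[k] R) (f' : Fin d → Idx d e) :
    lslM (LinearMap.proj f' : ((Fin d → Idx d e) → k) →ₗ[k] k)
      (LinearMap.lTensor ((Fin d → Idx d e) → k) g.toLinearMap
        (MatComod.coactFun (k := k) (tpowMatrix d a) (vvec k d e))) =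
      (Tm (fun p q => g (a p q)) f').det := by
  rw [coef_act, sum_vvec_smul, Matrix.det_apply]
  apply Finset.sum_congr rfl
  intro σ _
  congr 1
  simp only [tpowMatrix, map_prod, Tm]

/-- Chevalley's theorem, in coordinates -/
theorem exists_line [Algebra.FiniteType k A] (I : Ideal A) [I.IsHopfIdeal k] :
    ∃ (d e : ℕ) (cc : (Fin d → Idx d e) → (Fin d → Idx d e) → A)
      (hcc : MatComod.IsMult (k := k) cc),
      ∀ (R : Type w) [CommRing R] [Algebra k R] (g : A →ₐ[k] R),
        (∀ x ∈ I, g x = 0) ↔ ∃ c : R,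
          LinearMap.lTensor ((Fin d → Idx d e) → k) g.toLinearMap
            ((MatComod.comod cc hcc).coact (vvec k d e)) = vvec k d e ⊗ₜ[k] c := by
  classical
  obtain ⟨d, e, b, a, ha, hb, hbI, hspan, hΛ⟩ := exists_adapted (k := k) I
  refine ⟨d, e, tpowMatrix d a, isMult_tpowMatrix d a ha, ?_⟩
  intro R _ _ g
  rw [kills_iff_block I b a hb hbI hspan hΛ g]
  constructor
  · intro hblock
    refine ⟨(Tm (fun p q => g (a p q)) (fun j => Sum.inl j)).det, ?_⟩
    apply ext_coef
    intro f'
    rw [MatComod.comod_coact, coef_act_vvec, lslM_tmul]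
    exact det_Tm_of_block k _ hblock f'
  · rintro ⟨c, hc⟩
    have hcoef : ∀ f', (Tm (fun p q => g (a p q)) f').det = vvec k d e f' • c := by
      intro f'
      have := congrArg (lslM (LinearMap.proj f' : ((Fin d → Idx d e) → k) →ₗ[k] k)) hc
      rwa [MatComod.comod_coact, coef_act_vvec, lslM_tmul] at this
    refine block_of_det_Tm k (fun p q => g (a p q))
      (fun p r => g (HopfAlgebra.antipode k (a p r))) ?_ c hcoef
    intro m l
    have h1 := congrArg g (antipode_mult a ha (Sum.inl m) (Sum.inl l))
    rw [map_sum] at h1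
    simp only [map_mul] at h1
    have h2 : g (if (Sum.inl m : Idx d e) = Sum.inl l then (1 : A) else 0) =
        if l = m then (1 : R) else 0 := by
      by_cases hml : l = m
      · subst hml
        simp
      · rw [if_neg hml, if_neg, map_zero]
        intro h
        exact hml (Sum.inl_injective h).symm
    rw [← h2, ← h1]
    apply Finset.sum_congr rfl
    intro r _
    rw [mul_comm]

end Final

end Chevalley

end Groth.Agent.Lib.Helper96
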