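import Groth.Agent.Lib.Helper96.Prim
import Groth.Agent.Lib.Helper96.Diag
import Groth.Agent.Lib.Helper96.DualLR

/-! Groups of multiplicative type: a commutative Hopf algebra over an algebraically closed field
which is cocommutative and has no nonzero primitive elements is spanned by group-likes; hence
multiplicative type ⇔ cocommutative and `Hom(G, G_a) = 0` (helper96). -/

set_option autoImplicit false

open TensorProduct
universe u v
namespace Groth.Agent.Lib.Helper96

namespace MultType

section
variable {K : Type u} [Field K]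

theorem eq_zero_of_tmul_eq_zero {V : Type*} [AddCommGroup V] [Module K V] {B : Type*}
    [AddCommGroup B] [Module K B] {s : V} (hs : s ≠ 0) {b : B} (h : s ⊗ₜ[K] b = 0) : b = 0 := by
  obtain ⟨φ, hφ⟩ : ∃ φ : Module.Dual K V, φ s ≠ 0 := by
    by_contra hcon
    push Not at hcon
    exact hs ((Module.forall_dual_apply_eq_zero_iff K s).mp hcon)
  have h1 := congrArg (fun z => TensorProduct.lid K B (φ.rTensor B z)) h
  simp only [LinearMap.rTensor_tmul, TensorProduct.lid_tmul, map_zero] at h1
  exact (smul_eq_zero.mp h1).resolve_left hφ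

end

variable {K : Type u} [Field K] {H : Type v} [CommRing H] [HopfAlgebra K H]

theorem exists_fixed_aux [IsAlgClosed K] [Coalgebra.IsCocomm K H]
    (hP : ∀ y : H, Coalgebra.comul (R := K) y = y ⊗ₜ[K] (1 : H) + (1 : H) ⊗ₜ[K] y → y = 0) :
    ∀ (n : ℕ) (V : Type v) [AddCommGroup V] [Module K V] (c : HopfRep.Comod K H V)
      [Module.Finite K V], Module.finrank K V = n → ∀ π : V →ₗ[K] K, Function.Surjective π →
      LinearMap.rTensor H π ∘ₗ c.coact = (TensorProduct.mk K K H).flip (1 : H) ∘ₗ π →
      ∃ v : V, c.coact v = v ⊗ₜ[K] (1 : H) ∧ π v ≠ 0 := by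
  intro n
  induction n using Nat.strong_induction_on with
  | _ n ih =>
    intro V _ _ c _ hn π hsurj hπ
    have : Nontrivial V := by
      obtain ⟨v, hv⟩ := hsurj 1
      refine ⟨⟨v, 0, ?_⟩⟩
      intro h
      rw [h, map_zero] at hv
      exact zero_ne_one hv
    obtain ⟨W, hWfin, hWmin⟩ := exists_isMinSub c
    have hsimple := isSimple_restr_of_isMinSub c hWmin
    obtain ⟨s', hs'0, hs'span, γ, hs'γ⟩ :=
      eq_span_singleton_of_isSimple (ComodSub.Comod.restr c W hWmin.1) hsimple
    have hs0 : (s' : V) ≠ 0 := fun h => hs'0 (Subtype.ext h)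
    have hsγ : c.coact (s' : V) = (s' : V) ⊗ₜ[K] γ := by
      have := isHom_apply (ComodSub.isComodHom_subtype c W hWmin.1) s'
      rw [hs'γ, LinearMap.rTensor_tmul] at this
      exact this
    have hWs : ∀ w : W, ∃ t : K, w = t • s' := by
      intro w
      have : w ∈ Submodule.span K {s'} := by rw [hs'span]; trivial
      obtain ⟨t, rfl⟩ := Submodule.mem_span_singleton.mp this
      exact ⟨t, rfl⟩
    by_cases hπs : π (s' : V) = 0
    · have hle : W ≤ LinearMap.ker π := by
        intro w hw
        obtain ⟨t, ht⟩ := hWs ⟨w, hw⟩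
        have : w = t • (s' : V) := congrArg Subtype.val ht
        rw [LinearMap.mem_ker, this, map_smul, hπs, smul_zero]
      let cQ := ComodSub.Comod.quot c W hWmin.1
      have hmk : IsHom c cQ W.mkQ := ComodSub.isComodHom_mkQ c W hWmin.1
      let πQ : (V ⧸ W) →ₗ[K] K := W.liftQ π hle
      have hπQ : πQ ∘ₗ W.mkQ = π := Submodule.liftQ_mkQ W π hle
      have hsurjQ : Function.Surjective πQ := fun y => by
        obtain ⟨v, hv⟩ := hsurj y
        exact ⟨W.mkQ v, by rw [← LinearMap.comp_apply, hπQ, hv]⟩
      have hπQhom : LinearMap.rTensor H πQ ∘ₗ cQ.coact =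
          (TensorProduct.mk K K H).flip (1 : H) ∘ₗ πQ := by
        apply LinearMap.ext
        intro q
        obtain ⟨v, rfl⟩ := W.mkQ_surjective q
        rw [LinearMap.comp_apply, isHom_apply hmk, ← LinearMap.comp_apply (LinearMap.rTensor H πQ),
          ← LinearMap.rTensor_comp, hπQ, LinearMap.comp_apply, ← LinearMap.comp_apply πQ, hπQ]
        exact LinearMap.congr_fun hπ v
      have hlt : Module.finrank K (V ⧸ W) < n := by
        rw [← hn]
        have h1 := Submodule.finrank_quotient_add_finrank W
        have h2 : 0 < Module.finrank K W := by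
          rw [Module.finrank_pos_iff]
          exact (Submodule.nontrivial_iff_ne_bot).mpr hWmin.2.1
        omega
      obtain ⟨q, hqfix, hqπ⟩ := ih _ hlt (V ⧸ W) cQ rfl πQ hsurjQ hπQhom
      obtain ⟨v, rfl⟩ := W.mkQ_surjective q
      have hπv : π v ≠ 0 := by
        rw [← LinearMap.comp_apply, hπQ] at hqπ
        exact hqπ
      -- the defect lies in `W ⊗ H`
      have hy : ∀ y : W ⊗[K] H, ∃ a : H, y = s' ⊗ₜ[K] a := by
        intro y
        induction y using TensorProduct.induction_on with
        | zero => exact ⟨0, by simp⟩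
        | tmul w b =>
          obtain ⟨t, rfl⟩ := hWs w
          exact ⟨t • b, by rw [TensorProduct.smul_tmul]⟩
        | add y y' h h' =>
          obtain ⟨a, rfl⟩ := h
          obtain ⟨a', rfl⟩ := h'
          exact ⟨a + a', by rw [TensorProduct.tmul_add]⟩
      have hmem : c.coact v - v ⊗ₜ[K] (1 : H) ∈ LinearMap.range (W.subtype.rTensor H) := by
        rw [mem_range_rTensor_subtype_iff]
        intro g
        rw [← Submodule.Quotient.mk_eq_zero W]
        show W.mkQ (slice V g (c.coact v - v ⊗ₜ[K] (1 : H))) = 0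
        rw [← slice_rTensor, map_sub, LinearMap.rTensor_tmul, ← isHom_apply hmk, hqfix, sub_self,
          map_zero]
      obtain ⟨y, hy'⟩ := hmem
      obtain ⟨a, rfl⟩ := hy y
      rw [LinearMap.rTensor_tmul, Submodule.subtype_apply] at hy'
      have hva : c.coact v = v ⊗ₜ[K] (1 : H) + (s' : V) ⊗ₜ[K] a := by
        rw [hy']; abel
      -- coassociativity
      have hco := LinearMap.congr_fun c.coassoc v
      simp only [LinearMap.comp_apply, hva, map_add, LinearMap.rTensor_tmul, hsγ,
        LinearEquiv.coe_coe, TensorProduct.assoc_tmul, LinearMap.lTensor_tmul, add_tmul,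
        Bialgebra.comul_one, Algebra.TensorProduct.one_def] at hco
      have hΔ : Coalgebra.comul (R := K) a = a ⊗ₜ[K] (1 : H) + γ ⊗ₜ[K] a := by
        have h0 : (s' : V) ⊗ₜ[K] (Coalgebra.comul (R := K) a - (a ⊗ₜ[K] (1 : H) + γ ⊗ₜ[K] a)) = 0 := by
          rw [tmul_sub, tmul_add, sub_eq_zero]
          have := hco
          rw [add_assoc, add_right_inj] at this
          exact this.symm
        exact sub_eq_zero.mp (eq_zero_of_tmul_eq_zero hs0 h0)
      have hcomm : (1 : H) ⊗ₜ[K] a + a ⊗ₜ[K] γ = a ⊗ₜ[K] (1 : H) + γ ⊗ₜ[K] a := by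
        have := Coalgebra.comm_comul K a
        rw [hΔ, map_add, TensorProduct.comm_tmul, TensorProduct.comm_tmul] at this
        exact this
      by_cases hγ : γ = 1
      · have ha : a = 0 := by
          apply hP
          rw [hΔ, hγ]
        refine ⟨v, ?_, hπv⟩
        rw [hva, ha, tmul_zero, add_zero]
      · have hne : (1 : H) - γ ≠ 0 := fun h => hγ (sub_eq_zero.mp h).symm
        obtain ⟨g, hg⟩ : ∃ g : Module.Dual K H, g ((1 : H) - γ) = 1 := by
          obtain ⟨φ, hφ⟩ : ∃ φ : Module.Dual K H, φ ((1 : H) - γ) ≠ 0 := by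
            by_contra hcon
            push Not at hcon
            exact hne ((Module.forall_dual_apply_eq_zero_iff K _).mp hcon)
          refine ⟨(φ ((1 : H) - γ))⁻¹ • φ, ?_⟩
          rw [LinearMap.smul_apply, smul_eq_mul, inv_mul_cancel₀ hφ]
        have h1 := congrArg (slice H g) hcomm
        simp only [map_add, slice_tmul] at h1
        -- h1 : g a • 1 + g γ • a = g 1 • a + g a • γ
        obtain ⟨t, ha⟩ : ∃ t : K, a = t • ((1 : H) - γ) := by
          refine ⟨g a, ?_⟩
          have h2 : (g 1 - g γ) • a = g a • ((1 : H) - γ) := by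
            rw [sub_smul, smul_sub]
            rw [sub_eq_sub_iff_add_eq_add]
            exact h1.symm
          rw [← map_sub, hg, one_smul] at h2
          exact h2
        refine ⟨v + t • (s' : V), ?_, ?_⟩
        · rw [map_add, map_smul, hva, hsγ, ha]
          rw [tmul_smul, tmul_sub, add_tmul, smul_sub, smul_tmul']
          abel
        · rw [map_add, map_smul, hπs, smul_zero, add_zero]
          exact hπv
    · refine ⟨(s' : V), ?_, hπs⟩
      have h1 := LinearMap.congr_fun hπ (s' : V)
      simp only [LinearMap.comp_apply, hsγ, LinearMap.rTensor_tmul, LinearMap.flip_apply,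
        TensorProduct.mk_apply] at h1
      have h2 := congrArg (TensorProduct.lid K H) h1
      simp only [TensorProduct.lid_tmul] at h2
      have : γ = 1 := smul_right_injective H hπs h2
      rw [hsγ, this]

theorem splitTriv_of_cocomm_noPrim [IsAlgClosed K] [Coalgebra.IsCocomm K H]
    (hP : ∀ y : H, Coalgebra.comul (R := K) y = y ⊗ₜ[K] (1 : H) + (1 : H) ⊗ₜ[K] y → y = 0) :
    SplitTriv K H := by
  intro V _ _ cV hfin π hsurj hπ
  obtain ⟨v, hv, hπv⟩ := exists_fixed_aux hP _ V cV rfl π hsurj hπ
  exact ⟨v, hv, hπv⟩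

/-- a cocommutative commutative Hopf algebra over an algebraically closed field with no nonzero
primitive elements is spanned by its group-like elements -/
theorem isDiagonalizable_of_cocomm_noPrim [IsAlgClosed K] [Coalgebra.IsCocomm K H]
    (hP : ∀ y : H, Coalgebra.comul (R := K) y = y ⊗ₜ[K] (1 : H) + (1 : H) ⊗ₜ[K] y → y = 0) :
    HopfRep.IsDiagonalizable K H :=
  isDiagonalizable_of_isLinearlyReductive
    (isLinearlyReductive_iff_splitTriv.mpr (splitTriv_of_cocomm_noPrim hP))

/-- multiplicative type iff commutative with no nonzero homomorphism to `G_a` -/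
theorem multType_iff (k A : Type u) [Field k] [CommRing A] [HopfAlgebra k A] :
    HopfRep.IsDiagonalizable (AlgebraicClosure k) (AlgebraicClosure k ⊗[k] A) ↔
      Coalgebra.IsCocomm k A ∧
        ∀ f : A, CoalgebraStruct.comul (R := k) f = f ⊗ₜ[k] (1 : A) + (1 : A) ⊗ₜ[k] f → f = 0 := by
  constructor
  · intro h
    refine ⟨isCocomm_of_baseChange k (AlgebraicClosure k) A (isCocomm_of_isDiagonalizable h), ?_⟩
    intro f hf
    exact Prim.eq_zero_of_primitive_of_baseChange k (AlgebraicClosure k) A h f hf
  · rintro ⟨hc, hP⟩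
    have := hc
    apply isDiagonalizable_of_cocomm_noPrim
    intro y hy
    exact Prim.eq_zero_of_primitive_baseChange k (AlgebraicClosure k) A hP y hy

end MultType

end Groth.Agent.Lib.Helper96
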