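import Groth.Agent.Lib.Helper96.Unipotent
import Groth.Agent.Lib.Helper96.CoalgChange
import Groth.Agent.Lib.Helper96.Diag

/-! Homomorphisms between multiplicative-type and unipotent groups are trivial: comodule
ingredients (helper96). -/

set_option autoImplicit false

open TensorProduct
universe u v w
namespace Groth.Agent.Lib.Helper96

section TrivFlagSS
variable {k : Type u} [Field k] {A : Type v} [CommRing A] [Bialgebra k A]
variable {V : Type v} [AddCommGroup V] [Module k V]

/-- a semisimple comodule with a flag with trivial graded pieces is trivial -/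
theorem coact_eq_of_isSS_hasTrivFlag (c : HopfRep.Comod k A V) (hss : IsSS c)
    (hflag : HasTrivFlag c) (v : V) : c.coact v = v ⊗ₜ[k] (1 : A) := by
  obtain ⟨m, F, hmono, hF0, hFm, hFsub, hFtriv⟩ := hflag
  have key : ∀ i, ∀ v ∈ F i, c.coact v = v ⊗ₜ[k] (1 : A) := by
    intro i
    induction i with
    | zero =>
      intro v hv
      rw [hF0, Submodule.mem_bot] at hv
      rw [hv]; simp
    | succ i ih =>
      intro v hv
      obtain ⟨C, hCsub, hcompl⟩ := hss (F i) (hFsub i)
      have hv' : v ∈ F i ⊔ C := by rw [hcompl.sup_eq_top]; trivial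
      obtain ⟨f, hf, x, hx, rfl⟩ := Submodule.mem_sup.mp hv'
      have hf' : f ∈ F (i + 1) := hmono (Nat.le_succ i) hf
      have hx' : x ∈ F (i + 1) := by
        have : x = (f + x) - f := by abel
        rw [this]; exact Submodule.sub_mem _ hv hf'
      have h1 := hFtriv i x hx'
      have h2 : c.coact x - x ⊗ₜ[k] (1 : A) ∈ LinearMap.range (C.subtype.rTensor A) := by
        refine Submodule.sub_mem _ (hCsub x hx) ?_
        exact ⟨(⟨x, hx⟩ : C) ⊗ₜ[k] (1 : A), by simp⟩
      have h3 : c.coact x - x ⊗ₜ[k] (1 : A) = 0 := by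
        apply eq_zero_of_slice_eq_zero
        intro g
        have a1 := (mem_range_rTensor_subtype_iff (F i) _).mp h1 g
        have a2 := (mem_range_rTensor_subtype_iff C _).mp h2 g
        have : slice V g (c.coact x - x ⊗ₜ[k] (1 : A)) ∈ F i ⊓ C := ⟨a1, a2⟩
        rw [hcompl.inf_eq_bot] at this
        exact (Submodule.mem_bot k).mp this
      rw [map_add, ih f hf, sub_eq_zero.mp h3, TensorProduct.add_tmul]
  exact key m v (by rw [hFm]; trivial)

end TrivFlagSS

section Push
variable {k : Type u} [Field k] {A : Type v} [CommRing A] [Bialgebra k A]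
variable {B : Type v} [CommRing B] [Bialgebra k B]
variable {V : Type v} [AddCommGroup V] [Module k V]

/-- pushing a comodule along a bialgebra hom preserves flags with trivial graded pieces -/
theorem hasTrivFlag_push (φ : A →ₐc[k] B) (c : HopfRep.Comod k A V) (hflag : HasTrivFlag c) :
    HasTrivFlag (comodPush (φ : A →ₗc[k] B) c) := by
  obtain ⟨m, F, hmono, hF0, hFm, hFsub, hFtriv⟩ := hflag
  refine ⟨m, F, hmono, hF0, hFm, fun i => isSub_push_of_isSub (φ : A →ₗc[k] B) c _ rfl (hFsub i), ?_⟩
  intro i v hv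
  obtain ⟨z, hz⟩ := hFtriv i v hv
  refine ⟨((φ : A →ₗc[k] B) : A →ₗ[k] B).lTensor (F i) z, ?_⟩
  rw [← LinearMap.comp_apply, LinearMap.rTensor_comp_lTensor, ← LinearMap.lTensor_comp_rTensor,
    LinearMap.comp_apply, hz, map_sub, comodPush_coact, LinearMap.comp_apply]
  congr 1
  rw [LinearMap.lTensor_tmul]
  congr 1
  exact map_one φ

/-- if the pushed comodule structure on a subcomodule `W ∋ a` of the regular comodule is trivial,
then `φ a = ε(a) 1` -/
theorem apply_eq_of_push_trivial (φ : A →ₐc[k] B) (W : Submodule k A)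
    (hW : IsSub (HopfRep.Comod.regular k A) W)
    (htriv : ∀ w : W, (comodPush (φ : A →ₗc[k] B)
      (ComodSub.Comod.restr (HopfRep.Comod.regular k A) W hW)).coact w = w ⊗ₜ[k] (1 : B))
    (a : A) (ha : a ∈ W) :
    φ a = algebraMap k B (CoalgebraStruct.counit (R := k) (A := A) a) := by
  have h1 := htriv ⟨a, ha⟩
  rw [comodPush_coact, LinearMap.comp_apply] at h1
  have h2 := congrArg (W.subtype.rTensor B) h1
  rw [← LinearMap.comp_apply, LinearMap.rTensor_comp_lTensor, ← LinearMap.lTensor_comp_rTensor,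
    LinearMap.comp_apply, ComodSub.restr_coact_coe, LinearMap.rTensor_tmul] at h2
  have h3 : ((φ : A →ₗc[k] B) : A →ₗ[k] B).lTensor A (Coalgebra.comul (R := k) a) =
      a ⊗ₜ[k] (1 : B) := h2
  have h4 := congrArg ((TensorProduct.lid k B) ∘ (Coalgebra.counit (R := k) (A := A)).rTensor B) h3
  simp only [Function.comp_apply] at h4
  rw [← LinearMap.comp_apply, LinearMap.rTensor_comp_lTensor, ← LinearMap.lTensor_comp_rTensor,
    LinearMap.comp_apply, Coalgebra.rTensor_counit_comul] at h4
  simp only [LinearMap.lTensor_tmul, LinearMap.rTensor_tmul, TensorProduct.lid_tmul, one_smul] at h4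
  rw [Algebra.algebraMap_eq_smul_one]
  exact h4

end Push

section Main
variable {k : Type u} [Field k] {AU : Type u} [CommRing AU] [HopfAlgebra k AU]
variable {AM : Type u} [CommRing AM] [HopfAlgebra k AM]

/-- homs from a linearly reductive group to a unipotent group are trivial -/
theorem trivial_of_unip_to_linRed (hU : HopfRep.IsUnipotent k AU)
    (hM : HopfRep.IsLinearlyReductive k AM) (φ : AU →ₐc[k] AM) (a : AU) :
    φ a = algebraMap k AM (CoalgebraStruct.counit (R := k) (A := AU) a) := by
  obtain ⟨W, hWfin, haW, hW⟩ := exists_finite_isSub_mem (HopfRep.Comod.regular k AU) a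
  set cW := ComodSub.Comod.restr (HopfRep.Comod.regular k AU) W hW with hcW
  have hflag : HasTrivFlag cW := hasTrivFlag_of_isUnipotent hU _ ↥W cW rfl
  have hflag' := hasTrivFlag_push φ cW hflag
  have hss : IsSS (comodPush (φ : AU →ₗc[k] AM) cW) :=
    @hM ↥W _ _ (comodPush (φ : AU →ₗc[k] AM) cW) hWfin
  exact apply_eq_of_push_trivial φ W hW
    (fun w => coact_eq_of_isSS_hasTrivFlag _ hss hflag' w) a haW

/-- homs from a unipotent group to a commutative linearly reductive group are trivial -/
theorem trivial_of_linRed_to_unip [Coalgebra.IsCocomm k AM] (hU : HopfRep.IsUnipotent k AU)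
    (hM : HopfRep.IsLinearlyReductive k AM) (ψ : AM →ₐc[k] AU) (a : AM) :
    ψ a = algebraMap k AU (CoalgebraStruct.counit (R := k) (A := AM) a) := by
  obtain ⟨W, hWfin, haW, hW⟩ := exists_finite_isSub_mem (HopfRep.Comod.regular k AM) a
  set cW := ComodSub.Comod.restr (HopfRep.Comod.regular k AM) W hW with hcW
  have hss : IsSS cW := @hM ↥W _ _ cW hWfin
  set e := comodPush (ψ : AM →ₗc[k] AU) cW with he
  set F := @HopfRep.fixedPts k AU _ _ _ ↥W _ _ e with hF
  -- F is an AM-subcomodule, by cocommutativity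
  have hFsub : IsSub cW F := by
    rw [isSub_iff_slice]
    intro v hv g
    have hv' : e.coact v = v ⊗ₜ[k] (1 : AU) := hv
    have hT := isHom_slice_coact cW g
    show e.coact (slice ↥W g (cW.coact v)) = slice ↥W g (cW.coact v) ⊗ₜ[k] (1 : AU)
    have h1 : cW.coact (slice ↥W g (cW.coact v)) =
        (slice ↥W g ∘ₗ cW.coact).rTensor AM (cW.coact v) := isHom_apply hT v
    rw [he, comodPush_coact, LinearMap.comp_apply, h1, ← LinearMap.comp_apply,
      LinearMap.lTensor_comp_rTensor, ← LinearMap.rTensor_comp_lTensor, LinearMap.comp_apply]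
    have h2 : ((ψ : AM →ₗc[k] AU) : AM →ₗ[k] AU).lTensor ↥W (cW.coact v) = v ⊗ₜ[k] (1 : AU) := hv'
    rw [h2, LinearMap.rTensor_tmul, LinearMap.comp_apply]
  obtain ⟨F', hF'sub, hcompl⟩ := hss F hFsub
  have hF'bot : F' = ⊥ := by
    by_contra hne
    have hnt : Nontrivial ↥F' := Submodule.nontrivial_iff_ne_bot.mpr hne
    have hF'e : IsSub e F' := isSub_push_of_isSub (ψ : AM →ₗc[k] AU) cW e rfl hF'sub
    set e' := ComodSub.Comod.restr e F' hF'e with he'
    have hfix := @hU ↥F' _ _ e' inferInstance hnt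
    obtain ⟨x, hx, hx0⟩ := Submodule.exists_mem_ne_zero_of_ne_bot hfix
    have hx' : e'.coact x = x ⊗ₜ[k] (1 : AU) := hx
    have hxF : (x : ↥W) ∈ F := by
      show e.coact (x : ↥W) = (x : ↥W) ⊗ₜ[k] (1 : AU)
      rw [← ComodSub.restr_coact_coe e F' hF'e x, hx', LinearMap.rTensor_tmul]
      rfl
    have : (x : ↥W) ∈ F ⊓ F' := ⟨hxF, x.2⟩
    rw [hcompl.inf_eq_bot] at this
    exact hx0 (Subtype.ext ((Submodule.mem_bot k).mp this))
  have hFtop : F = ⊤ := by
    have := hcompl.sup_eq_top
    rwa [hF'bot, sup_bot_eq] at this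
  refine apply_eq_of_push_trivial ψ W hW (fun w => ?_) a haW
  have : w ∈ F := by rw [hFtop]; trivial
  exact this

end Main

/-! ### Cocommutativity from diagonalizability, and descent of cocommutativity -/


section
variable {K : Type u} [Field K] {B : Type v} [CommRing B] [Bialgebra K B]

theorem isCocomm_of_isDiagonalizable (h : HopfRep.IsDiagonalizable K B) : Coalgebra.IsCocomm K B := by
  constructor
  apply LinearMap.ext_on h
  intro x hx
  have hx' : IsGroupLikeElem K x := hx
  simp only [LinearMap.comp_apply, LinearEquiv.coe_coe]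
  rw [hx'.comul_eq_tmul_self, TensorProduct.comm_tmul]

end

section
variable (k : Type u) [Field k] (K : Type u) [Field K] [Algebra k K]
variable (B : Type u) [CommRing B] [Bialgebra k B]

/-- `w ↦ (1 ⊗ a) ⊗ (1 ⊗ b)` -/
noncomputable def jmap : B ⊗[k] B →ₗ[k] (K ⊗[k] B) ⊗[K] (K ⊗[k] B) :=
  ((AlgebraTensorModule.tensorTensorTensorComm k K k K K K B B).toLinearMap.restrictScalars k) ∘ₗ
    (TensorProduct.mk k (K ⊗[K] K) (B ⊗[k] B) ((1 : K) ⊗ₜ[K] (1 : K)))

theorem jmap_tmul (a b : B) :
    jmap k K B (a ⊗ₜ[k] b) = ((1 : K) ⊗ₜ[k] a) ⊗ₜ[K] ((1 : K) ⊗ₜ[k] b) := by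
  simp [jmap]

theorem jmap_injective : Function.Injective (jmap k K B) := by
  unfold jmap
  rw [LinearMap.coe_comp]
  apply Function.Injective.comp
  · exact (AlgebraTensorModule.tensorTensorTensorComm k K k K K K B B).injective
  · -- `w ↦ (1 ⊗ 1) ⊗ w` is injective by flatness
    let ι : k →ₗ[k] K ⊗[K] K := LinearMap.toSpanSingleton k (K ⊗[K] K) ((1 : K) ⊗ₜ[K] (1 : K))
    have hι : Function.Injective ι := by
      intro c c' hcc
      have h1 : (TensorProduct.lid K K) (ι c) = (TensorProduct.lid K K) (ι c') := by rw [hcc]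
      simp only [ι, LinearMap.toSpanSingleton_apply] at h1
      rw [TensorProduct.smul_tmul', TensorProduct.smul_tmul', TensorProduct.lid_tmul,
        TensorProduct.lid_tmul, smul_eq_mul, smul_eq_mul, mul_one, mul_one] at h1
      have h2 : algebraMap k K c = algebraMap k K c' := by
        rw [Algebra.algebraMap_eq_smul_one, Algebra.algebraMap_eq_smul_one]; exact h1
      exact (algebraMap k K).injective h2
    have hinj := Module.Flat.rTensor_preserves_injective_linearMap (M := B ⊗[k] B) ι hι
    intro w w' hww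
    apply (TensorProduct.lid k (B ⊗[k] B)).symm.injective
    apply hinj
    simpa [ι] using hww

theorem comul_one_tmul (a : B) :
    Coalgebra.comul (R := K) ((1 : K) ⊗ₜ[k] a) = jmap k K B (Coalgebra.comul (R := k) a) := by
  rw [TensorProduct.comul_tmul]
  have hc : Coalgebra.comul (R := K) (1 : K) = (1 : K) ⊗ₜ[K] (1 : K) := rfl
  rw [hc]
  rfl

theorem comm_jmap (w : B ⊗[k] B) :
    TensorProduct.comm K (K ⊗[k] B) (K ⊗[k] B) (jmap k K B w) =
      jmap k K B (TensorProduct.comm k B B w) := by
  induction w using TensorProduct.induction_on with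
  | zero => simp
  | add x y hx hy => simp only [map_add, hx, hy]
  | tmul a b => simp [jmap_tmul]

theorem isCocomm_of_baseChange (h : Coalgebra.IsCocomm K (K ⊗[k] B)) : Coalgebra.IsCocomm k B := by
  constructor
  apply LinearMap.ext
  intro a
  apply jmap_injective k K B
  simp only [LinearMap.comp_apply, LinearEquiv.coe_coe]
  rw [← comm_jmap, ← comul_one_tmul, Coalgebra.comm_comul]

end

end Groth.Agent.Lib.Helper96
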