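import Groth.Agent.Lib.Helper96.Semisimple

set_option autoImplicit false

open TensorProduct
universe u v
namespace Groth.Agent.Lib.Helper96

section
variable {k : Type u} [Field k] {A : Type v} [CommRing A] [Bialgebra k A]

/-- the fixed vectors form a subcomodule -/
theorem isSub_fixedPts {V : Type v} [AddCommGroup V] [Module k V] (c : HopfRep.Comod k A V) :
    IsSub c (@HopfRep.fixedPts k A _ _ _ V _ _ c) := by
  intro w hw
  have hw' : c.coact w = w ⊗ₜ[k] (1 : A) := hw
  exact ⟨(⟨w, hw⟩ : @HopfRep.fixedPts k A _ _ _ V _ _ c) ⊗ₜ[k] (1 : A), by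
    rw [LinearMap.rTensor_tmul]; exact hw'.symm⟩

/-- a flag with trivial graded pieces -/
def HasTrivFlag {V : Type v} [AddCommGroup V] [Module k V] (c : HopfRep.Comod k A V) : Prop :=
  ∃ (m : ℕ) (F : ℕ → Submodule k V), Monotone F ∧ F 0 = ⊥ ∧ F m = ⊤ ∧
    (∀ i, IsSub c (F i)) ∧
    ∀ i, ∀ v ∈ F (i + 1), c.coact v - v ⊗ₜ[k] (1 : A) ∈ LinearMap.range ((F i).subtype.rTensor A)

theorem hasTrivFlag_of_isUnipotent (hU : HopfRep.IsUnipotent k A) :
    ∀ (n : ℕ) (V : Type v) [AddCommGroup V] [Module k V] (c : HopfRep.Comod k A V)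
      [Module.Finite k V], Module.finrank k V = n → HasTrivFlag c := by
  intro n
  induction n using Nat.strong_induction_on with
  | _ n ih =>
    intro V _ _ c _ hn
    by_cases hV : Subsingleton V
    · refine ⟨0, fun _ => ⊥, monotone_const, rfl, Subsingleton.elim _ _, fun _ => isSub_bot c, ?_⟩
      intro i v hv
      rw [Submodule.mem_bot] at hv
      rw [hv]
      simp
    · rw [not_subsingleton_iff_nontrivial] at hV
      let W := @HopfRep.fixedPts k A _ _ _ V _ _ c
      have hW : IsSub c W := isSub_fixedPts c
      have hWne : W ≠ ⊥ := @hU V _ _ c inferInstance hV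
      let cQ := ComodSub.Comod.quot c W hW
      have hπ : IsHom c cQ W.mkQ := ComodSub.isComodHom_mkQ c W hW
      have hlt : Module.finrank k (V ⧸ W) < n := by
        rw [← hn]
        have h1 := Submodule.finrank_quotient_add_finrank W
        have h2 : 0 < Module.finrank k W := by
          rw [Module.finrank_pos_iff]
          exact (Submodule.nontrivial_iff_ne_bot).mpr hWne
        omega
      obtain ⟨m', F', hmono, hF0, hFm, hFsub, hFtriv⟩ := ih _ hlt (V ⧸ W) cQ rfl
      refine ⟨m' + 1, fun i => Nat.casesOn i ⊥ (fun j => (F' j).comap W.mkQ), ?_, rfl, ?_, ?_, ?_⟩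
      · intro i j hij
        cases i with
        | zero => exact bot_le
        | succ i =>
          cases j with
          | zero => omega
          | succ j => exact Submodule.comap_mono (hmono (by omega))
      · show (F' m').comap W.mkQ = ⊤
        rw [hFm, Submodule.comap_top]
      · intro i
        cases i with
        | zero => exact isSub_bot c
        | succ i => exact isSub_comap hπ (hFsub i)
      · intro i v hv
        cases i with
        | zero =>
          have hv' : W.mkQ v ∈ F' 0 := hv
          rw [hF0, Submodule.mem_bot] at hv'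
          have hvW : v ∈ W := (Submodule.Quotient.mk_eq_zero W).mp hv'
          have : c.coact v = v ⊗ₜ[k] (1 : A) := hvW
          rw [this, sub_self]
          exact Submodule.zero_mem _
        | succ i =>
          have hv' : W.mkQ v ∈ F' (i + 1) := hv
          have h1 := hFtriv i _ hv'
          rw [mem_range_rTensor_subtype_iff] at h1 ⊢
          intro g
          show W.mkQ (slice V g (c.coact v - v ⊗ₜ[k] (1 : A))) ∈ F' i
          rw [← slice_rTensor, map_sub, LinearMap.rTensor_tmul, ← isHom_apply hπ]
          exact h1 g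

theorem isUnipotent_of_hasTrivFlag
    (h : ∀ (V : Type v) [AddCommGroup V] [Module k V] (c : HopfRep.Comod k A V),
      Module.Finite k V → HasTrivFlag c) : HopfRep.IsUnipotent k A := by
  intro V _ _ c hfin hnt
  obtain ⟨m, F, hmono, hF0, hFm, hFsub, hFtriv⟩ := h V c hfin
  have hex : ∃ i, F (i + 1) ≠ ⊥ := by
    cases m with
    | zero =>
      exfalso
      rw [hF0] at hFm
      exact bot_ne_top hFm
    | succ m => exact ⟨m, by rw [hFm]; exact top_ne_bot⟩
  classical
  let i := Nat.find hex
  have hi : F (i + 1) ≠ ⊥ := Nat.find_spec hex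
  have hi0 : F i = ⊥ := by
    cases hi' : i with
    | zero => exact hF0
    | succ j =>
      by_contra hne
      have := Nat.find_min hex (m := j) (by omega)
      exact this hne
  obtain ⟨v, hv, hv0⟩ := Submodule.exists_mem_ne_zero_of_ne_bot hi
  have h1 := hFtriv i v hv
  rw [hi0] at h1
  obtain ⟨z, hz⟩ := h1
  have hz0 : z = 0 := Subsingleton.elim _ _
  rw [hz0, map_zero] at hz
  intro hbot
  apply hv0
  have hvfix : v ∈ @HopfRep.fixedPts k A _ _ _ V _ _ c := by
    show c.coact v = v ⊗ₜ[k] (1 : A)
    exact sub_eq_zero.mp hz.symm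
  rw [hbot, Submodule.mem_bot] at hvfix
  exact hvfix

end
end Groth.Agent.Lib.Helper96
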