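import Groth.Agent.Lib.Helper96.Coeff
import Groth.Agent.Lib.Helper96.Diag
import Groth.Agent.Lib.Helper96.Unipotent
import Mathlib.RingTheory.HopfAlgebra.Quotient

/-! Character flags: filtrations of comodules by subcomodules whose successive quotients are
acted on through given elements of the coalgebra. Socle lemma, functoriality, and a criterion
for all simple comodules to be one-dimensional (helper96). -/

set_option autoImplicit false

open TensorProduct
universe u v w w'
namespace Groth.Agent.Lib.Helper96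

section Flag

variable {k : Type u} [Field k] {C : Type v} [AddCommGroup C] [Module k C] [Coalgebra k C]
variable {V : Type w} [AddCommGroup V] [Module k V]
variable {V' : Type w'} [AddCommGroup V'] [Module k V']

/-- `M` carries a finite filtration by subcomodules with successive quotients acted on through
elements of `X` -/
def CharFlag (c : HopfRep.Comod k C V) (X : Set C) (M : Submodule k V) : Prop :=
  ∃ (m : ℕ) (F : ℕ → Submodule k V), F 0 = ⊥ ∧ F m = M ∧ (∀ i, IsSub c (F i)) ∧
    ∀ i, ∃ χ ∈ X, ∀ v ∈ F (i + 1), ∀ g : Module.Dual k C,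
      slice V g (c.coact v - v ⊗ₜ[k] χ) ∈ F i

/-- socle lemma: a minimal subcomodule inside a flagged submodule is acted on by a character
of the flag -/
theorem CharFlag.exists_of_isMinSub {c : HopfRep.Comod k C V} {X : Set C} {M : Submodule k V}
    (h : CharFlag c X M) {S : Submodule k V} (hS : IsMinSub c S) (hSM : S ≤ M) :
    ∃ χ ∈ X, ∀ s ∈ S, c.coact s = s ⊗ₜ[k] χ := by
  classical
  obtain ⟨m, F, hF0, hFm, hFsub, hFchar⟩ := h
  have hex : ∃ i, S ⊓ F i ≠ ⊥ := ⟨m, by rw [hFm, inf_eq_left.mpr hSM]; exact hS.2.1⟩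
  have hfind := Nat.find_spec hex
  have hmin := fun j (hj : j < Nat.find hex) => Nat.find_min hex hj
  rcases Nat.eq_zero_or_eq_succ_pred (Nat.find hex) with h0 | hsucc
  · exfalso
    rw [h0, hF0, inf_bot_eq] at hfind
    exact hfind rfl
  set j := (Nat.find hex).pred with hj
  have hSj : S ⊓ F j = ⊥ := by
    have := hmin j (by rw [hsucc]; exact Nat.lt_succ_self _)
    exact not_not.mp this
  have hSj1 : S ≤ F (j + 1) := by
    have h1 : IsSub c (S ⊓ F (j + 1)) := isSub_inf c hS.1 (hFsub _)
    rcases hS.2.2 _ h1 inf_le_left with h2 | h2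
    · exfalso
      rw [hsucc] at hfind
      exact hfind h2
    · exact inf_eq_left.mp h2
  obtain ⟨χ, hχX, hχ⟩ := hFchar j
  refine ⟨χ, hχX, ?_⟩
  intro s hs
  rw [← sub_eq_zero]
  apply eq_zero_of_slice_eq_zero
  intro g
  have h1 : slice V g (c.coact s - s ⊗ₜ[k] χ) ∈ F j := hχ s (hSj1 hs) g
  have h2 : slice V g (c.coact s - s ⊗ₜ[k] χ) ∈ S := by
    rw [map_sub, slice_tmul]
    exact S.sub_mem (((isSub_iff_slice c S).mp hS.1) s hs g) (S.smul_mem _ hs)
  have : slice V g (c.coact s - s ⊗ₜ[k] χ) ∈ S ⊓ F j := ⟨h2, h1⟩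
  rw [hSj] at this
  exact (Submodule.mem_bot k).mp this

/-- flags push forward along comodule maps -/
theorem CharFlag.map {c : HopfRep.Comod k C V} {c' : HopfRep.Comod k C V'} {φ : V →ₗ[k] V'}
    (hφ : IsHom c c' φ) {X : Set C} {M : Submodule k V} (h : CharFlag c X M) :
    CharFlag c' X (M.map φ) := by
  obtain ⟨m, F, hF0, hFm, hFsub, hFchar⟩ := h
  refine ⟨m, fun i => (F i).map φ, ?_, ?_, fun i => isSub_map hφ (hFsub i), ?_⟩
  · show (F 0).map φ = ⊥
    rw [hF0, Submodule.map_bot]
  · show (F m).map φ = M.map φ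
    rw [hFm]
  · intro i
    obtain ⟨χ, hχX, hχ⟩ := hFchar i
    refine ⟨χ, hχX, ?_⟩
    rintro _ ⟨v, hv, rfl⟩ g
    have : c'.coact (φ v) - φ v ⊗ₜ[k] χ = φ.rTensor C (c.coact v - v ⊗ₜ[k] χ) := by
      rw [map_sub, LinearMap.rTensor_tmul, isHom_apply hφ]
    rw [this, slice_rTensor]
    exact ⟨_, hχ v hv g, rfl⟩

/-- flags are preserved by corestriction along coalgebra maps -/
theorem CharFlag.push {D : Type*} [AddCommGroup D] [Module k D] [Coalgebra k D] (i : C →ₗc[k] D)
    {c : HopfRep.Comod k C V} {X : Set C} {M : Submodule k V} (h : CharFlag c X M) :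
    CharFlag (comodPush i c) (i '' X) M := by
  obtain ⟨m, F, hF0, hFm, hFsub, hFchar⟩ := h
  refine ⟨m, F, hF0, hFm, fun j => isSub_push_of_isSub i c (comodPush i c) rfl (hFsub j), ?_⟩
  intro j
  obtain ⟨χ, hχX, hχ⟩ := hFchar j
  refine ⟨i χ, ⟨χ, hχX, rfl⟩, ?_⟩
  intro v hv g
  have : (comodPush i c).coact v - v ⊗ₜ[k] i χ =
      (i : C →ₗ[k] D).lTensor V (c.coact v - v ⊗ₜ[k] χ) := by
    rw [map_sub, LinearMap.lTensor_tmul, comodPush_coact]
    rfl
  rw [this, slice_lTensor]
  exact hχ v hv _

theorem CharFlag.mono {c : HopfRep.Comod k C V} {X Y : Set C} (hXY : X ⊆ Y) {M : Submodule k V}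
    (h : CharFlag c X M) : CharFlag c Y M := by
  obtain ⟨m, F, hF0, hFm, hFsub, hFchar⟩ := h
  refine ⟨m, F, hF0, hFm, hFsub, ?_⟩
  intro i
  obtain ⟨χ, hχX, hχ⟩ := hFchar i
  exact ⟨χ, hXY hχX, hχ⟩

end Flag

section Exist

variable {k : Type u} [Field k] {C : Type v} [AddCommGroup C] [Module k C] [Coalgebra k C]

/-- if all simple finite-dimensional comodules are one-dimensional, every finite-dimensional
comodule has a character flag -/
theorem charFlag_top_of_simple_rank_one
    (h1 : ∀ (U : Type w) [AddCommGroup U] [Module k U] (d : HopfRep.Comod k C U),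
      Module.Finite k U → @HopfRep.IsSimpleComod k C _ _ _ _ U _ _ d → Module.finrank k U = 1) :
    ∀ (n : ℕ) (V : Type w) [AddCommGroup V] [Module k V] (c : HopfRep.Comod k C V)
      [Module.Finite k V], Module.finrank k V = n → CharFlag c Set.univ ⊤ := by
  intro n
  induction n with
  | zero =>
    intro V _ _ c _ hn
    have hsub : Subsingleton V := Module.finrank_zero_iff.mp hn
    refine ⟨0, fun _ => ⊥, rfl, Subsingleton.elim _ _, fun _ => isSub_bot c, ?_⟩
    intro i
    refine ⟨0, Set.mem_univ _, ?_⟩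
    intro v hv g
    rw [(Submodule.mem_bot k).mp hv]
    simp
  | succ n ih =>
    intro V _ _ c _ hn
    have : Nontrivial V := Module.nontrivial_of_finrank_pos (R := k) (by omega)
    obtain ⟨W, hWfin, hWmin⟩ := exists_isMinSub c
    have hW1 : Module.finrank k W = 1 :=
      h1 W (ComodSub.Comod.restr c W hWmin.1) hWfin (isSimple_restr_of_isMinSub c hWmin)
    obtain ⟨w₀, hw₀ne, hw₀⟩ := finrank_eq_one_iff'.mp hW1
    have hWspan : W = Submodule.span k {(w₀ : V)} := by
      apply le_antisymm
      · intro w hw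
        obtain ⟨t, ht⟩ := hw₀ ⟨w, hw⟩
        have : w = t • (w₀ : V) := (congrArg Subtype.val ht).symm
        rw [this]
        exact Submodule.smul_mem _ _ (Submodule.mem_span_singleton_self _)
      · rw [Submodule.span_le, Set.singleton_subset_iff]
        exact w₀.2
    obtain ⟨χ₀, hχ₀⟩ := mem_eigSet_of_isSub_span_singleton c (w₀ : V) (hWspan ▸ hWmin.1)
    have hWχ : ∀ w ∈ W, c.coact w = w ⊗ₜ[k] χ₀ := by
      intro w hw
      rw [hWspan] at hw
      obtain ⟨t, rfl⟩ := Submodule.mem_span_singleton.mp hw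
      rw [map_smul, hχ₀, TensorProduct.smul_tmul']
    have hq : Module.finrank k (V ⧸ W) = n := by
      have := W.finrank_quotient_add_finrank
      omega
    let cQ := ComodSub.Comod.quot c W hWmin.1
    have hπ : IsHom c cQ W.mkQ := ComodSub.isComodHom_mkQ c W hWmin.1
    obtain ⟨m', F', hF0, hFm, hFsub, hFchar⟩ := ih (V ⧸ W) cQ hq
    refine ⟨m' + 1, fun i => Nat.casesOn i ⊥ (fun j => (F' j).comap W.mkQ), rfl, ?_, ?_, ?_⟩
    · show (F' m').comap W.mkQ = ⊤
      rw [hFm, Submodule.comap_top]
    · intro i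
      cases i with
      | zero => exact isSub_bot c
      | succ i => exact isSub_comap hπ (hFsub i)
    · intro i
      cases i with
      | zero =>
        refine ⟨χ₀, Set.mem_univ _, ?_⟩
        intro v hv g
        have hv' : W.mkQ v ∈ F' 0 := hv
        rw [hF0, Submodule.mem_bot] at hv'
        have hvW : v ∈ W := (Submodule.Quotient.mk_eq_zero W).mp hv'
        rw [hWχ v hvW, sub_self, map_zero]
        exact Submodule.zero_mem _
      | succ i =>
        obtain ⟨χ, hχX, hχ⟩ := hFchar i
        refine ⟨χ, hχX, ?_⟩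
        intro v hv g
        have hv' : W.mkQ v ∈ F' (i + 1) := hv
        show W.mkQ (slice V g (c.coact v - v ⊗ₜ[k] χ)) ∈ F' i
        rw [← slice_rTensor, map_sub, LinearMap.rTensor_tmul, ← isHom_apply hπ]
        exact hχ _ hv' g

end Exist

section Criterion

variable {k : Type u} [Field k] {C : Type v} [AddCommGroup C] [Module k C] [Coalgebra k C]
variable {V : Type w} [AddCommGroup V] [Module k V]

/-- if the regular comodule is exhausted by flagged subcomodules with characters in `X`, every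
simple comodule is acted on through an element of `X` -/
theorem exists_char_of_isSimple {X : Set C}
    (hreg : ∀ a : C, ∃ M : Submodule k C, a ∈ M ∧ CharFlag (HopfRep.Comod.regular k C) X M)
    (c : HopfRep.Comod k C V) (hV : @HopfRep.IsSimpleComod k C _ _ _ _ V _ _ c) :
    ∃ χ ∈ X, ∀ v : V, c.coact v = v ⊗ₜ[k] χ := by
  have := hV.1
  obtain ⟨v₀, hv₀⟩ := exists_ne (0 : V)
  obtain ⟨φ, hφ⟩ : ∃ φ : Module.Dual k V, φ v₀ ≠ 0 := by
    by_contra hcon
    push Not at hcon
    exact hv₀ ((Module.forall_dual_apply_eq_zero_iff k v₀).mp hcon)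
  let cC := HopfRep.Comod.regular k C
  let j := cfMap c φ
  have hj : IsHom c cC j := isHom_cfMap c φ
  have hjv₀ : j v₀ ≠ 0 := by
    intro h0
    apply hφ
    have := counit_lsl'_coact c φ v₀
    rw [← this]
    show CoalgebraStruct.counit (R := k) (j v₀) = 0
    rw [h0, map_zero]
  have hker : LinearMap.ker j = ⊥ := by
    rcases hV.2 _ (isSub_ker hj) with h0 | h1
    · exact h0
    · exfalso
      apply hjv₀
      have : v₀ ∈ LinearMap.ker j := by rw [h1]; trivial
      exact this
  have hinj : Function.Injective j := LinearMap.ker_eq_bot.mp hker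
  let S := LinearMap.range j
  have hSmin : IsMinSub cC S := by
    refine ⟨isSub_range hj, ?_, ?_⟩
    · intro h0
      apply hjv₀
      have : j v₀ ∈ S := ⟨v₀, rfl⟩
      rw [h0] at this
      exact (Submodule.mem_bot k).mp this
    · intro W' hW' hle
      have hmap : (W'.comap j).map j = W' := by
        rw [Submodule.map_comap_eq, inf_eq_right.mpr hle]
      rcases hV.2 _ (isSub_comap hj hW') with h0 | h1
      · left
        rw [← hmap, h0, Submodule.map_bot]
      · right
        rw [← hmap, h1, Submodule.map_top]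
  obtain ⟨M, haM, hM⟩ := hreg (j v₀)
  have hSM : S ≤ M := by
    obtain ⟨m, F, hF0, hFm, hFsub, hFchar⟩ := hM
    have hMsub : IsSub cC M := hFm ▸ hFsub m
    rcases hSmin.2.2 _ (isSub_inf cC hSmin.1 hMsub) inf_le_left with h0 | h1
    · exfalso
      apply hjv₀
      have : j v₀ ∈ S ⊓ M := ⟨⟨v₀, rfl⟩, haM⟩
      rw [h0] at this
      exact (Submodule.mem_bot k).mp this
    · exact inf_eq_left.mp h1
  obtain ⟨χ, hχX, hχ⟩ := hM.exists_of_isMinSub hSmin hSM
  refine ⟨χ, hχX, ?_⟩
  intro v
  have h1 : j.rTensor C (c.coact v) = j.rTensor C (v ⊗ₜ[k] χ) := by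
    rw [← isHom_apply hj, LinearMap.rTensor_tmul]
    exact hχ (j v) ⟨v, rfl⟩
  exact Module.Flat.rTensor_preserves_injective_linearMap j hinj h1

/-- a simple comodule acted on through one element is one-dimensional -/
theorem finrank_eq_one_of_char (c : HopfRep.Comod k C V)
    (hV : @HopfRep.IsSimpleComod k C _ _ _ _ V _ _ c) (χ : C)
    (h : ∀ v : V, c.coact v = v ⊗ₜ[k] χ) : Module.finrank k V = 1 := by
  have := hV.1
  obtain ⟨v₀, hv₀⟩ := exists_ne (0 : V)
  have hsub : IsSub c (Submodule.span k {v₀}) := by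
    rw [isSub_iff_slice]
    intro w hw g
    rw [h w, slice_tmul]
    exact Submodule.smul_mem _ _ hw
  rcases hV.2 _ hsub with h0 | h1
  · exfalso
    apply hv₀
    have := Submodule.mem_span_singleton_self (R := k) v₀
    rw [h0] at this
    exact (Submodule.mem_bot k).mp this
  · exact (finrank_eq_one_iff_of_nonzero v₀ hv₀).mpr h1

end Criterion

section Hopf

variable {k : Type u} [Field k] {A : Type v} [CommRing A] [Bialgebra k A]

theorem isTrigonalizable_of_forall_charFlag
    (hreg : ∀ a : A, ∃ M : Submodule k A, a ∈ M ∧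
      CharFlag (HopfRep.Comod.regular k A) Set.univ M) : HopfRep.IsTrigonalizable k A := by
  intro V _ _ c hfin hsimple
  obtain ⟨χ, -, hχ⟩ := exists_char_of_isSimple hreg c hsimple
  exact finrank_eq_one_of_char c hsimple χ hχ

/-- over a trigonalizable bialgebra, finite-dimensional subcomodules are flagged -/
theorem charFlag_of_isTrigonalizable (hT : HopfRep.IsTrigonalizable k A)
    {V : Type v} [AddCommGroup V] [Module k V] (c : HopfRep.Comod k A V)
    (M : Submodule k V) (hM : IsSub c M) [Module.Finite k M] : CharFlag c Set.univ M := by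
  have h1 := charFlag_top_of_simple_rank_one (k := k) (C := A)
    (fun U _ _ d hfin hs => @hT U _ _ d hfin hs) _ M (ComodSub.Comod.restr c M hM) rfl
  have h2 := h1.map (ComodSub.isComodHom_subtype c M hM)
  rwa [Submodule.map_subtype_top] at h2

theorem isUnipotent_of_forall_charFlag
    (hreg : ∀ a : A, ∃ M : Submodule k A, a ∈ M ∧
      CharFlag (HopfRep.Comod.regular k A) {(1 : A)} M) : HopfRep.IsUnipotent k A := by
  intro V _ _ c hfin hnt
  obtain ⟨W, hWfin, hWmin⟩ := exists_isMinSub c
  obtain ⟨χ, hχ1, hχ⟩ := exists_char_of_isSimple hreg (ComodSub.Comod.restr c W hWmin.1)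
    (isSimple_restr_of_isMinSub c hWmin)
  rw [Set.mem_singleton_iff] at hχ1
  subst hχ1
  obtain ⟨w, hwW, hw0⟩ := Submodule.exists_mem_ne_zero_of_ne_bot hWmin.2.1
  intro hbot
  apply hw0
  have hfix : w ∈ @HopfRep.fixedPts k A _ _ _ V _ _ c := by
    show c.coact w = w ⊗ₜ[k] (1 : A)
    have h1 := isHom_apply (ComodSub.isComodHom_subtype c W hWmin.1) ⟨w, hwW⟩
    rw [hχ ⟨w, hwW⟩, LinearMap.rTensor_tmul] at h1
    exact h1
  rw [hbot] at hfix
  exact (Submodule.mem_bot k).mp hfix

end Hopf

section HopfU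

variable {k : Type u} [Field k] {A : Type v} [CommRing A] [HopfAlgebra k A]

/-- over a unipotent Hopf algebra, finite-dimensional subcomodules have trivial flags -/
theorem charFlag_of_isUnipotent (hU : HopfRep.IsUnipotent k A)
    {V : Type v} [AddCommGroup V] [Module k V] (c : HopfRep.Comod k A V)
    (M : Submodule k V) (hM : IsSub c M) [Module.Finite k M] : CharFlag c {(1 : A)} M := by
  obtain ⟨m, F, -, hF0, hFm, hFsub, hFtriv⟩ :=
    hasTrivFlag_of_isUnipotent hU _ M (ComodSub.Comod.restr c M hM) rfl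
  have h1 : CharFlag (ComodSub.Comod.restr c M hM) {(1 : A)} ⊤ := by
    refine ⟨m, F, hF0, hFm, hFsub, ?_⟩
    intro i
    refine ⟨1, rfl, ?_⟩
    intro v hv
    exact (mem_range_rTensor_subtype_iff _ _).mp (hFtriv i v hv)
  have h2 := h1.map (ComodSub.isComodHom_subtype c M hM)
  rwa [Submodule.map_subtype_top] at h2

end HopfU

section Quot

variable {k : Type u} [Field k] {A : Type v} [CommRing A] [HopfAlgebra k A]

/-- trigonalizability passes to quotient Hopf algebras -/
theorem isTrigonalizable_quotient (hT : HopfRep.IsTrigonalizable k A) (I : Ideal A)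
    [I.IsHopfIdeal k] : HopfRep.IsTrigonalizable k (A ⧸ I) := by
  apply isTrigonalizable_of_forall_charFlag
  intro b
  obtain ⟨a, rfl⟩ := Ideal.Quotient.mk_surjective b
  let cA := HopfRep.Comod.regular k A
  let π : A →ₐc[k] A ⧸ I := Bialgebra.Quotient.mkBialgHom I
  have h1 : CharFlag cA Set.univ (orbit cA a) := by
    have := finite_orbit cA a
    exact charFlag_of_isTrigonalizable hT cA _ (isSub_orbit cA a)
  have h2 := h1.push (π : A →ₗc[k] A ⧸ I)
  have hπ : IsHom (comodPush (π : A →ₗc[k] A ⧸ I) cA) (HopfRep.Comod.regular k (A ⧸ I))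
      ((π : A →ₗc[k] A ⧸ I) : A →ₗ[k] A ⧸ I) := by
    apply LinearMap.ext
    intro x
    have h3 := LinearMap.congr_fun (CoalgHomClass.map_comp_comul (π : A →ₗc[k] A ⧸ I)) x
    show CoalgebraStruct.comul (R := k) (π x) = _
    rw [LinearMap.comp_apply, comodPush_coact, LinearMap.comp_apply, ← LinearMap.comp_apply,
      LinearMap.rTensor_comp_lTensor]
    exact h3.symm
  exact ⟨(orbit cA a).map ((π : A →ₗc[k] A ⧸ I) : A →ₗ[k] A ⧸ I), ⟨a, mem_orbit_self cA a, rfl⟩,
    (h2.map hπ).mono (Set.subset_univ _)⟩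

end Quot

end Groth.Agent.Lib.Helper96
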