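import Groth.Agent.Lib.Helper96.CartierC

/-! The graded pieces of the augmentation filtration of a finitely generated commutative Hopf
algebra (helper96). -/

set_option autoImplicit false

open TensorProduct MvPolynomial
universe u v
namespace Groth.Agent.Lib.Helper96

namespace Cartier

theorem finrank_homogeneousSubmodule (k : Type u) [Field k] (r n : ℕ) :
    Module.finrank k (homogeneousSubmodule (Fin r) k n) = (r + n - 1).choose n := by
  classical
  rw [homogeneousSubmodule_eq_finsupp_supported]
  rw [LinearEquiv.finrank_eq (AddMonoidAlgebra.supportedEquivFinsupp (R := k) (S := k)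
    {d : Fin r →₀ ℕ | d.degree = n})]
  have hfin : {d : Fin r →₀ ℕ | d.degree = n} = ↑((Finset.univ : Finset (Fin r)).finsuppAntidiag n) := by
    ext d
    simp only [Set.mem_ofPred_eq, Finset.mem_coe, Finset.mem_finsuppAntidiag, Finset.subset_univ,
      and_true]
    rw [Finsupp.degree_eq_sum]
  haveI : Fintype ↥{d : Fin r →₀ ℕ | d.degree = n} := by
    rw [hfin]; infer_instance
  rw [Module.finrank_finsupp_self]
  have : Fintype.card ↥{d : Fin r →₀ ℕ | d.degree = n} =
      ((Finset.univ : Finset (Fin r)).finsuppAntidiag n).card := by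
    rw [← Fintype.card_coe]
    apply Fintype.card_congr
    exact Equiv.setCongr hfin
  rw [this, Finset.card_finsuppAntidiag_nat_eq_choose]
  simp

variable (k : Type u) [Field k] (A : Type v) [CommRing A] [Bialgebra k A]

theorem finite_cotangent [Algebra.FiniteType k A] : Module.Finite k (augI k A).Cotangent := by
  haveI : IsNoetherianRing A := Algebra.FiniteType.isNoetherianRing k A
  haveI : Module.Finite A ↥(augI k A) :=
    Module.Finite.iff_fg.mpr ((isNoetherianRing_iff_ideal_fg A).mp inferInstance _)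
  haveI : Module.Finite A (augI k A).Cotangent :=
    Module.Finite.of_surjective (augI k A).toCotangent (augI k A).toCotangent_surjective
  obtain ⟨s, hs⟩ := (Module.Finite.fg_top : (⊤ : Submodule A (augI k A).Cotangent).FG)
  refine ⟨⟨s, ?_⟩⟩
  rw [eq_top_iff]
  intro m _
  have hm : m ∈ Submodule.span A (s : Set (augI k A).Cotangent) := by rw [hs]; trivial
  refine Submodule.span_induction (p := fun m _ => m ∈ Submodule.span k (s : Set (augI k A).Cotangent))
    ?_ ?_ ?_ ?_ hm
  · intro x hx; exact Submodule.subset_span hx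
  · exact Submodule.zero_mem _
  · intro x y _ _ hx hy; exact Submodule.add_mem _ hx hy
  · intro a x _ hx
    have : a • x = Coalgebra.counit (R := k) a • x := by
      have h1 : a = algebraMap k A (Coalgebra.counit (R := k) a) +
          (a - algebraMap k A (Coalgebra.counit (R := k) a)) := by abel
      conv_lhs => rw [h1]
      rw [add_smul, Ideal.Cotangent.smul_eq_zero_of_mem (sub_counit_mem a), add_zero,
        algebraMap_smul]
    rw [this]
    exact Submodule.smul_mem _ _ hx

variable {k A}
variable (D : CotData k A)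

/-- `P_n → A/I^{n+1}` -/
noncomputable def phi (n : ℕ) : ↥(homogeneousSubmodule (Fin D.r) k n) →ₗ[k] A ⧸ augI k A ^ (n + 1) :=
  (Ideal.Quotient.mkₐ k (augI k A ^ (n + 1))).toLinearMap ∘ₗ (ev D).toLinearMap ∘ₗ
    (homogeneousSubmodule (Fin D.r) k n).subtype

theorem pow_succ_le' (k : Type u) [Field k] (A : Type v) [CommRing A] [Bialgebra k A] (n : ℕ) :
    augI k A ^ (n + 1) ≤ augI k A ^ n := Ideal.pow_le_pow_right (Nat.le_succ n)

/-- `A/I^{n+1} → A/I^n` -/
noncomputable def qmap (k : Type u) [Field k] (A : Type v) [CommRing A] [Bialgebra k A] (n : ℕ) :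
    (A ⧸ augI k A ^ (n + 1)) →ₗ[k] (A ⧸ augI k A ^ n) :=
  (Ideal.Quotient.factorₐ k (pow_succ_le' k A n)).toLinearMap

theorem qmap_surjective (n : ℕ) : Function.Surjective (qmap k A n) :=
  Ideal.Quotient.factor_surjective (pow_succ_le' k A n)

theorem exact_phi_qmap (n : ℕ) : Function.Exact (phi D n) (qmap k A n) := by
  intro y
  obtain ⟨a, rfl⟩ := Ideal.Quotient.mk_surjective y
  have hq : qmap k A n (Ideal.Quotient.mk _ a) = Ideal.Quotient.mk _ a := rfl
  rw [hq, Ideal.Quotient.eq_zero_iff_mem]
  constructor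
  · intro ha
    obtain ⟨m, ⟨F, hF, rfl⟩, a', ha', rfl⟩ := Submodule.mem_sup.mp (pow_le D n ha)
    refine ⟨⟨F, hF⟩, ?_⟩
    show Ideal.Quotient.mk _ (ev D F) = _
    rw [eq_comm, Ideal.Quotient.mk_eq_mk_iff_sub_mem]
    simpa using ha'
  · rintro ⟨F, hF⟩
    have h1 : Ideal.Quotient.mk (augI k A ^ (n + 1)) (ev D (F : MvPolynomial (Fin D.r) k)) =
        Ideal.Quotient.mk _ a := hF
    rw [Ideal.Quotient.mk_eq_mk_iff_sub_mem] at h1
    have h2 : ev D (F : MvPolynomial (Fin D.r) k) ∈ augI k A ^ n := ev_mem_pow D F.2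
    have h3 : ev D (F : MvPolynomial (Fin D.r) k) - a ∈ augI k A ^ n :=
      Ideal.pow_le_pow_right (Nat.le_succ n) h1
    have := Ideal.sub_mem _ h2 h3
    simpa using this

theorem phi_injective (n : ℕ) (hn : (n.factorial : k) ≠ 0) : Function.Injective (phi D n) := by
  rw [← LinearMap.ker_eq_bot, LinearMap.ker_eq_bot']
  intro F hF
  have h1 : Ideal.Quotient.mk (augI k A ^ (n + 1)) (ev D (F : MvPolynomial (Fin D.r) k)) = 0 := hF
  rw [Ideal.Quotient.eq_zero_iff_mem] at h1
  exact Subtype.ext (eq_zero_of_ev_mem D n hn F F.2 h1)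

include D in
theorem finite_quot_pow (n : ℕ) : Module.Finite k (A ⧸ augI k A ^ n) := by
  induction n with
  | zero =>
    haveI : Subsingleton (A ⧸ augI k A ^ 0) := by
      rw [Ideal.Quotient.subsingleton_iff]; simp
    infer_instance
  | succ n ih =>
    haveI := ih
    haveI : Module.Finite k ↥(homogeneousSubmodule (Fin D.r) k n) :=
      Module.Finite.iff_fg.mpr (homogeneousSubmodule_fg (Fin D.r) k n)
    exact Module.Finite.of_exact (exact_phi_qmap D n) (qmap_surjective n)

theorem finrank_quot_pow_succ' (n : ℕ) (hn : (n.factorial : k) ≠ 0) :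
    Module.finrank k (A ⧸ augI k A ^ (n + 1)) =
      Module.finrank k (A ⧸ augI k A ^ n) + (D.r + n - 1).choose n := by
  haveI := finite_quot_pow D (n + 1)
  haveI := finite_quot_pow D n
  haveI : Module.Finite k ↥(homogeneousSubmodule (Fin D.r) k n) :=
    Module.Finite.iff_fg.mpr (homogeneousSubmodule_fg (Fin D.r) k n)
  have h1 := LinearMap.finrank_range_add_finrank_ker (qmap k A n)
  have h2 : LinearMap.range (qmap k A n) = ⊤ := LinearMap.range_eq_top.mpr (qmap_surjective n)
  have h3 : LinearMap.ker (qmap k A n) = LinearMap.range (phi D n) :=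
    (LinearMap.exact_iff.mp (exact_phi_qmap D n))
  rw [h2, finrank_top, h3, LinearMap.finrank_range_of_inj (phi_injective D n hn),
    finrank_homogeneousSubmodule] at h1
  exact h1.symm

end Cartier

end Groth.Agent.Lib.Helper96
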