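import Mathlib

set_option autoImplicit false
universe u
open CategoryTheory CategoryTheory.Limits AlgebraicGeometry Opposite

namespace Groth.Agent.Lib.Helper96.ALALG

theorem exists_eval_mem_open (L : Type u) [Field L]
    (O : (Spec (CommRingCat.of (Polynomial L))).Opens)
    (h0 : ∀ q, Spec.map (CommRingCat.ofHom (Polynomial.evalRingHom (0 : L))) q ∈ O)
    (a : ℕ → L) (ha : Function.Injective a) :
    ∃ n, ∀ q, Spec.map (CommRingCat.ofHom (Polynomial.evalRingHom (a n))) q ∈ O := by
  classical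
  have key : ∀ (c : L) (q : Spec (CommRingCat.of L)),
      ((Spec.map (CommRingCat.ofHom (Polynomial.evalRingHom c))) q : PrimeSpectrum (Polynomial L)) =
        PrimeSpectrum.comap (Polynomial.evalRingHom c) q := fun c q => rfl
  -- the complement of O is a zero locus
  let OS : Set (PrimeSpectrum (Polynomial L)) := {x | (x : Spec (CommRingCat.of (Polynomial L))) ∈ O}
  have hcl : IsClosed (OSᶜ) := O.2.isClosed_compl
  obtain ⟨I, hI⟩ := (PrimeSpectrum.isClosed_iff_zeroLocus_ideal _).mp hcl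
  let q₀ : Spec (CommRingCat.of L) := (⊥ : PrimeSpectrum L)
  have hx₀ : PrimeSpectrum.comap (Polynomial.evalRingHom (0 : L)) q₀ ∉
      PrimeSpectrum.zeroLocus (I : Set (Polynomial L)) := by
    rw [← hI]
    intro hc
    exact hc (h0 q₀)
  rw [PrimeSpectrum.mem_zeroLocus, Set.not_subset] at hx₀
  obtain ⟨p, hpI, hp⟩ := hx₀
  have hp0 : p.eval 0 ≠ 0 := by
    intro h
    apply hp
    change Polynomial.evalRingHom (0 : L) p ∈ (q₀ : PrimeSpectrum L).asIdeal
    rw [Polynomial.coe_evalRingHom, h]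
    exact Ideal.zero_mem _
  have hpne : p ≠ 0 := by
    rintro rfl
    exact hp0 (by simp)
  have hex : ∃ n, p.eval (a n) ≠ 0 := by
    by_contra hcon
    push Not at hcon
    apply hpne
    apply Polynomial.eq_zero_of_infinite_isRoot
    apply (Set.infinite_range_of_injective ha).mono
    rintro _ ⟨n, rfl⟩
    exact hcon n
  obtain ⟨n, hn⟩ := hex
  refine ⟨n, fun q => ?_⟩
  by_contra hq
  have hmem : PrimeSpectrum.comap (Polynomial.evalRingHom (a n)) q ∈
      PrimeSpectrum.zeroLocus (I : Set (Polynomial L)) := by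
    rw [← hI]
    exact hq
  rw [PrimeSpectrum.mem_zeroLocus] at hmem
  have h1 : p ∈ (PrimeSpectrum.comap (Polynomial.evalRingHom (a n)) q).asIdeal := hmem hpI
  have h2 : p.eval (a n) ∈ (q : PrimeSpectrum L).asIdeal := h1
  have hq' : (q : PrimeSpectrum L).asIdeal ≠ ⊤ := (q : PrimeSpectrum L).2.ne_top
  apply hq'
  exact Ideal.eq_top_of_isUnit_mem _ h2 (IsUnit.mk0 _ hn)

end Groth.Agent.Lib.Helper96.ALALG
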