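import Mathlib.RingTheory.SimpleModule.Basic
import Mathlib.FieldTheory.IsAlgClosed.Spectrum
import Mathlib.LinearAlgebra.Eigenspace.Triangularizable
import Mathlib.LinearAlgebra.Trace
import Mathlib.LinearAlgebra.FiniteDimensional.Lemmas

/-!
# Burnside's theorem on irreducible matrix algebras over an algebraically closed field
-/

set_option autoImplicit false

universe u v

namespace Groth.Agent.Lib.Helper96

section Burnside

variable {K : Type u} [Field K] [IsAlgClosed K] {V : Type v} [AddCommGroup V] [Module K V]
  [FiniteDimensional K V] [Nontrivial V]

/-- Burnside: a subalgebra of `End V` without proper invariant subspaces is everything -/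
theorem burnside (S : Subalgebra K (Module.End K V))
    (hirr : ∀ W : Submodule K V, (∀ a ∈ S, ∀ w ∈ W, a w ∈ W) → W = ⊥ ∨ W = ⊤) : S = ⊤ := by
  classical
  -- `V` is a simple `S`-module
  have hsmul : ∀ (c : K) (v : V), (algebraMap K S c) • v = c • v := by
    intro c v
    rfl
  have hsimple : IsSimpleModule S V := by
    rw [isSimpleModule_iff]
    refine { exists_pair_ne := ⟨⊥, ⊤, bot_ne_top⟩, eq_bot_or_eq_top := ?_ }
    intro N
    let W : Submodule K V :=
      { carrier := N
        add_mem' := N.add_mem
        zero_mem' := N.zero_mem
        smul_mem' := fun c v hv => by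
          have := N.smul_mem (algebraMap K S c) hv
          rwa [hsmul] at this }
    have hW : ∀ a ∈ S, ∀ w ∈ W, a w ∈ W := by
      intro a ha w hw
      exact N.smul_mem ⟨a, ha⟩ hw
    rcases hirr W hW with h0 | h1
    · left
      rw [eq_bot_iff]
      intro v hv
      have : v ∈ W := hv
      rw [h0] at this
      exact this
    · right
      rw [eq_top_iff]
      intro v _
      have : v ∈ W := by rw [h1]; exact Submodule.mem_top
      exact this
  -- Schur's lemma
  have schur : ∀ e : Module.End S V, ∃ μ : K, ∀ v, e v = μ • v := by
    intro e
    let e' : Module.End K V :=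
      { toFun := e
        map_add' := e.map_add
        map_smul' := fun c v => by
          rw [← hsmul, e.map_smul, hsmul]
          rfl }
    obtain ⟨μ, hμ⟩ := Module.End.exists_eigenvalue e'
    obtain ⟨v₀, hv₀⟩ := hμ.exists_hasEigenvector
    let m : Module.End S V :=
      { toFun := fun v => μ • v
        map_add' := smul_add μ
        map_smul' := fun r v => by
          show μ • ((r : Module.End K V) v) = (r : Module.End K V) (μ • v)
          rw [map_smul] }
    have hker : ¬ Function.Injective (e - m) := by
      intro hinj
      have h1 : (e - m) v₀ = 0 := by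
        show e v₀ - μ • v₀ = 0
        have : e' v₀ = μ • v₀ := hv₀.apply_eq_smul
        rw [sub_eq_zero]
        exact this
      exact hv₀.2 (hinj (by rw [h1, map_zero]))
    rcases LinearMap.injective_or_eq_zero (e - m) with h | h
    · exact absurd h hker
    · refine ⟨μ, fun v => ?_⟩
      have := LinearMap.congr_fun h v
      rw [LinearMap.sub_apply, LinearMap.zero_apply, sub_eq_zero] at this
      exact this
  -- density
  rw [eq_top_iff]
  intro φ _
  let f : Module.End (Module.End S V) V :=
    { toFun := φ
      map_add' := φ.map_add
      map_smul' := fun e v => by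
        obtain ⟨μ, hμ⟩ := schur e
        show φ (e v) = e (φ v)
        rw [hμ, hμ, map_smul] }
  let b := Module.finBasis K V
  obtain ⟨r, hr⟩ := jacobson_density f (Finset.univ.image b)
  have : φ = (r : Module.End K V) := by
    apply b.ext
    intro i
    exact hr (b i) (Finset.mem_image_of_mem b (Finset.mem_univ i))
  rw [this]
  exact r.2

end Burnside

end Groth.Agent.Lib.Helper96
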