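import Mathlib

/-! Towards Cartier's theorem: ε-derivations and invariant derivations of a commutative Hopf
algebra, and their behaviour on the powers of the augmentation ideal (helper96). -/

set_option autoImplicit false

open TensorProduct
universe u v
namespace Groth.Agent.Lib.Helper96

namespace Cartier

variable {k : Type u} [Field k] {A : Type v} [CommRing A] [Bialgebra k A]

/-- the augmentation ideal -/
abbrev augI (k : Type u) [Field k] (A : Type v) [CommRing A] [Bialgebra k A] : Ideal A :=
  RingHom.ker (Bialgebra.counitAlgHom k A)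

theorem mem_augI {a : A} : a ∈ augI k A ↔ Coalgebra.counit (R := k) a = 0 := Iff.rfl

theorem sub_counit_mem (a : A) : a - algebraMap k A (Coalgebra.counit (R := k) a) ∈ augI k A := by
  rw [mem_augI, map_sub]
  have : Coalgebra.counit (R := k) (algebraMap k A (Coalgebra.counit (R := k) a)) =
      Coalgebra.counit (R := k) a := by
    have := (Bialgebra.counitAlgHom k A).commutes (Coalgebra.counit (R := k) a)
    simpa using this
  rw [this, sub_self]

/-- an ε-derivation `A → k` -/
def IsEpsDer (d : A →ₗ[k] k) : Prop :=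
  ∀ a b : A, d (a * b) = Coalgebra.counit (R := k) a * d b + d a * Coalgebra.counit (R := k) b

theorem IsEpsDer.map_one {d : A →ₗ[k] k} (hd : IsEpsDer d) : d 1 = 0 := by
  have := hd 1 1
  rw [mul_one, Bialgebra.counit_one, one_mul, mul_one] at this
  linear_combination -this

theorem IsEpsDer.map_mul_mem {d : A →ₗ[k] k} (hd : IsEpsDer d) {a b : A} (ha : a ∈ augI k A)
    (hb : b ∈ augI k A) : d (a * b) = 0 := by
  rw [hd, mem_augI.mp ha, mem_augI.mp hb]; simp

/-- `u ↦ Σ d(u₂) u₁` on `A ⊗ A` -/
noncomputable def Tmap (d : A →ₗ[k] k) : A ⊗[k] A →ₗ[k] A :=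
  (TensorProduct.rid k A).toLinearMap ∘ₗ d.lTensor A

theorem Tmap_tmul (d : A →ₗ[k] k) (a b : A) : Tmap d (a ⊗ₜ[k] b) = d b • a := by
  simp [Tmap]

theorem Tmap_mul {d : A →ₗ[k] k} (hd : IsEpsDer d) (u v : A ⊗[k] A) :
    Tmap d (u * v) = Tmap (Coalgebra.counit (R := k) (A := A)) u * Tmap d v +
      Tmap d u * Tmap (Coalgebra.counit (R := k) (A := A)) v := by
  induction u using TensorProduct.induction_on with
  | zero => simp
  | add x y hx hy => simp only [add_mul, map_add, hx, hy]; ring
  | tmul a b =>
    induction v using TensorProduct.induction_on with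
    | zero => simp
    | add x y hx hy => simp only [mul_add, map_add, hx, hy]; ring
    | tmul a' b' =>
      rw [Algebra.TensorProduct.tmul_mul_tmul, Tmap_tmul, Tmap_tmul, Tmap_tmul, Tmap_tmul,
        Tmap_tmul, hd]
      simp only [add_smul, mul_smul, smul_mul_smul_comm]

theorem Tmap_counit_comul (a : A) :
    Tmap (Coalgebra.counit (R := k) (A := A)) (Coalgebra.comul (R := k) a) = a := by
  rw [Tmap, LinearMap.comp_apply, Coalgebra.lTensor_counit_comul]
  simp

/-- the invariant derivation attached to an ε-derivation: `a ↦ Σ d(a₂) a₁` -/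
noncomputable def Dd (d : A →ₗ[k] k) : A →ₗ[k] A := Tmap d ∘ₗ Coalgebra.comul (R := k) (A := A)

theorem Dd_mul {d : A →ₗ[k] k} (hd : IsEpsDer d) (a b : A) :
    Dd d (a * b) = a * Dd d b + Dd d a * b := by
  simp only [Dd, LinearMap.comp_apply]
  rw [Bialgebra.comul_mul, Tmap_mul hd, Tmap_counit_comul, Tmap_counit_comul]

theorem counit_Tmap (d : A →ₗ[k] k) (u : A ⊗[k] A) :
    Coalgebra.counit (R := k) (Tmap d u) =
      d (TensorProduct.lid k A ((Coalgebra.counit (R := k) (A := A)).rTensor A u)) := by
  induction u using TensorProduct.induction_on with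
  | zero => simp
  | add x y hx hy => simp only [map_add, hx, hy]
  | tmul a b => simp [Tmap_tmul, mul_comm]

theorem counit_Dd (d : A →ₗ[k] k) (a : A) : Coalgebra.counit (R := k) (Dd d a) = d a := by
  simp only [Dd, LinearMap.comp_apply]
  rw [counit_Tmap, Coalgebra.rTensor_counit_comul]
  simp

/-- an invariant derivation lowers the augmentation filtration by at most one -/
theorem Dd_mem_pow {d : A →ₗ[k] k} (hd : IsEpsDer d) (m : ℕ) {y : A}
    (hy : y ∈ augI k A ^ (m + 1)) : Dd d y ∈ augI k A ^ m := by
  induction m generalizing y with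
  | zero => simp
  | succ m ih =>
    rw [pow_succ] at hy
    refine Submodule.mul_induction_on hy ?_ ?_
    · intro a ha b hb
      rw [Dd_mul hd]
      refine Ideal.add_mem _ ?_ ?_
      · exact Ideal.mul_mem_right _ _ ha
      · rw [pow_succ]
        exact Ideal.mul_mem_mul (ih ha) hb
    · intro x y hx hy
      rw [map_add]
      exact Ideal.add_mem _ hx hy

end Cartier

end Groth.Agent.Lib.Helper96
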