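import Groth.Agent.Lib.Helper96.CartierA

/-! Towards Cartier's theorem: the cotangent space at the identity and dual ε-derivations
(helper96). -/

set_option autoImplicit false

open TensorProduct
universe u v
namespace Groth.Agent.Lib.Helper96

namespace Cartier

variable (k : Type u) [Field k] (A : Type v) [CommRing A] [Bialgebra k A]

/-- `a ↦ a − ε(a)` into the augmentation ideal -/
noncomputable def toI : A →ₗ[k] augI k A where
  toFun a := ⟨a - algebraMap k A (Coalgebra.counit (R := k) a), sub_counit_mem a⟩
  map_add' a b := by
    apply Subtype.ext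
    simp only [map_add, Submodule.coe_add]
    ring
  map_smul' c a := by
    apply Subtype.ext
    show c • a - algebraMap k A (Coalgebra.counit (R := k) (c • a)) =
      c • (a - algebraMap k A (Coalgebra.counit (R := k) a))
    rw [map_smul, smul_eq_mul, map_mul, smul_sub, Algebra.smul_def c (algebraMap k A _)]

theorem toI_coe (a : A) : (toI k A a : A) = a - algebraMap k A (Coalgebra.counit (R := k) a) := rfl

theorem toI_of_mem (x : augI k A) : toI k A x = x := by
  apply Subtype.ext
  rw [toI_coe, mem_augI.mp x.2, map_zero, sub_zero]

/-- `A → I/I²` -/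
noncomputable def cot : A →ₗ[k] (augI k A).Cotangent :=
  ((augI k A).toCotangent.restrictScalars k) ∘ₗ toI k A

theorem cot_apply (a : A) : cot k A a = (augI k A).toCotangent (toI k A a) := rfl

theorem cot_of_mem (x : augI k A) : cot k A x = (augI k A).toCotangent x := by
  rw [cot_apply, toI_of_mem]

theorem cot_mul (a b : A) :
    cot k A (a * b) = Coalgebra.counit (R := k) a • cot k A b + Coalgebra.counit (R := k) b • cot k A a := by
  simp only [cot_apply]
  have h1 : Coalgebra.counit (R := k) a • (augI k A).toCotangent (toI k A b) =
      (augI k A).toCotangent (Coalgebra.counit (R := k) a • toI k A b) :=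
    (LinearMap.map_smul_of_tower _ _ _).symm
  have h2 : Coalgebra.counit (R := k) b • (augI k A).toCotangent (toI k A a) =
      (augI k A).toCotangent (Coalgebra.counit (R := k) b • toI k A a) :=
    (LinearMap.map_smul_of_tower _ _ _).symm
  rw [h1, h2, ← map_add, Ideal.toCotangent_eq]
  have : ((toI k A (a * b) : A) - ((Coalgebra.counit (R := k) a • toI k A b +
      Coalgebra.counit (R := k) b • toI k A a : augI k A) : A)) =
      (toI k A a : A) * (toI k A b : A) := by
    simp only [Submodule.coe_add, Submodule.coe_smul_of_tower, toI_coe]
    have hm : Coalgebra.counit (R := k) (a * b) =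
        Coalgebra.counit (R := k) a * Coalgebra.counit (R := k) b := Bialgebra.counit_mul a b
    rw [hm, map_mul, Algebra.smul_def, Algebra.smul_def]
    ring
  rw [this, pow_two]
  exact Ideal.mul_mem_mul (toI k A a).2 (toI k A b).2

theorem isEpsDer_comp_cot (φ : (augI k A).Cotangent →ₗ[k] k) : IsEpsDer (φ ∘ₗ cot k A) := by
  intro a b
  simp only [LinearMap.comp_apply]
  rw [cot_mul, map_add, map_smul, map_smul, smul_eq_mul, smul_eq_mul]
  ring

end Cartier

end Groth.Agent.Lib.Helper96
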