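import Groth.Agent.Lib.Helper96.CartierB

/-! Towards Cartier's theorem: the associated graded ring of the augmentation ideal is a polynomial
ring in degrees `n` with `n!` invertible (helper96). -/

set_option autoImplicit false

open TensorProduct MvPolynomial
universe u v
namespace Groth.Agent.Lib.Helper96

namespace Cartier

variable (k : Type u) [Field k] (A : Type v) [CommRing A] [Bialgebra k A]

/-- coordinates at the identity: lifts `x j ∈ I` of a basis of `I/I²` with dual ε-derivations -/
structure CotData where
  r : ℕ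
  x : Fin r → A
  hx : ∀ j, x j ∈ augI k A
  d : Fin r → (A →ₗ[k] k)
  hd : ∀ i, IsEpsDer (d i)
  hdx : ∀ i j, d i (x j) = if i = j then 1 else 0
  hspan : ∀ z ∈ augI k A, ∃ c : Fin r → k, z - ∑ j, c j • x j ∈ augI k A ^ 2

theorem exists_cotData [Module.Finite k (augI k A).Cotangent] :
    ∃ D : CotData k A, D.r = Module.finrank k (augI k A).Cotangent := by
  classical
  let b := Module.finBasis k (augI k A).Cotangent
  have hsurj := (augI k A).toCotangent_surjective
  choose x hx using fun j => hsurj (b j)
  refine ⟨⟨Module.finrank k (augI k A).Cotangent, fun j => (x j : A), fun j => (x j).2,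
    fun i => b.coord i ∘ₗ cot k A, fun i => isEpsDer_comp_cot k A _, ?_, ?_⟩, rfl⟩
  · intro i j
    rw [LinearMap.comp_apply, cot_of_mem, hx, Module.Basis.coord_apply, Module.Basis.repr_self,
      Finsupp.single_apply]
    simp only [eq_comm]
  · intro z hz
    refine ⟨fun j => b.repr ((augI k A).toCotangent ⟨z, hz⟩) j, ?_⟩
    have h0 : (augI k A).toCotangent (⟨z, hz⟩ - ∑ j, b.repr ((augI k A).toCotangent ⟨z, hz⟩) j • x j) = 0 := by
      rw [map_sub, map_sum]
      simp only [LinearMap.map_smul_of_tower, hx]
      rw [b.sum_repr, sub_self]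
    rw [Ideal.toCotangent_eq_zero] at h0
    convert h0 using 1
    simp [Submodule.coe_sum, Submodule.coe_smul_of_tower]

variable {k A}
variable (D : CotData k A)

/-- evaluation of polynomials at the coordinates -/
noncomputable def ev : MvPolynomial (Fin D.r) k →ₐ[k] A := aeval D.x

theorem ev_X (j : Fin D.r) : ev D (X j) = D.x j := aeval_X _ _

/-- the image of the homogeneous polynomials of degree `n` -/
noncomputable def Mn (n : ℕ) : Submodule k A :=
  (homogeneousSubmodule (Fin D.r) k n).map (ev D).toLinearMap

theorem Mn_eq_pow (n : ℕ) : Mn D n = Mn D 1 ^ n := by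
  unfold Mn
  rw [← homogeneousSubmodule_one_pow (σ := Fin D.r) (R := k) n, Submodule.map_pow]

theorem Mn_one_le : Mn D 1 ≤ (augI k A).restrictScalars k := by
  unfold Mn
  rw [homogeneousSubmodule_one_eq_span_X, Submodule.map_span, Submodule.span_le]
  rintro _ ⟨_, ⟨j, rfl⟩, rfl⟩
  show ev D (X j) ∈ augI k A
  rw [ev_X]
  exact D.hx j

theorem Mn_le (n : ℕ) : Mn D n ≤ (augI k A ^ n).restrictScalars k := by
  rw [Mn_eq_pow]
  induction n with
  | zero =>
    intro a _
    show a ∈ augI k A ^ 0
    simp
  | succ n ih =>
    rw [pow_succ, Submodule.mul_le]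
    intro a ha b hb
    show a * b ∈ augI k A ^ (n + 1)
    rw [pow_succ]
    exact Ideal.mul_mem_mul (ih ha) (Mn_one_le D hb)

theorem ev_mem_pow {n : ℕ} {F : MvPolynomial (Fin D.r) k} (hF : F.IsHomogeneous n) :
    ev D F ∈ augI k A ^ n :=
  Mn_le D n ⟨F, hF, rfl⟩

theorem augI_le : (augI k A).restrictScalars k ≤ Mn D 1 ⊔ (augI k A ^ 2).restrictScalars k := by
  intro z hz
  obtain ⟨c, hc⟩ := D.hspan z hz
  have : z = ∑ j, c j • D.x j + (z - ∑ j, c j • D.x j) := by abel
  rw [this]
  refine Submodule.add_mem_sup ?_ hc
  refine Submodule.sum_mem _ fun j _ => Submodule.smul_mem _ _ ?_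
  exact ⟨X j, isHomogeneous_X k j, ev_X D j⟩

theorem pow_le (n : ℕ) :
    (augI k A ^ n).restrictScalars k ≤ Mn D n ⊔ (augI k A ^ (n + 1)).restrictScalars k := by
  induction n with
  | zero =>
    intro a _
    have : a = algebraMap k A (Coalgebra.counit (R := k) a) +
        (a - algebraMap k A (Coalgebra.counit (R := k) a)) := by abel
    rw [this]
    refine Submodule.add_mem_sup ?_ ?_
    · refine ⟨C (Coalgebra.counit (R := k) a), isHomogeneous_C _ _, ?_⟩
      simp [ev]
    · show _ ∈ augI k A ^ (0 + 1)
      rw [zero_add, pow_one]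
      exact sub_counit_mem a
  | succ n ih =>
    intro y hy
    have hy' : y ∈ augI k A ^ (n + 1) := hy
    rw [pow_succ] at hy'
    refine Submodule.mul_induction_on hy' ?_ ?_
    · intro a ha b hb
      obtain ⟨m, hm, a', ha', rfl⟩ := Submodule.mem_sup.mp (ih ha)
      obtain ⟨m', hm', b', hb', rfl⟩ := Submodule.mem_sup.mp (augI_le D hb)
      have e : (m + a') * (m' + b') = m * m' + (m * b' + a' * (m' + b')) := by ring
      rw [e]
      refine Submodule.add_mem_sup ?_ ?_
      · rw [Mn_eq_pow D (n + 1), pow_succ, ← Mn_eq_pow]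
        exact Submodule.mul_mem_mul hm hm'
      · show _ ∈ augI k A ^ (n + 1 + 1)
        refine Ideal.add_mem _ ?_ ?_
        · have h1 : m ∈ augI k A ^ n := Mn_le D n hm
          have h2 : b' ∈ augI k A ^ 2 := hb'
          have : m * b' ∈ augI k A ^ n * augI k A ^ 2 := Ideal.mul_mem_mul h1 h2
          rwa [← pow_add] at this
        · have h1 : a' ∈ augI k A ^ (n + 1) := ha'
          have h2 : m' + b' ∈ augI k A := hb
          have : a' * (m' + b') ∈ augI k A ^ (n + 1) * augI k A := Ideal.mul_mem_mul h1 h2
          rwa [← pow_succ] at this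
    · intro x y hx hy
      exact Submodule.add_mem _ hx hy

/-- chain rule for a linear map satisfying the Leibniz rule -/
theorem chain_rule (Dv : A →ₗ[k] A) (hDv : ∀ a b, Dv (a * b) = a * Dv b + Dv a * b)
    (F : MvPolynomial (Fin D.r) k) :
    Dv (ev D F) = ∑ j, ev D (pderiv j F) * Dv (D.x j) := by
  classical
  have hD1 : Dv 1 = 0 := by
    have := hDv 1 1
    rw [mul_one, one_mul, mul_one] at this
    linear_combination -this
  induction F using MvPolynomial.induction_on with
  | C c =>
    have : ev D (C c) = c • (1 : A) := by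
      simp [ev, Algebra.algebraMap_eq_smul_one]
    rw [this, map_smul, hD1, smul_zero]
    simp [pderiv_C]
  | add p q hp hq =>
    simp only [map_add, hp, hq, add_mul, Finset.sum_add_distrib]
  | mul_X p i hp =>
    rw [map_mul, ev_X, hDv, hp]
    simp only [pderiv_mul, pderiv_X, map_add, map_mul, ev_X, add_mul]
    rw [Finset.sum_add_distrib, Finset.sum_mul]
    have : ∑ j, ev D p * ev D (Pi.single (M := fun _ => MvPolynomial (Fin D.r) k) j 1 i) * Dv (D.x j) =
        ev D p * Dv (D.x i) := by
      rw [Finset.sum_eq_single i]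
      · simp
      · intro j _ hji
        rw [Pi.single_eq_of_ne (Ne.symm hji)]
        simp
      · intro h; exact absurd (Finset.mem_univ i) h
    rw [this, add_comm]
    congr 1
    apply Finset.sum_congr rfl
    intro j _
    ring

/-- the key independence statement -/
theorem eq_zero_of_ev_mem (n : ℕ) (hn : (n.factorial : k) ≠ 0) (F : MvPolynomial (Fin D.r) k)
    (hF : F.IsHomogeneous n) (hev : ev D F ∈ augI k A ^ (n + 1)) : F = 0 := by
  classical
  induction n generalizing F with
  | zero =>
    have hF' : F = C (coeff 0 F) := by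
      rw [← homogeneousComponent_zero, homogeneousComponent_eq_self hF]
    rw [hF'] at hev ⊢
    rw [zero_add, pow_one, mem_augI] at hev
    have : Coalgebra.counit (R := k) (ev D (C (coeff 0 F))) = coeff 0 F := by
      have h1 : ev D (C (coeff 0 F)) = algebraMap k A (coeff 0 F) := by simp [ev]
      rw [h1]
      have := (Bialgebra.counitAlgHom k A).commutes (coeff 0 F)
      simpa using this
    rw [this] at hev
    rw [hev, map_zero]
  | succ n ih =>
    have hn' : (n.factorial : k) ≠ 0 := by
      intro h0
      apply hn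
      rw [Nat.factorial_succ, Nat.cast_mul, h0, mul_zero]
    have hn1 : ((n + 1 : ℕ) : k) ≠ 0 := by
      intro h0
      apply hn
      rw [Nat.factorial_succ, Nat.cast_mul, h0, zero_mul]
    have hG : ∀ i, pderiv i F = 0 := by
      intro i
      apply ih hn' _ (by simpa using hF.pderiv (i := i))
      have h1 : Dd (D.d i) (ev D F) ∈ augI k A ^ (n + 1) := Dd_mem_pow (D.hd i) (n + 1) hev
      rw [chain_rule D (Dd (D.d i)) (Dd_mul (D.hd i))] at h1
      -- split Dd (d i) (x j) = δ_ij + u_ij
      have hu : ∀ j, Dd (D.d i) (D.x j) - (if i = j then 1 else 0) ∈ augI k A := by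
        intro j
        rw [mem_augI, map_sub, counit_Dd, D.hdx]
        split_ifs <;> simp
      have hsum : ∑ j, ev D (pderiv j F) * Dd (D.d i) (D.x j) =
          ev D (pderiv i F) +
            ∑ j, ev D (pderiv j F) * (Dd (D.d i) (D.x j) - (if i = j then 1 else 0)) := by
        have : ∀ j, ev D (pderiv j F) * Dd (D.d i) (D.x j) =
            ev D (pderiv j F) * (if i = j then 1 else 0) +
            ev D (pderiv j F) * (Dd (D.d i) (D.x j) - (if i = j then 1 else 0)) := by
          intro j; ring
        rw [Finset.sum_congr rfl (fun j _ => this j), Finset.sum_add_distrib]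
        congr 1
        simp
      rw [hsum] at h1
      have h2 : ∑ j, ev D (pderiv j F) * (Dd (D.d i) (D.x j) - (if i = j then 1 else 0)) ∈
          augI k A ^ (n + 1) := by
        refine Ideal.sum_mem _ fun j _ => ?_
        rw [pow_succ]
        refine Ideal.mul_mem_mul ?_ (hu j)
        exact ev_mem_pow D (by simpa using hF.pderiv (i := j))
      have := Ideal.sub_mem _ h1 h2
      rwa [add_sub_cancel_right] at this
    have hE := hF.sum_X_mul_pderiv
    simp only [hG, mul_zero, Finset.sum_const_zero] at hE
    have h3 : ((n + 1 : ℕ) : k) • F = 0 := by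
      rw [Nat.cast_smul_eq_nsmul]
      exact hE.symm
    rcases smul_eq_zero.mp h3 with h | h
    · exact absurd h hn1
    · exact h

end Cartier

end Groth.Agent.Lib.Helper96
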