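import Groth.Agent.Lib.Helper96.CartierD

/-! Towards Cartier's theorem: nilpotent elements of a finitely generated commutative Hopf algebra
in characteristic zero lie in all powers of the augmentation ideal (helper96). -/

set_option autoImplicit false

open TensorProduct MvPolynomial
universe u v
namespace Groth.Agent.Lib.Helper96

namespace Cartier

theorem pow_sub_pow_mem {R : Type*} [CommRing R] (J : Ideal R) {x y : R} {n : ℕ} (hx : x ∈ J ^ n)
    (hy : y ∈ J ^ n) (hxy : x - y ∈ J ^ (n + 1)) (m : ℕ) : x ^ m - y ^ m ∈ J ^ (n * m + 1) := by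
  rcases Nat.eq_zero_or_pos m with rfl | hm
  · simp
  · rw [← (Commute.all x y).geom_sum₂_mul m]
    have hsum : ∑ i ∈ Finset.range m, x ^ i * y ^ (m - 1 - i) ∈ J ^ (n * (m - 1)) := by
      refine Ideal.sum_mem _ fun i hi => ?_
      have hi' : i < m := Finset.mem_range.mp hi
      have h1 : x ^ i ∈ J ^ (n * i) := by rw [pow_mul]; exact Ideal.pow_mem_pow hx i
      have h2 : y ^ (m - 1 - i) ∈ J ^ (n * (m - 1 - i)) := by
        rw [pow_mul]; exact Ideal.pow_mem_pow hy _
      have h3 := Ideal.mul_mem_mul h1 h2
      rw [← pow_add, ← Nat.mul_add] at h3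
      have : i + (m - 1 - i) = m - 1 := by omega
      rwa [this] at h3
    have h4 := Ideal.mul_mem_mul hsum hxy
    rw [← pow_add] at h4
    have : n * (m - 1) + (n + 1) = n * m + 1 := by
      have : m = (m - 1) + 1 := by omega
      conv_rhs => rw [this, Nat.mul_add, Nat.mul_one]
      ring
    rwa [this] at h4

variable {k : Type u} [Field k] [CharZero k] {A : Type v} [CommRing A] [Bialgebra k A]
variable (D : CotData k A)

include D in
/-- nilpotent elements lie in every power of the augmentation ideal -/
theorem mem_pow_of_isNilpotent {y : A} (hy : IsNilpotent y) (n : ℕ) : y ∈ augI k A ^ n := by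
  induction n with
  | zero => simp
  | succ n ih =>
    obtain ⟨m, ⟨F, hF, rfl⟩, y', hy', hsum⟩ := Submodule.mem_sup.mp (pow_le D n ih)
    have hy'' : y' ∈ augI k A ^ (n + 1) := hy'
    obtain ⟨N, hN⟩ := hy
    rw [AlgHom.toLinearMap_apply] at hsum
    -- (ev F)^N ∈ I^{nN+1}
    have hF' : ev D F ∈ augI k A ^ n := ev_mem_pow D hF
    have hsub : ev D F - y ∈ augI k A ^ (n + 1) := by
      rw [← hsum]
      have : ev D F - (ev D F + y') = -y' := by abel
      rw [this]
      exact Ideal.neg_mem_iff _ |>.mpr hy''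
    have h1 := pow_sub_pow_mem (augI k A) hF' ih hsub N
    rw [hN, sub_zero, ← map_pow] at h1
    have hFN : (F ^ N).IsHomogeneous (n * N) := hF.pow N
    have hzero := eq_zero_of_ev_mem D (n * N) (Nat.cast_ne_zero.mpr (Nat.factorial_ne_zero _))
      (F ^ N) hFN h1
    have hF0 : F = 0 := by
      rcases Nat.eq_zero_or_pos N with rfl | hNpos
      · rw [pow_zero] at hzero
        exact absurd hzero one_ne_zero
      · exact eq_zero_of_pow_eq_zero hzero
    rw [← hsum, hF0, map_zero, zero_add]
    exact hy''

include D in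
/-- Krull: a nilpotent element is killed by `1 - i` for some `i` in the augmentation ideal -/
theorem exists_mul_eq_self_of_isNilpotent [IsNoetherianRing A] {y : A} (hy : IsNilpotent y) :
    ∃ i ∈ augI k A, i * y = y := by
  have hmem : y ∈ (⨅ i : ℕ, augI k A ^ i • ⊤ : Submodule A A) := by
    rw [Submodule.mem_iInf]
    intro i
    have := mem_pow_of_isNilpotent D hy i
    rw [smul_eq_mul, ← Ideal.one_eq_top, mul_one]
    exact this
  obtain ⟨r, hr⟩ := (Ideal.mem_iInf_smul_pow_eq_bot_iff (augI k A) y).mp hmem
  exact ⟨r, r.2, hr⟩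

end Cartier

end Groth.Agent.Lib.Helper96
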