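import Groth.Agent.Lib.Helper96.CartierE
import Groth.Agent.Lib.Helper96.OrbitSep

/-! Cartier's theorem: finitely generated commutative Hopf algebras over a field of characteristic
zero are reduced (helper96). -/

set_option autoImplicit false

open TensorProduct
universe u v
namespace Groth.Agent.Lib.Helper96

namespace Cartier

section Translation
variable {k : Type u} [Field k] {A : Type v} [CommRing A] [HopfAlgebra k A]

/-- right translation by a point: `a ↦ Σ g(a₂) a₁` -/
noncomputable def trans (g : A →ₐ[k] k) : A →ₐ[k] A :=
  (Algebra.TensorProduct.rid k k A).toAlgHom.comp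
    ((Algebra.TensorProduct.map (AlgHom.id k A) g).comp (Bialgebra.comulAlgHom k A))

theorem trans_aux (g : A →ₐ[k] k) (y : A ⊗[k] A) :
    (Algebra.TensorProduct.rid k k A).toAlgHom (Algebra.TensorProduct.map (AlgHom.id k A) g y) =
      slice A g.toLinearMap y := by
  induction y using TensorProduct.induction_on with
  | zero => simp
  | add a b ha hb => rw [map_add, map_add, ha, hb, map_add]
  | tmul a b => simp

theorem trans_apply (g : A →ₐ[k] k) (a : A) :
    trans g a = slice A g.toLinearMap (Coalgebra.comul (R := k) a) := by
  unfold trans
  rw [AlgHom.comp_apply, AlgHom.comp_apply, trans_aux]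
  rfl

theorem counit_trans (g : A →ₐ[k] k) (a : A) :
    Coalgebra.counit (R := k) (trans g a) = g a := by
  rw [trans_apply]
  have h := Coalgebra.rTensor_counit_comul (R := k) a
  have key : ∀ y : A ⊗[k] A, Coalgebra.counit (R := k) (slice A g.toLinearMap y) =
      g (TensorProduct.lid k A ((Coalgebra.counit (R := k) (A := A)).rTensor A y)) := by
    intro y
    induction y using TensorProduct.induction_on with
    | zero => simp
    | add a b ha hb => simp only [map_add, ha, hb]
    | tmul a b => simp [mul_comm]
  rw [key, h]
  simp

theorem trans_trans (g h : A →ₐ[k] k) (a : A) :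
    trans h (trans g a) = slice A (convForm h.toLinearMap g.toLinearMap) (Coalgebra.comul (R := k) a) := by
  rw [trans_apply, trans_apply]
  exact slice_coact_slice (HopfRep.Comod.regular k A) g.toLinearMap h.toLinearMap a

/-- the inverse point -/
noncomputable def invPt (g : A →ₐ[k] k) : A →ₐ[k] k := g.comp (HopfAlgebra.antipodeAlgHom k A)

theorem convForm_invPt_left (g : A →ₐ[k] k) :
    convForm (invPt g).toLinearMap g.toLinearMap = Coalgebra.counit (R := k) (A := A) := by
  apply LinearMap.ext
  intro a
  unfold convForm
  simp only [LinearMap.comp_apply]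
  have key : ∀ y : A ⊗[k] A, LinearMap.mul' k k (TensorProduct.map (invPt g).toLinearMap g.toLinearMap y) =
      g (LinearMap.mul' k A ((HopfAlgebra.antipode k (A := A)).rTensor A y)) := by
    intro y
    induction y using TensorProduct.induction_on with
    | zero => simp
    | add a b ha hb => simp only [map_add, ha, hb]
    | tmul a b => simp [invPt]
  rw [key, HopfAlgebra.mul_antipode_rTensor_comul_apply]
  simp

theorem convForm_invPt_right (g : A →ₐ[k] k) :
    convForm g.toLinearMap (invPt g).toLinearMap = Coalgebra.counit (R := k) (A := A) := by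
  apply LinearMap.ext
  intro a
  unfold convForm
  simp only [LinearMap.comp_apply]
  have key : ∀ y : A ⊗[k] A, LinearMap.mul' k k (TensorProduct.map g.toLinearMap (invPt g).toLinearMap y) =
      g (LinearMap.mul' k A ((HopfAlgebra.antipode k (A := A)).lTensor A y)) := by
    intro y
    induction y using TensorProduct.induction_on with
    | zero => simp
    | add a b ha hb => simp only [map_add, ha, hb]
    | tmul a b => simp [invPt]
  rw [key, HopfAlgebra.mul_antipode_lTensor_comul_apply]
  simp

theorem trans_invPt_trans (g : A →ₐ[k] k) (a : A) : trans (invPt g) (trans g a) = a := by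
  rw [trans_trans, convForm_invPt_left]
  exact slice_counit_coact (HopfRep.Comod.regular k A) a

theorem trans_trans_invPt (g : A →ₐ[k] k) (a : A) : trans g (trans (invPt g) a) = a := by
  rw [trans_trans, convForm_invPt_right]
  exact slice_counit_coact (HopfRep.Comod.regular k A) a

end Translation

section Main
variable {k : Type u} [Field k] [CharZero k] {A : Type v} [CommRing A] [HopfAlgebra k A]
  [Algebra.FiniteType k A]

/-- Cartier's theorem over an algebraically closed field -/
theorem isReduced_of_isAlgClosed [IsAlgClosed k] : IsReduced A := by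
  haveI : IsNoetherianRing A := Algebra.FiniteType.isNoetherianRing k A
  haveI := finite_cotangent k A
  obtain ⟨D, -⟩ := exists_cotData k A
  constructor
  intro y hy
  by_contra hy0
  -- the annihilator of y is a proper ideal
  let Ann : Ideal A := LinearMap.ker (LinearMap.mulRight A y)
  have hAnn : ∀ s : A, s ∈ Ann ↔ s * y = 0 := by
    intro s
    rw [LinearMap.mem_ker, LinearMap.mulRight_apply]
  have hne : Ann ≠ ⊤ := by
    intro htop
    have : (1 : A) ∈ Ann := by rw [htop]; trivial
    rw [hAnn, one_mul] at this
    exact hy0 this
  obtain ⟨g, hg⟩ := OrbitSep.exists_algHom_of_ne_top (k := k) Ann hne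
  have hnil : IsNilpotent (trans g y) := hy.map (trans g)
  obtain ⟨i, hi, hiy⟩ := exists_mul_eq_self_of_isNilpotent D hnil
  -- transport back
  have h1 : trans (invPt g) i * y = y := by
    have := congrArg (trans (invPt g)) hiy
    rwa [map_mul, trans_invPt_trans] at this
  have h2 : (1 - trans (invPt g) i) ∈ Ann := by
    rw [hAnn, sub_mul, one_mul, h1, sub_self]
  have h3 := hg _ h2
  rw [map_sub, map_one] at h3
  have h4 : g (trans (invPt g) i) = 0 := by
    rw [← counit_trans g (trans (invPt g) i), trans_trans_invPt]
    exact mem_augI.mp hi
  rw [h4, sub_zero] at h3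
  exact one_ne_zero h3

end Main

end Cartier

end Groth.Agent.Lib.Helper96
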