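import Groth.Agent.Lib.Helper96.CoeffSimple

/-!
# Cosemisimple coalgebras
-/

set_option autoImplicit false

universe u v w w'

open TensorProduct

namespace Groth.Agent.Lib.Helper96

section CoeffSS

variable {k : Type u} [Field k] {C : Type v} [AddCommGroup C] [Module k C] [Coalgebra k C]
variable {V : Type w} [AddCommGroup V] [Module k V]
variable {W : Type w'} [AddCommGroup W] [Module k W]

theorem isSubcoalg_top : IsSubcoalg (⊤ : Submodule k C) := by
  intro b _
  have hs : Function.Surjective (TensorProduct.map (⊤ : Submodule k C).subtype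
      (⊤ : Submodule k C).subtype) :=
    TensorProduct.map_surjective (fun x => ⟨⟨x, Submodule.mem_top⟩, rfl⟩)
      (fun x => ⟨⟨x, Submodule.mem_top⟩, rfl⟩)
  exact LinearMap.mem_range.mpr (hs _)

/-- a comodule which is a sum of subcomodules each zero or minimal is semisimple -/
theorem isSS_of_sum_bot_or_minimal (c : HopfRep.Comod k C V) {ι : Type*}
    (S : ι → Submodule k V) (hS : ∀ i, S i = ⊥ ∨ IsMinSub c (S i)) (hsum : ⨆ i, S i = ⊤) :
    IsSS c := by
  apply isSS_of_sum_minimal c (fun i : {i // IsMinSub c (S i)} => S i.1) (fun i => i.2)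
  rw [eq_top_iff, ← hsum]
  apply iSup_le
  intro i
  rcases hS i with h0 | hm
  · rw [h0]
    exact bot_le
  · exact le_iSup (fun i : {i // IsMinSub c (S i)} => S i.1) ⟨i, hm⟩

/-- a comodule embedding into a semisimple comodule is semisimple -/
theorem isSS_of_injective_isHom {c : HopfRep.Comod k C V} {c' : HopfRep.Comod k C W}
    {f : V →ₗ[k] W} (hf : IsHom c c' f) (hinj : Function.Injective f) (hW : IsSS c') :
    IsSS c := by
  intro U hU
  obtain ⟨U', hU', hcompl⟩ := hW (U.map f) (isSub_map hf hU)
  refine ⟨U'.comap f, isSub_comap hf hU', ?_⟩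
  constructor
  · rw [disjoint_iff, eq_bot_iff]
    intro v hv
    obtain ⟨hv1, hv2⟩ := Submodule.mem_inf.mp hv
    have : f v ∈ U.map f ⊓ U' := Submodule.mem_inf.mpr ⟨Submodule.mem_map_of_mem hv1, hv2⟩
    rw [hcompl.inf_eq_bot, Submodule.mem_bot] at this
    rw [Submodule.mem_bot]
    exact hinj (by rw [this, map_zero])
  · rw [codisjoint_iff, eq_top_iff]
    intro v _
    have : f v ∈ U.map f ⊔ U' := by
      rw [hcompl.sup_eq_top]
      exact Submodule.mem_top
    obtain ⟨a, ha, b, hb, hab⟩ := Submodule.mem_sup.mp this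
    obtain ⟨u, hu, rfl⟩ := ha
    rw [Submodule.mem_sup]
    refine ⟨u, hu, v - u, ?_, by abel⟩
    rw [Submodule.mem_comap, map_sub, ← hab]
    simpa using hb

/-- the insertion `x ↦ v ⊗ x` is a comodule map from the regular to the cofree comodule -/
theorem isHom_mk (v : V) :
    IsHom (HopfRep.Comod.regular k C) (indComod k C V) (TensorProduct.mk k V C v) := by
  apply LinearMap.ext
  intro x
  show (indComod k C V).coact (v ⊗ₜ[k] x) =
    (TensorProduct.mk k V C v).rTensor C (CoalgebraStruct.comul (R := k) x)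
  rw [indComod_coact_tmul]
  generalize Coalgebra.comul (R := k) x = z
  induction z using TensorProduct.induction_on with
  | zero => simp
  | add a b ha hb => rw [TensorProduct.tmul_add, map_add, map_add, ha, hb]
  | tmul a b => simp

/-- if the regular comodule is a sum of minimal subcomodules then so is every cofree comodule -/
theorem isSS_indComod
    (h : (⨆ M : {M : Submodule k C // IsMinSub (HopfRep.Comod.regular k C) M},
      (M.1 : Submodule k C)) = ⊤) : IsSS (indComod k C V) := by
  apply isSS_of_sum_bot_or_minimal (indComod k C V)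
    (fun p : V × {M : Submodule k C // IsMinSub (HopfRep.Comod.regular k C) M} =>
      p.2.1.map (TensorProduct.mk k V C p.1))
    (fun p => map_eq_bot_or_isMinSub p.2.2 (isHom_mk p.1))
  rw [eq_top_iff, ← TensorProduct.span_tmul_eq_top, Submodule.span_le]
  rintro _ ⟨v, x, rfl⟩
  have hx : x ∈ (⨆ M : {M : Submodule k C // IsMinSub (HopfRep.Comod.regular k C) M},
      (M.1 : Submodule k C)) := by
    rw [h]
    exact Submodule.mem_top
  have h2 : TensorProduct.mk k V C v x ∈ (⨆ M : {M : Submodule k C //
      IsMinSub (HopfRep.Comod.regular k C) M}, (M.1 : Submodule k C)).map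
      (TensorProduct.mk k V C v) := Submodule.mem_map_of_mem hx
  rw [Submodule.map_iSup] at h2
  revert h2
  apply SetLike.le_def.mp
  apply iSup_le
  intro M
  exact le_iSup (fun p : V × {M : Submodule k C // IsMinSub (HopfRep.Comod.regular k C) M} =>
      p.2.1.map (TensorProduct.mk k V C p.1)) (v, M)

theorem coact_injective (c : HopfRep.Comod k C V) : Function.Injective c.coact := by
  intro v v' h
  rw [← slice_counit_coact c v, ← slice_counit_coact c v', h]

/-- if the regular comodule is a sum of minimal subcomodules, every comodule is semisimple -/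
theorem isSS_of_regular_sum_minimal
    (h : (⨆ M : {M : Submodule k C // IsMinSub (HopfRep.Comod.regular k C) M},
      (M.1 : Submodule k C)) = ⊤) (c : HopfRep.Comod k C V) : IsSS c := by
  have hhom : IsHom c (indComod k C V) c.coact := by
    have := isHom_frobLift c (LinearMap.id : V →ₗ[k] V)
    have h2 : frobLift c (LinearMap.id : V →ₗ[k] V) = c.coact := by
      apply LinearMap.ext
      intro v
      rw [frobLift_apply, LinearMap.rTensor_id, LinearMap.id_apply]
    rwa [h2] at this
  exact isSS_of_injective_isHom hhom (coact_injective c) (isSS_indComod h)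

/-- distinct simple subcoalgebras are independent -/
theorem iSupIndep_of_isSimpleSubcoalg {ι : Type*} (D : ι → Submodule k C)
    (hD : ∀ i, IsSimpleSubcoalg (D i)) (hinj : Function.Injective D) : iSupIndep D := by
  classical
  choose E hE hED hcf using fun i => exists_isMinSub_cf_eq (D i) (hD i)
  intro i
  rw [disjoint_iff]
  by_contra hne
  have hXsub : IsSub (HopfRep.Comod.regular k C) (D i ⊓ ⨆ j, ⨆ (_ : j ≠ i), D j) :=
    isSub_inf _ (isSub_of_isSubcoalg _ (hD i).2.1)
      (isSub_iSup _ fun j => isSub_iSup _ fun _ => isSub_of_isSubcoalg _ (hD j).2.1)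
  obtain ⟨M, hMX, -, hM⟩ := exists_isMinSub_le (HopfRep.Comod.regular k C) hXsub hne
  have hM1 : M ≤ D i := hMX.trans inf_le_left
  have hM2 : M ≤ ⨆ j, ⨆ (_ : j ≠ i), D j := hMX.trans inf_le_right
  have hcfM : cf (ComodSub.Comod.restr (HopfRep.Comod.regular k C) M hM.1) = D i := by
    have hle := cf_restr_le M hM.1 (D i) (hD i).2.1 hM1
    have : Nontrivial M := (Submodule.nontrivial_iff_ne_bot).mpr hM.2.1
    rcases (hD i).2.2 _ hle (isSubcoalg_cf _) with h0 | h1
    · exact absurd h0 (cf_ne_bot _)
    · exact h1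
  have hs := isSimple_restr_of_isMinSub _ hM
  have hsub := ComodSub.isComodHom_subtype (HopfRep.Comod.regular k C) M hM.1
  have hne' : M.subtype ≠ 0 := by
    intro h0
    apply hM.2.1
    rw [← Submodule.range_subtype M, h0, LinearMap.range_zero]
  have hle' : LinearMap.range M.subtype ≤
      ⨆ p : (Σ j : {j // j ≠ i}, Module.Dual k (E j.1)),
        LinearMap.range (cfMap (ComodSub.Comod.restr (HopfRep.Comod.regular k C) (E p.1.1)
          (hE p.1.1).1) p.2) := by
    rw [Submodule.range_subtype]
    refine hM2.trans ?_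
    apply iSup_le
    intro j
    apply iSup_le
    intro hj
    rw [← hcf j, cf_eq_iSup_range]
    apply iSup_le
    intro φ
    exact le_iSup (fun p : (Σ j : {j // j ≠ i}, Module.Dual k (E j.1)) =>
      LinearMap.range (cfMap (ComodSub.Comod.restr (HopfRep.Comod.regular k C) (E p.1.1)
          (hE p.1.1).1) p.2)) ⟨⟨j, hj⟩, φ⟩
  obtain ⟨p, e, he⟩ := exists_iso_of_le_iSup
    (fun p : (Σ j : {j // j ≠ i}, Module.Dual k (E j.1)) => ↥(E p.1.1))
    (fun p => ComodSub.Comod.restr (HopfRep.Comod.regular k C) (E p.1.1) (hE p.1.1).1)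
    (fun p => isSimple_restr_of_isMinSub _ (hE p.1.1)) M
    (ComodSub.Comod.restr (HopfRep.Comod.regular k C) M hM.1) hs C
    (HopfRep.Comod.regular k C) (fun p => cfMap _ p.2) (fun p => isHom_cfMap _ p.2)
    M.subtype hsub hne' hle'
  have h3 := cf_eq_of_equiv _ _ e he
  rw [hcfM, hcf] at h3
  exact p.1.2 (hinj h3).symm

/-- if the regular comodule is semisimple, the coalgebra is the direct sum of its simple
subcoalgebras -/
theorem exists_decomp_of_isSS_regular (h : IsSS (HopfRep.Comod.regular k C)) :
    ∃ (ι : Type v) (D : ι → Submodule k C), iSupIndep D ∧ iSup D = ⊤ ∧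
      ∀ i, IsSimpleSubcoalg (D i) := by
  refine ⟨{D : Submodule k C // IsSimpleSubcoalg D}, Subtype.val,
    iSupIndep_of_isSimpleSubcoalg _ (fun D => D.2) Subtype.val_injective, ?_, fun D => D.2⟩
  rw [eq_top_iff, ← iSup_isMinSub_eq_top _ h]
  apply iSup_le
  intro M
  have hs := isSimple_restr_of_isMinSub _ M.2
  exact (le_cf_restr M.1 M.2.1).trans
    (le_iSup (fun D : {D : Submodule k C // IsSimpleSubcoalg D} => (D.1 : Submodule k C))
      ⟨_, isSimpleSubcoalg_cf _ hs⟩)

/-- a simple coalgebra is isotypic as a regular comodule -/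
theorem exists_isotypic_of_simple (hC : IsSimpleSubcoalg (⊤ : Submodule k C)) :
    ∃ (E : Submodule k C) (hE : IsMinSub (HopfRep.Comod.regular k C) E) (ι : Type v)
      (f : ι → (E →ₗ[k] C)),
      (∀ i, IsHom (ComodSub.Comod.restr (HopfRep.Comod.regular k C) E hE.1)
        (HopfRep.Comod.regular k C) (f i) ∧ Function.Injective (f i)) ∧
      iSupIndep (fun i => LinearMap.range (f i)) ∧ (⨆ i, LinearMap.range (f i)) = ⊤ := by
  obtain ⟨E, hE, -, hcf⟩ := exists_isMinSub_cf_eq ⊤ hC
  have hs := isSimple_restr_of_isMinSub _ hE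
  let S : Type v := {S : Submodule k C // ∃ φ : Module.Dual k E,
    Function.Injective (cfMap (ComodSub.Comod.restr (HopfRep.Comod.regular k C) E hE.1) φ) ∧
    LinearMap.range (cfMap (ComodSub.Comod.restr (HopfRep.Comod.regular k C) E hE.1) φ) = S}
  have hmin : ∀ T : S, IsMinSub (HopfRep.Comod.regular k C) (T.1 : Submodule k C) := by
    rintro ⟨T, φ, hinj, rfl⟩
    exact isMinSub_range_of_injective hs (isHom_cfMap _ φ) hinj
  have hsum : (⨆ T : S, (T.1 : Submodule k C)) = ⊤ := by
    rw [eq_top_iff, ← hcf, cf_eq_iSup_range]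
    apply iSup_le
    intro φ
    rcases eq_zero_or_injective_of_isSimple hs (isHom_cfMap _ φ) with h0 | hinj
    · rw [h0, LinearMap.range_zero]
      exact bot_le
    · exact le_iSup (fun T : S => (T.1 : Submodule k C)) ⟨_, φ, hinj, rfl⟩
  obtain ⟨J, hind, hcompl⟩ := exists_isCompl_iSup_of_sum_minimal (HopfRep.Comod.regular k C)
    (fun T : S => (T.1 : Submodule k C)) hmin hsum ⊥ (isSub_bot _)
  choose φ hφinj hφr using fun T : S => T.2
  refine ⟨E, hE, ↥J, fun j => cfMap _ (φ j.1), fun j => ⟨isHom_cfMap _ _, hφinj j.1⟩, ?_, ?_⟩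
  · have h1 : (fun j : J => LinearMap.range
        (cfMap (ComodSub.Comod.restr (HopfRep.Comod.regular k C) E hE.1) (φ j.1))) =
        fun j : J => (j.1.1 : Submodule k C) := funext fun j => hφr j.1
    rw [h1]
    exact hind
  · have h1 : (fun j : J => LinearMap.range
        (cfMap (ComodSub.Comod.restr (HopfRep.Comod.regular k C) E hE.1) (φ j.1))) =
        fun j : J => (j.1.1 : Submodule k C) := funext fun j => hφr j.1
    have h2 := hcompl.sup_eq_top
    rw [bot_sup_eq] at h2
    rw [← h2]
    exact congrArg iSup h1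

/-- a coalgebra whose regular comodule is a sum of images of one simple comodule is simple -/
theorem eq_top_of_isotypic (cE : HopfRep.Comod k C V)
    (hE : @HopfRep.IsSimpleComod k C _ _ _ _ V _ _ cE) {ι : Type*} (f : ι → V →ₗ[k] C)
    (hf : ∀ i, IsHom cE (HopfRep.Comod.regular k C) (f i))
    (htop : (⨆ i, LinearMap.range (f i)) = ⊤)
    (B : Submodule k C) (hB : IsSubcoalg B) (hne : B ≠ ⊥) : B = ⊤ := by
  obtain ⟨M, hMB, -, hM⟩ := exists_isMinSub_le (HopfRep.Comod.regular k C)
    (isSub_of_isSubcoalg B hB) hne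
  have hs := isSimple_restr_of_isMinSub _ hM
  have hsub := ComodSub.isComodHom_subtype (HopfRep.Comod.regular k C) M hM.1
  have hne' : M.subtype ≠ 0 := by
    intro h0
    apply hM.2.1
    rw [← Submodule.range_subtype M, h0, LinearMap.range_zero]
  have hle' : LinearMap.range M.subtype ≤ ⨆ i, LinearMap.range (f i) := by
    rw [htop]
    exact le_top
  obtain ⟨i, e, he⟩ := exists_iso_of_le_iSup (fun _ : ι => V) (fun _ => cE)
    (fun _ => hE) M (ComodSub.Comod.restr (HopfRep.Comod.regular k C) M hM.1) hs C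
    (HopfRep.Comod.regular k C) f hf M.subtype hsub hne' hle'
  have hj : IsHom cE (HopfRep.Comod.regular k C) (M.subtype ∘ₗ e.symm.toLinearMap) :=
    isHom_comp (isHom_symm e he) hsub
  have hcfB : cf cE ≤ B := by
    apply cf_le_of_injective_isHom cE _ hj (M.injective_subtype.comp e.symm.injective) B hB
    rw [LinearMap.range_comp, LinearEquiv.range, Submodule.map_top, Submodule.range_subtype]
    exact hMB
  rw [eq_top_iff, ← htop]
  apply iSup_le
  intro i
  exact (range_le_cf_of_isHom cE (f i) (hf i)).trans hcfB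

end CoeffSS

end Groth.Agent.Lib.Helper96
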