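import Mathlib
import Groth.Agent.Lib.Helper96.TKP
import Groth.Agent.Lib.Helper96.CartierG
import Groth.Prelude.Def_HopfRep

set_option autoImplicit false
open scoped TensorProduct

namespace Groth.Agent.Lib.Helper96.PtsSep
open Groth.Agent.Lib.Helper66.SubBialg Groth.Agent.Lib.Helper66.TK7 Groth.Agent.Lib.Helper66.TK10

universe u v w

section Null
variable {k : Type u} [Field k] [IsAlgClosed k]

/-- Nullstellensatz: over an algebraically closed field, every maximal ideal of a finitely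
generated algebra is the kernel of a rational point. -/
theorem exists_point_of_isMaximal {D : Type*} [CommRing D] [Algebra k D] [Algebra.FiniteType k D]
    (m : Ideal D) [hm : m.IsMaximal] : ∃ h : D →ₐ[k] k, RingHom.ker h = m := by
  let _ : Field (D ⧸ m) := Ideal.Quotient.field m
  have hft : Algebra.FiniteType k (D ⧸ m) :=
    Algebra.FiniteType.of_surjective (Ideal.Quotient.mkₐ k m) (Ideal.Quotient.mkₐ_surjective k m)
  have hfin : Module.Finite k (D ⧸ m) := finite_of_finite_type_of_isJacobsonRing k (D ⧸ m)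
  have hint : Algebra.IsIntegral k (D ⧸ m) := inferInstance
  have hbij : Function.Bijective (algebraMap k (D ⧸ m)) :=
    IsAlgClosed.algebraMap_bijective_of_isIntegral
  let e : k ≃ₐ[k] (D ⧸ m) := AlgEquiv.ofBijective (Algebra.ofId k (D ⧸ m)) hbij
  refine ⟨(e.symm : (D ⧸ m) →ₐ[k] k).comp (Ideal.Quotient.mkₐ k m), ?_⟩
  ext x
  rw [RingHom.mem_ker]
  show e.symm (Ideal.Quotient.mk m x) = 0 ↔ x ∈ m
  rw [EmbeddingLike.map_eq_zero_iff, Ideal.Quotient.eq_zero_iff_mem]

theorem exists_point {D : Type*} [CommRing D] [Algebra k D] [Algebra.FiniteType k D]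
    [Nontrivial D] : Nonempty (D →ₐ[k] k) := by
  obtain ⟨m, hm⟩ := Ideal.exists_maximal D
  obtain ⟨h, -⟩ := exists_point_of_isMaximal (k := k) m
  exact ⟨h⟩

theorem exists_point_ne_zero {D : Type*} [CommRing D] [Algebra k D] [Algebra.FiniteType k D]
    [IsReduced D] (a : D) (ha : a ≠ 0) : ∃ h : D →ₐ[k] k, h a ≠ 0 := by
  have hJ : IsJacobsonRing D := isJacobsonRing_of_finiteType (A := k)
  have hrad : (⊥ : Ideal D).IsRadical := by
    rw [← Ideal.radical_eq_iff]
    exact nilradical_eq_zero D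
  have hjac : (⊥ : Ideal D).jacobson = ⊥ := hJ.out hrad
  have hna : a ∉ (⊥ : Ideal D).jacobson := by
    rw [hjac]
    simpa using ha
  rw [Ideal.jacobson, Ideal.mem_sInf] at hna
  push Not at hna
  obtain ⟨m, ⟨-, hm⟩, ham⟩ := hna
  obtain ⟨h, hh⟩ := exists_point_of_isMaximal (k := k) m
  refine ⟨h, fun h0 => ham ?_⟩
  rw [← hh]
  exact h0

end Null

section Ext
variable {k : Type u} [Field k] {A : Type v} [CommRing A] [HopfAlgebra k A]

/-- one extension step: a rational point of a Hopf subalgebra extends to a larger Hopf subalgebra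
containing a given element -/
theorem extend_step [IsAlgClosed k] (B : Subalgebra k A) (hB : IsHS B) (g : B →ₐ[k] k) (x : A) :
    ∃ (B' : Subalgebra k A) (hle : B ≤ B') (g' : B' →ₐ[k] k), IsHS B' ∧ x ∈ B' ∧
      ∀ b : B, g' (Subalgebra.inclusion hle b) = g b := by
  obtain ⟨A₁, hx, hfg, hA₁⟩ := TKP.exists_fg_isHS (k := k) (A := A) x
  let B' : Subalgebra k A := B ⊔ A₁
  have hle : B ≤ B' := le_sup_left
  have hle₁ : A₁ ≤ B' := le_sup_right
  have hB' : IsHS B' := isHS_sup hB hA₁
  have hff : Module.FaithfullyFlat B A := TKP.faithfullyFlat_sub B hB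
  let 𝔪 : Ideal B := RingHom.ker g
  let I : Ideal B' := Ideal.map (Subalgebra.inclusion hle : B →+* B') 𝔪
  have hI : I ≠ ⊤ := by
    intro htop
    have h1 : Ideal.map (algebraMap B A) 𝔪 = ⊤ := by
      have h2 : Ideal.map (B'.val : B' →+* A) I = ⊤ := by
        rw [htop, Ideal.map_top]
      rw [Ideal.map_map] at h2
      exact h2
    have h3 := Ideal.comap_map_eq_self_of_faithfullyFlat (B := A) 𝔪
    rw [h1, Ideal.comap_top] at h3
    have h4 : (1 : B) ∈ 𝔪 := by
      rw [← h3]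
      exact Submodule.mem_top
    have h5 : g 1 = 0 := h4
    rw [map_one] at h5
    exact one_ne_zero h5
  have hnt : Nontrivial (B' ⧸ I) := Ideal.Quotient.nontrivial_iff.mpr hI
  have hft₁ : Algebra.FiniteType k A₁ := (Subalgebra.fg_iff_finiteType A₁).mp hfg
  let f : A₁ →ₐ[k] (B' ⧸ I) := (Ideal.Quotient.mkₐ k I).comp (Subalgebra.inclusion hle₁)
  have hBmk : ∀ b : B, Ideal.Quotient.mk I (Subalgebra.inclusion hle b) =
      algebraMap k (B' ⧸ I) (g b) := by
    intro b
    have h1 : b - algebraMap k B (g b) ∈ 𝔪 := by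
      show g (b - algebraMap k B (g b)) = 0
      rw [map_sub, AlgHom.commutes]
      simp
    have h2 : (Subalgebra.inclusion hle : B →+* B') (b - algebraMap k B (g b)) ∈ I :=
      Ideal.mem_map_of_mem _ h1
    rw [map_sub] at h2
    have h3 : Ideal.Quotient.mk I (Subalgebra.inclusion hle b) =
        Ideal.Quotient.mk I (Subalgebra.inclusion hle (algebraMap k B (g b))) :=
      (Ideal.Quotient.eq (I := I)).mpr h2
    rw [h3, AlgHom.commutes]
    rfl
  have hsurj : Function.Surjective f := by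
    let T : Subalgebra k B' := f.range.comap (Ideal.Quotient.mkₐ k I)
    have hT : B' ≤ T.map B'.val := by
      apply sup_le
      · intro b hb
        refine ⟨Subalgebra.inclusion hle ⟨b, hb⟩, ?_, rfl⟩
        show Ideal.Quotient.mk I (Subalgebra.inclusion hle ⟨b, hb⟩) ∈ f.range
        rw [hBmk]
        exact Subalgebra.algebraMap_mem _ _
      · intro a ha
        refine ⟨Subalgebra.inclusion hle₁ ⟨a, ha⟩, ?_, rfl⟩
        exact ⟨⟨a, ha⟩, rfl⟩
    intro d
    obtain ⟨b', rfl⟩ := Ideal.Quotient.mk_surjective d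
    obtain ⟨t, ht, hte⟩ := hT b'.2
    have : t = b' := Subtype.val_injective hte
    subst this
    exact ht
  have hftD : Algebra.FiniteType k (B' ⧸ I) := Algebra.FiniteType.of_surjective f hsurj
  obtain ⟨h⟩ := exists_point (k := k) (D := B' ⧸ I)
  refine ⟨B', hle, h.comp (Ideal.Quotient.mkₐ k I), hB', hle₁ hx, fun b => ?_⟩
  show h (Ideal.Quotient.mk I (Subalgebra.inclusion hle b)) = g b
  rw [hBmk, AlgHom.commutes]
  rfl

/-- the graph subalgebra of a partial point -/
noncomputable def graph (B : Subalgebra k A) (g : B →ₐ[k] k) : Subalgebra k (A × k) :=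
  (AlgHom.prod B.val g).range

theorem mem_graph {B : Subalgebra k A} {g : B →ₐ[k] k} {y : A × k} :
    y ∈ graph B g ↔ ∃ b : B, (b : A) = y.1 ∧ g b = y.2 := by
  constructor
  · rintro ⟨b, rfl⟩
    exact ⟨b, rfl, rfl⟩
  · rintro ⟨b, h1, h2⟩
    exact ⟨b, Prod.ext h1 h2⟩

theorem graph_zero {B : Subalgebra k A} {g : B →ₐ[k] k} (c : k) (h : ((0 : A), c) ∈ graph B g) :
    c = 0 := by
  obtain ⟨b, h1, h2⟩ := mem_graph.mp h
  have hb : b = 0 := Subtype.val_injective h1
  have h2' : g b = c := h2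
  rw [← h2', hb, map_zero]

theorem map_fst_graph (B : Subalgebra k A) (g : B →ₐ[k] k) :
    (graph B g).map (AlgHom.fst k A k) = B := by
  ext a
  constructor
  · rintro ⟨y, hy, rfl⟩
    obtain ⟨b, h1, -⟩ := mem_graph.mp hy
    rw [AlgHom.coe_toRingHom, AlgHom.fst_apply, ← h1]
    exact b.2
  · intro ha
    exact ⟨(a, g ⟨a, ha⟩), mem_graph.mpr ⟨⟨a, ha⟩, rfl, rfl⟩, rfl⟩

/-- a subalgebra of `A × k` which is a graph over its projection defines a partial point -/
theorem exists_eq_graph (Γ : Subalgebra k (A × k)) (h0 : ∀ c : k, ((0 : A), c) ∈ Γ → c = 0) :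
    ∃ g : (Γ.map (AlgHom.fst k A k) : Subalgebra k A) →ₐ[k] k,
      Γ = graph (Γ.map (AlgHom.fst k A k)) g := by
  let π : Γ →ₐ[k] A := (AlgHom.fst k A k).comp Γ.val
  have hπ : Function.Injective π := by
    rw [injective_iff_map_eq_zero]
    intro y hy
    have h1 : (y : A × k).1 = 0 := hy
    have h2 : (y : A × k) = (0, (y : A × k).2) := Prod.ext h1 rfl
    have h3 : (y : A × k).2 = 0 := h0 _ (h2 ▸ y.2)
    exact Subtype.val_injective (Prod.ext h1 h3)
  have hrange : π.range = Γ.map (AlgHom.fst k A k) := Subalgebra.range_comp_val _ _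
  let e : Γ ≃ₐ[k] π.range := AlgEquiv.ofInjective π hπ
  let g₁ : π.range →ₐ[k] k := ((AlgHom.snd k A k).comp Γ.val).comp (e.symm : π.range →ₐ[k] Γ)
  have hg₁ : ∀ y : Γ, g₁ (e y) = (y : A × k).2 := by
    intro y
    show (AlgHom.snd k A k) (Γ.val (e.symm (e y))) = _
    rw [AlgEquiv.symm_apply_apply]
    rfl
  have key : ∃ g : π.range →ₐ[k] k, Γ = graph π.range g := by
    refine ⟨g₁, ?_⟩
    ext y
    rw [mem_graph]
    constructor
    · intro hy
      exact ⟨e ⟨y, hy⟩, rfl, hg₁ ⟨y, hy⟩⟩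
    · rintro ⟨b, h1, h2⟩
      have h3 : (b : A) = ((e (e.symm b) : π.range) : A) := by rw [AlgEquiv.apply_symm_apply]
      have h4 : ((e.symm b : Γ) : A × k).1 = y.1 := by
        rw [← h1, h3]
        rfl
      have h5 : ((e.symm b : Γ) : A × k).2 = y.2 := by
        rw [← h2, ← hg₁, AlgEquiv.apply_symm_apply]
      have h6 : ((e.symm b : Γ) : A × k) = y := Prod.ext h4 h5
      rw [← h6]
      exact (e.symm b).2
  rw [hrange] at key
  exact key

/-- **extension of rational points**: over an algebraically closed field, a rational point of a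
Hopf subalgebra extends to the whole Hopf algebra -/
theorem exists_extend_point [IsAlgClosed k] (A₀ : Subalgebra k A) (h₀ : IsHS A₀) (g₀ : A₀ →ₐ[k] k) :
    ∃ g : A →ₐ[k] k, ∀ a : A₀, g a = g₀ a := by
  let S : Set (Subalgebra k (A × k)) :=
    {Γ | graph A₀ g₀ ≤ Γ ∧ (∀ c : k, ((0 : A), c) ∈ Γ → c = 0) ∧
      IsHS (Γ.map (AlgHom.fst k A k))}
  have hS₀ : graph A₀ g₀ ∈ S := ⟨le_rfl, fun c hc => graph_zero c hc, by
    rw [map_fst_graph]; exact h₀⟩
  have hchain : ∀ c ⊆ S, IsChain (· ≤ ·) c → ∀ y ∈ c, ∃ ub ∈ S, ∀ z ∈ c, z ≤ ub := by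
    intro c hcS hc y hy
    have hne : Nonempty c := ⟨⟨y, hy⟩⟩
    have hdir : Directed (· ≤ ·) (fun i : c => (i : Subalgebra k (A × k))) :=
      hc.directedOn.directed_val
    have hmem : ∀ z : A × k, z ∈ sSup c ↔ ∃ Γ ∈ c, z ∈ Γ := by
      intro z
      rw [sSup_eq_iSup', ← SetLike.mem_coe, Subalgebra.coe_iSup_of_directed hdir]
      simp
    refine ⟨sSup c, ⟨?_, ?_, ?_, ?_⟩, fun z hz => le_sSup hz⟩
    · exact (hcS hy).1.trans (le_sSup hy)
    · intro c' hc'
      obtain ⟨Γ, hΓ, hz⟩ := (hmem _).mp hc'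
      exact (hcS hΓ).2.1 c' hz
    · rintro _ ⟨z, hz, rfl⟩
      obtain ⟨Γ, hΓ, hzΓ⟩ := (hmem _).mp hz
      have h1 := (hcS hΓ).2.2.1 _ ⟨z, hzΓ, rfl⟩
      exact jmap_range_mono (Subalgebra.map_mono (le_sSup hΓ)) h1
    · rintro _ ⟨z, hz, rfl⟩
      obtain ⟨Γ, hΓ, hzΓ⟩ := (hmem _).mp hz
      have h1 := (hcS hΓ).2.2.2 _ ⟨z, hzΓ, rfl⟩
      exact Subalgebra.map_mono (le_sSup hΓ) h1
  obtain ⟨m, hm₀, hmax⟩ := zorn_le_nonempty₀ S hchain _ hS₀
  obtain ⟨hmS, hmmax⟩ := hmax
  obtain ⟨g, hg⟩ := exists_eq_graph m hmS.2.1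
  let B : Subalgebra k A := m.map (AlgHom.fst k A k)
  have hB : IsHS B := hmS.2.2
  have htop : ∀ x : A, x ∈ B := by
    intro x
    obtain ⟨B', hle, g', hB', hx, hext⟩ := extend_step B hB g x
    have hS' : graph B' g' ∈ S := by
      refine ⟨?_, fun c hc => graph_zero c hc, by rw [map_fst_graph]; exact hB'⟩
      refine hm₀.trans ?_
      rw [hg]
      intro y hy
      obtain ⟨b, h1, h2⟩ := mem_graph.mp hy
      exact mem_graph.mpr ⟨Subalgebra.inclusion hle b, h1, (hext b).trans h2⟩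
    have hle' : m ≤ graph B' g' := by
      rw [hg]
      intro y hy
      obtain ⟨b, h1, h2⟩ := mem_graph.mp hy
      exact mem_graph.mpr ⟨Subalgebra.inclusion hle b, h1, (hext b).trans h2⟩
    have hge : graph B' g' ≤ m := hmmax hS' hle'
    have h1 : (x, g' ⟨x, hx⟩) ∈ graph B' g' := mem_graph.mpr ⟨⟨x, hx⟩, rfl, rfl⟩
    exact ⟨_, hge h1, rfl⟩
  let G : A →ₐ[k] k := g.comp (AlgHom.codRestrict (AlgHom.id k A) B htop)
  refine ⟨G, fun a => ?_⟩
  have h1 : ((a : A), g₀ a) ∈ m := hm₀ (mem_graph.mpr ⟨a, rfl, rfl⟩)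
  rw [hg] at h1
  obtain ⟨b, h2, h3⟩ := mem_graph.mp h1
  show g (AlgHom.codRestrict (AlgHom.id k A) B htop (a : A)) = g₀ a
  have h4 : AlgHom.codRestrict (AlgHom.id k A) B htop (a : A) = b :=
    Subtype.val_injective h2.symm
  rw [h4]
  exact h3

end Ext

section Sep
variable {k : Type u} [Field k] [IsAlgClosed k] [CharZero k] {A : Type v} [CommRing A]
  [HopfAlgebra k A]

/-- in characteristic zero over an algebraically closed field, rational points separate the
elements of a commutative Hopf algebra (of any size) -/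
theorem exists_point_apply_ne_zero (a : A) (ha : a ≠ 0) : ∃ g : A →ₐ[k] k, g a ≠ 0 := by
  obtain ⟨A₀, hx, hfg, hA₀⟩ := TKP.exists_fg_isHS (k := k) (A := A) a
  let _ : HopfAlgebra k A₀ := hopfAlgebraOfSub A₀ hA₀.1 hA₀.2
  have hft : Algebra.FiniteType k A₀ := (Subalgebra.fg_iff_finiteType A₀).mp hfg
  have hred : IsReduced A₀ := Cartier.isReduced k A₀
  have ha₀ : (⟨a, hx⟩ : A₀) ≠ 0 := fun h => ha (congrArg Subtype.val h)
  obtain ⟨g₀, hg₀⟩ := exists_point_ne_zero (k := k) (⟨a, hx⟩ : A₀) ha₀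
  obtain ⟨g, hg⟩ := exists_extend_point A₀ hA₀ g₀
  refine ⟨g, ?_⟩
  have h1 : g a = g₀ ⟨a, hx⟩ := hg ⟨a, hx⟩
  rw [h1]
  exact hg₀

/-- a tensor `t ∈ U ⊗ A` all of whose specialisations at rational points vanish is zero -/
theorem tensor_eq_zero_of_points {U : Type w} [AddCommGroup U] [Module k U] (t : U ⊗[k] A)
    (h : ∀ g : A →ₐ[k] k,
      (TensorProduct.rid k U) (LinearMap.lTensor U g.toLinearMap t) = 0) : t = 0 := by
  classical
  let b := Module.Basis.ofVectorSpace k U
  let e := TensorProduct.equivFinsuppOfBasisLeft (N := A) b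
  apply e.injective
  rw [map_zero]
  ext i
  rw [Finsupp.zero_apply]
  by_contra hne
  obtain ⟨g, hg⟩ := exists_point_apply_ne_zero (k := k) (e t i) hne
  apply hg
  have key : ∀ t : U ⊗[k] A, g (e t i) =
      b.repr ((TensorProduct.rid k U) (LinearMap.lTensor U g.toLinearMap t)) i := by
    intro t
    induction t using TensorProduct.induction_on with
    | zero => simp
    | tmul u a =>
      rw [TensorProduct.equivFinsuppOfBasisLeft_apply_tmul_apply]
      simp [mul_comm]
    | add x y hx hy =>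
      simp only [map_add, Finsupp.add_apply, hx, hy]
  rw [key, h g]
  simp

/-- **S14539**: a subspace stable under all rational points is a subcomodule -/
theorem isSubcomod_of_points {V : Type w} [AddCommGroup V] [Module k V] [HopfRep.Comod k A V]
    (W : Submodule k V)
    (hW : ∀ g : A →ₐ[k] k, W.map (HopfRep.Comod.act k A V g) ≤ W) :
    HopfRep.IsSubcomod (k := k) (A := A) W := by
  intro w hw
  rw [← rTensor_mkQ]
  rw [LinearMap.mem_ker]
  apply tensor_eq_zero_of_points
  intro g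
  have h1 : HopfRep.Comod.act k A V g w ∈ W := hW g ⟨w, hw, rfl⟩
  have key : ∀ t : V ⊗[k] A,
      (TensorProduct.rid k (V ⧸ W)) (LinearMap.lTensor (V ⧸ W) g.toLinearMap
        (LinearMap.rTensor A W.mkQ t)) =
      W.mkQ ((TensorProduct.rid k V) (LinearMap.lTensor V g.toLinearMap t)) := by
    intro t
    induction t using TensorProduct.induction_on with
    | zero => simp
    | tmul v a => simp
    | add x y hx hy => simp only [map_add, hx, hy]
  rw [key]
  exact (Submodule.Quotient.mk_eq_zero W).mpr h1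

end Sep

section Dense
variable {k : Type u} [Field k] [IsAlgClosed k] {A : Type v} [CommRing A] [HopfAlgebra k A]

theorem exists_point_ne_zero_of_not_isNilpotent {D : Type*} [CommRing D] [Algebra k D]
    [Algebra.FiniteType k D] (a : D) (ha : ¬ IsNilpotent a) : ∃ h : D →ₐ[k] k, h a ≠ 0 := by
  have hJ : IsJacobsonRing D := isJacobsonRing_of_finiteType (A := k)
  have hrad : (nilradical D).IsRadical := Ideal.radical_isRadical _
  have hjac : (nilradical D).jacobson = nilradical D := hJ.out hrad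
  have hna : a ∉ (nilradical D).jacobson := by
    rw [hjac, mem_nilradical]
    exact ha
  rw [Ideal.jacobson, Ideal.mem_sInf] at hna
  push Not at hna
  obtain ⟨m, ⟨-, hm⟩, ham⟩ := hna
  obtain ⟨h, hh⟩ := exists_point_of_isMaximal (k := k) m
  refine ⟨h, fun h0 => ham ?_⟩
  rw [← hh]
  exact h0

/-- over an algebraically closed field (any characteristic), every non-nilpotent element of a
commutative Hopf algebra is nonzero at some rational point: rational points are dense -/
theorem exists_point_apply_ne_zero_of_not_isNilpotent (a : A) (ha : ¬ IsNilpotent a) :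
    ∃ g : A →ₐ[k] k, g a ≠ 0 := by
  obtain ⟨A₀, hx, hfg, hA₀⟩ := TKP.exists_fg_isHS (k := k) (A := A) a
  have hft : Algebra.FiniteType k A₀ := (Subalgebra.fg_iff_finiteType A₀).mp hfg
  have ha₀ : ¬ IsNilpotent (⟨a, hx⟩ : A₀) := by
    rintro ⟨n, hn⟩
    exact ha ⟨n, by simpa using congrArg Subtype.val hn⟩
  obtain ⟨g₀, hg₀⟩ := exists_point_ne_zero_of_not_isNilpotent (k := k) (⟨a, hx⟩ : A₀) ha₀
  obtain ⟨g, hg⟩ := exists_extend_point A₀ hA₀ g₀
  refine ⟨g, ?_⟩
  have h1 : g a = g₀ ⟨a, hx⟩ := hg ⟨a, hx⟩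
  rw [h1]
  exact hg₀

end Dense

end Groth.Agent.Lib.Helper96.PtsSep
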