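import Mathlib
import Groth.Agent.Lib.Helper96.PtsSep

/-! Rational points of an affine group scheme over an algebraically closed field are dense
(helper96): bridge from `GrpObj G` to the Hopf algebra `Γ(G, ⊤)` and `PtsSep`. -/

set_option autoImplicit false
open AlgebraicGeometry CategoryTheory MonoidalCategory Opposite

universe u

namespace Groth.Agent.Lib.Helper96.DensePts

variable (k : Type u) [Field k] (G : Over (Spec (CommRingCat.of k))) [IsAffine G.left]

@[reducible] noncomputable def overInst : G.left.Over (Spec (CommRingCat.of k)) := ⟨G.hom⟩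

example : @Scheme.asOver G.left (Spec (CommRingCat.of k)) (overInst k G) = G := rfl

@[reducible] noncomputable def grpInst [GrpObj G] :
    GrpObj (@Scheme.asOver G.left (Spec (CommRingCat.of k)) (overInst k G)) :=
  (inferInstance : GrpObj G)

@[reducible] noncomputable def hopf [GrpObj G] :
    @HopfAlgebra k Γ(G.left, ⊤) _ _ :=
  @AlgebraicGeometry.instHopfAlgebraCarrierObjOppositeOpensCarrierCarrierCommRingCatPresheafOpOpensTopOfGrpObjOverSchemeSpecAsOverOfIsAffine
    (CommRingCat.of k) G.left (overInst k G) (grpInst k G) _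


@[reducible] noncomputable def algInst : Algebra k Γ(G.left, ⊤) :=
  @AlgebraicGeometry.instAlgebraCarrierObjOppositeOpensCarrierCarrierCommRingCatPresheafOpOpensTopOfOverSpecOfIsAffine
    (CommRingCat.of k) G.left (overInst k G) _

theorem spec_algebraMap :
    Spec.map (CommRingCat.ofHom (@algebraMap k Γ(G.left, ⊤) _ _ (algInst k G))) =
      G.left.isoSpec.inv ≫ G.hom := by
  have h := @AlgebraicGeometry.algebraMap_presheafObj (CommRingCat.of k) G.left (overInst k G) _
  rw [h]
  simp
  rfl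

example [GrpObj G] : (hopf k G).toAlgebra = algInst k G := rfl

attribute [local instance] algInst

/-- the rational point of `G` defined by an algebra map `Γ(G) → k` -/
noncomputable def pt (x : Γ(G.left, ⊤) →ₐ[k] k) :
    𝟙_ (Over (Spec (CommRingCat.of k))) ⟶ G :=
  Over.homMk (Spec.map (CommRingCat.ofHom x.toRingHom) ≫ G.left.isoSpec.inv) (by
    rw [Category.assoc, ← spec_algebraMap, ← Spec.map_comp, ← CommRingCat.ofHom_comp]
    have h1 : (x.toRingHom).comp (algebraMap k Γ(G.left, ⊤)) = RingHom.id k := by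
      ext c
      simp
    rw [h1]
    simp)

theorem pt_left (x : Γ(G.left, ⊤) →ₐ[k] k) :
    (pt k G x).left = Spec.map (CommRingCat.ofHom x.toRingHom) ≫ G.left.isoSpec.inv := rfl

theorem isUnit_appTop (x : Γ(G.left, ⊤) →ₐ[k] k) (a : Γ(G.left, ⊤)) (hxa : x a ≠ 0) :
    IsUnit ((pt k G x).left.appTop a) := by
  have h1 : (pt k G x).left.appTop =
      (Scheme.ΓSpecIso Γ(G.left, ⊤)).inv ≫ (Spec.map (CommRingCat.ofHom x.toRingHom)).appTop := by
    rw [pt_left, Scheme.Hom.comp_appTop]
    congr 1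
    have h0 : G.left.isoSpec.hom.appTop ≫ G.left.isoSpec.inv.appTop = 𝟙 _ := by
      rw [← Scheme.Hom.comp_appTop, Iso.inv_hom_id]
      rfl
    have h00 : G.left.isoSpec.hom.appTop = (Scheme.ΓSpecIso Γ(G.left, ⊤)).hom :=
      Scheme.toSpecΓ_appTop G.left
    rw [h00] at h0
    rw [← cancel_epi (Scheme.ΓSpecIso Γ(G.left, ⊤)).hom, h0, Iso.hom_inv_id]
  have h2 : (pt k G x).left.appTop =
      CommRingCat.ofHom x.toRingHom ≫ (Scheme.ΓSpecIso (CommRingCat.of k)).inv := by
    rw [h1]
    exact (Scheme.ΓSpecIso_inv_naturality (CommRingCat.ofHom x.toRingHom)).symm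
  rw [h2]
  have h3 : IsUnit (x a) := isUnit_iff_ne_zero.mpr hxa
  exact h3.map (Scheme.ΓSpecIso (CommRingCat.of k)).inv.hom

theorem pt_mem_basicOpen (x : Γ(G.left, ⊤) →ₐ[k] k) (a : Γ(G.left, ⊤)) (hxa : x a ≠ 0) :
    (pt k G x).left.base (IsLocalRing.closedPoint k) ∈ G.left.basicOpen a := by
  have h : (pt k G x).left ⁻¹ᵁ (G.left.basicOpen a) = ⊤ := by
    rw [Scheme.preimage_basicOpen_top, Scheme.basicOpen_of_isUnit _ (isUnit_appTop k G x a hxa)]
  have h2 : (IsLocalRing.closedPoint k : Spec (CommRingCat.of k)) ∈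
      (pt k G x).left ⁻¹ᵁ (G.left.basicOpen a) := by
    rw [h]
    trivial
  exact h2

/-- **S14537**: rational points of an affine group scheme over an algebraically closed field are
dense -/
theorem dense_pts [GrpObj G] [IsAlgClosed k] :
    Dense {x : ↥G.left | ∃ g : 𝟙_ (Over (Spec (CommRingCat.of k))) ⟶ G,
      g.left.base (IsLocalRing.closedPoint k) = x} := by
  rw [dense_iff_inter_open]
  intro U hU hne
  obtain ⟨p, hp⟩ := hne
  obtain ⟨_, ⟨_, ⟨a, rfl⟩, rfl⟩, hpa, hle⟩ :=
    (isBasis_basicOpen G.left).exists_subset_of_mem_open hp hU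
  have ha : ¬ IsNilpotent a := by
    rintro ⟨n, hn⟩
    have h1 : a ^ (n + 1) = 0 := by rw [pow_succ, hn, zero_mul]
    have h2 : G.left.basicOpen (a ^ (n + 1)) = G.left.basicOpen a :=
      Scheme.basicOpen_pow _ _ (Nat.succ_pos n)
    rw [h1, Scheme.basicOpen_zero] at h2
    rw [← h2] at hpa
    exact hpa
  let _ : HopfAlgebra k Γ(G.left, ⊤) := hopf k G
  obtain ⟨x, hx⟩ := PtsSep.exists_point_apply_ne_zero_of_not_isNilpotent (k := k) a ha
  exact ⟨_, hle (pt_mem_basicOpen k G x a hx), pt k G x, rfl⟩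

end Groth.Agent.Lib.Helper96.DensePts
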