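import Groth.Agent.Lib.Helper96.TorsKer3

set_option autoImplicit false
universe u
open TensorProduct

namespace Groth.Agent.Lib.Helper96.DiagBC

open Groth.Agent.Lib.Helper96.BaseChangeBialg

section Scalar

variable (K K' : Type*) [CommRing K] [CommRing K'] [Algebra K K'] (M : Type*) [CommGroup M]

/-- `K' ⊗[K] K[M] ≃ K'[M]` as bialgebras -/
noncomputable def scalarBialgEquiv : K' ⊗[K] MonoidAlgebra K M ≃ₐc[K'] MonoidAlgebra K' M :=
  BialgEquiv.ofAlgEquiv (MonoidAlgebra.scalarTensorEquiv K K')
    (by
      ext m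
      simp [MonoidAlgebra.scalarTensorEquiv_tmul])
    (by
      ext m
      simp [MonoidAlgebra.scalarTensorEquiv_tmul])

end Scalar

section BC

variable (R K K' : Type*) [CommRing R] [CommRing K] [CommRing K'] [Algebra R K] [Algebra R K']
  [Algebra K K'] [IsScalarTower R K K'] (A : Type*) [CommRing A] [Bialgebra R A]
  (M : Type*) [CommGroup M]

/-- tensoring a bialgebra equivalence with a base ring -/
noncomputable def lTensorEquiv {X Y : Type*} [CommRing X] [CommRing Y] [Bialgebra K X] [Bialgebra K Y]
    (e : X ≃ₐc[K] Y) : K' ⊗[K] X ≃ₐc[K'] K' ⊗[K] Y :=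
  BialgEquiv.ofBialgHom
    (Bialgebra.TensorProduct.map (BialgHom.id K' K') (e : X →ₐc[K] Y))
    (Bialgebra.TensorProduct.map (BialgHom.id K' K') (e.symm : Y →ₐc[K] X))
    (by
      apply BialgHom.coe_algHom_injective
      apply Algebra.TensorProduct.ext
      · ext
      · ext y
        simp)
    (by
      apply BialgHom.coe_algHom_injective
      apply Algebra.TensorProduct.ext
      · ext
      · ext y
        simp)

/-- diagonalisability is stable under base change -/
noncomputable def diagBaseChange (e : K ⊗[R] A ≃ₐc[K] MonoidAlgebra K M) :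
    K' ⊗[R] A ≃ₐc[K'] MonoidAlgebra K' M :=
  ((cbc R K K' A).symm.trans (lTensorEquiv K K' e)).trans (scalarBialgEquiv K K' M)

end BC

end Groth.Agent.Lib.Helper96.DiagBC
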