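import Groth.Agent.Lib.Helper96.UnipPts
import Groth.Agent.Lib.Helper96.Coeff

/-! Rational points of unipotent groups have no torsion prime to the characteristic
(helper96). -/

set_option autoImplicit false

open TensorProduct Polynomial
universe u v w
namespace Groth.Agent.Lib.Helper96

namespace UnipTors

variable {k : Type u} [Field k] {A : Type v} [CommRing A] [HopfAlgebra k A]

/-- a unipotent operator of finite order prime to the characteristic is the identity -/
theorem eq_one_of_pow_eq_one {V : Type w} [AddCommGroup V] [Module k V] [FiniteDimensional k V]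
    (f : Module.End k V) (hnil : IsNilpotent (f - 1)) (m : ℕ) (hm : (m : k) ≠ 0)
    (hpow : f ^ m = 1) : f = 1 := by
  have hsq : Squarefree (X ^ m - C (1 : k)) :=
    (Polynomial.separable_X_pow_sub_C (1 : k) hm one_ne_zero).squarefree
  have hss : f.IsSemisimple := by
    apply Module.End.isSemisimple_of_squarefree_aeval_eq_zero hsq
    rw [map_sub, map_pow, aeval_X, aeval_C, hpow, map_one, sub_self]
  have hss' : (f - algebraMap k (Module.End k V) 1).IsSemisimple :=
    Module.End.isSemisimple_sub_algebraMap_iff.mpr hss
  rw [map_one] at hss'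
  have := Module.End.eq_zero_of_isNilpotent_isSemisimple hnil hss'
  exact sub_eq_zero.mp this

/-- a point acting trivially on all finite-dimensional comodules is the identity -/
theorem eq_one_of_act_eq_id (g : WithConv (A →ₐ[k] k))
    (h : ∀ (V : Type v) [AddCommGroup V] [Module k V] (c : HopfRep.Comod k A V),
      Module.Finite k V → @HopfRep.Comod.act k A _ _ _ V _ _ c g.ofConv = LinearMap.id) :
    g = 1 := by
  have key : ∀ a : A, g.ofConv a = CoalgebraStruct.counit (R := k) a := by
    intro a
    let cA := HopfRep.Comod.regular k A
    let W := orbit cA a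
    have hW : IsSub cA W := isSub_orbit cA a
    have hfin : Module.Finite k W := finite_orbit cA a
    have h1 := h W (ComodSub.Comod.restr cA W hW) hfin
    have h2 := SSPts.act_hom (ComodSub.isComodHom_subtype cA W hW) g.ofConv ⟨a, mem_orbit_self cA a⟩
    rw [h1, LinearMap.id_apply, Submodule.subtype_apply] at h2
    -- h2 : act_A g a = a
    have h3 : @HopfRep.Comod.act k A _ _ _ A _ _ cA g.ofConv a =
        slice A g.ofConv.toLinearMap (CoalgebraStruct.comul (R := k) a) := rfl
    rw [h3] at h2
    have h4 := UnipPts.algHom_lslM g.ofConv (CoalgebraStruct.counit (R := k) (A := A))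
      (CoalgebraStruct.comul (R := k) a)
    rw [lslM_counit_comul, h2] at h4
    exact h4
  apply WithConv.ofConv_injective
  apply AlgHom.ext
  intro a
  rw [key a]
  rfl

/-- rational points of a unipotent group have no torsion prime to the characteristic -/
theorem eq_one_of_isOfFinOrder [Algebra.FiniteType k A] (hU : HopfRep.IsUnipotent k A)
    (g : WithConv (A →ₐ[k] k)) (hcop : ((orderOf g : ℕ) : k) ≠ 0) : g = 1 := by
  apply eq_one_of_act_eq_id
  intro V _ _ c hfin
  have hnil : IsNilpotent (UnipPts.actRep c g - 1) :=
    @Groth.Agent.S7987.result k A _ _ _ _ hU g.ofConv V _ _ c hfin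
  have hpow : (UnipPts.actRep c g) ^ (orderOf g) = 1 := by
    rw [← map_pow, pow_orderOf_eq_one, map_one]
  exact eq_one_of_pow_eq_one _ hnil _ hcop hpow

end UnipTors

end Groth.Agent.Lib.Helper96
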