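import Mathlib

/-! A group acting faithfully and unipotently with respect to a flag is nilpotent (helper96). -/

set_option autoImplicit false

universe u v w
open scoped commutatorElement
namespace Groth.Agent.Lib.Helper96

namespace FlagNilp

variable {k : Type u} [Field k] {V : Type v} [AddCommGroup V] [Module k V]

/-- endomorphisms shifting the filtration by `j` -/
def Esh (F : ℕ → Submodule k V) (j : ℕ) : Submodule k (Module.End k V) where
  carrier := {T | ∀ i, ∀ v ∈ F (i + j), T v ∈ F i}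
  add_mem' := by
    intro S T hS hT i v hv
    rw [LinearMap.add_apply]
    exact (F i).add_mem (hS i v hv) (hT i v hv)
  zero_mem' := by
    intro i v _
    rw [LinearMap.zero_apply]
    exact (F i).zero_mem
  smul_mem' := by
    intro c T hT i v hv
    rw [LinearMap.smul_apply]
    exact (F i).smul_mem c (hT i v hv)

theorem mem_Esh {F : ℕ → Submodule k V} {j : ℕ} {T : Module.End k V} :
    T ∈ Esh F j ↔ ∀ i, ∀ v ∈ F (i + j), T v ∈ F i := Iff.rfl

theorem Esh_mul {F : ℕ → Submodule k V} {j l : ℕ} {T S : Module.End k V} (hT : T ∈ Esh F j)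
    (hS : S ∈ Esh F l) : T * S ∈ Esh F (j + l) := by
  intro i v hv
  rw [Module.End.mul_apply]
  apply hT i
  apply hS (i + j)
  rw [add_assoc]
  exact hv

theorem Esh_anti {F : ℕ → Submodule k V} (hmono : Monotone F) {j j' : ℕ} (h : j ≤ j') :
    Esh F j' ≤ Esh F j := by
  intro T hT i v hv
  exact hT i v (hmono (by omega) hv)

theorem one_mem_Esh_zero (F : ℕ → Submodule k V) : (1 : Module.End k V) ∈ Esh F 0 := by
  intro i v hv
  simpa using hv

theorem eq_zero_of_mem_Esh {F : ℕ → Submodule k V} {n : ℕ} (hF0 : F 0 = ⊥) (hFn : F n = ⊤)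
    {T : Module.End k V} (hT : T ∈ Esh F n) : T = 0 := by
  apply LinearMap.ext
  intro v
  have := hT 0 v (by rw [zero_add, hFn]; trivial)
  rw [hF0] at this
  exact (Submodule.mem_bot k).mp this

variable {Γ : Type w} [Group Γ]

/-- the subgroup of elements acting as `1 + (shift by j)` -/
def Hsub (ρ : Γ →* Module.End k V) (F : ℕ → Submodule k V) (hmono : Monotone F)
    (h1 : ∀ g : Γ, ρ g - 1 ∈ Esh F 1) (j : ℕ) : Subgroup Γ where
  carrier := {g | ρ g - 1 ∈ Esh F j}
  one_mem' := by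
    show ρ 1 - 1 ∈ Esh F j
    rw [map_one, sub_self]
    exact Submodule.zero_mem _
  mul_mem' := by
    intro g h hg hh
    show ρ (g * h) - 1 ∈ Esh F j
    have e : ρ (g * h) - 1 = (ρ g - 1) * (ρ h - 1) + (ρ g - 1) + (ρ h - 1) := by
      rw [map_mul]; noncomm_ring
    rw [e]
    refine Submodule.add_mem _ (Submodule.add_mem _ ?_ hg) hh
    exact Esh_anti hmono (Nat.le_add_right j j) (Esh_mul hg hh)
  inv_mem' := by
    intro g hg
    show ρ g⁻¹ - 1 ∈ Esh F j
    have e : ρ g⁻¹ - 1 = -(ρ g⁻¹ * (ρ g - 1)) := by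
      have : ρ g⁻¹ * ρ g = 1 := by rw [← map_mul, inv_mul_cancel, map_one]
      rw [mul_sub, this, mul_one]; abel
    rw [e]
    apply Submodule.neg_mem
    have h0 : ρ g⁻¹ ∈ Esh F 0 := by
      have : ρ g⁻¹ = (ρ g⁻¹ - 1) + 1 := by abel
      rw [this]
      exact Submodule.add_mem _ (Esh_anti hmono (Nat.zero_le 1) (h1 g⁻¹)) (one_mem_Esh_zero F)
    have := Esh_mul h0 hg
    rwa [zero_add] at this

theorem mem_Hsub {ρ : Γ →* Module.End k V} {F : ℕ → Submodule k V} {hmono : Monotone F}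
    {h1 : ∀ g : Γ, ρ g - 1 ∈ Esh F 1} {j : ℕ} {g : Γ} :
    g ∈ Hsub ρ F hmono h1 j ↔ ρ g - 1 ∈ Esh F j := Iff.rfl

/-- a group acting faithfully on a space with a finite flag, trivially on the graded pieces, is
nilpotent -/
theorem isNilpotent_of_flag (ρ : Γ →* Module.End k V) (hρ : Function.Injective ρ)
    (n : ℕ) (F : ℕ → Submodule k V) (hmono : Monotone F) (hF0 : F 0 = ⊥) (hFn : F n = ⊤)
    (h : ∀ g : Γ, ∀ i, ∀ v ∈ F (i + 1), ρ g v - v ∈ F i) : Group.IsNilpotent Γ := by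
  have h1 : ∀ g : Γ, ρ g - 1 ∈ Esh F 1 := by
    intro g i v hv
    rw [LinearMap.sub_apply, Module.End.one_apply]
    exact h g i v hv
  have h0 : ∀ g : Γ, ρ g ∈ Esh F 0 := by
    intro g
    have : ρ g = (ρ g - 1) + 1 := by abel
    rw [this]
    exact Submodule.add_mem _ (Esh_anti hmono (Nat.zero_le 1) (h1 g)) (one_mem_Esh_zero F)
  rw [Subgroup.nilpotent_iff_finite_descending_central_series]
  refine ⟨n, fun i => Hsub ρ F hmono h1 (i + 1), ⟨?_, ?_⟩, ?_⟩
  · rw [eq_top_iff]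
    intro g _
    exact h1 g
  · intro x i hx g
    show ρ ⁅x, g⁆ - 1 ∈ Esh F (i + 1 + 1)
    have hx' : ρ x - 1 ∈ Esh F (i + 1) := hx
    have e : ρ ⁅x, g⁆ - 1 =
        ((ρ x - 1) * (ρ g - 1) - (ρ g - 1) * (ρ x - 1)) * (ρ x⁻¹ * ρ g⁻¹) := by
      have e1 : ρ g * ρ x * (ρ x⁻¹ * ρ g⁻¹) = 1 := by
        rw [← map_mul, ← map_mul, ← map_mul]
        have : g * x * (x⁻¹ * g⁻¹) = 1 := by group
        rw [this, map_one]
      have e2 : ρ ⁅x, g⁆ = ρ x * ρ g * (ρ x⁻¹ * ρ g⁻¹) := by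
        rw [commutatorElement_def, map_mul, map_mul, map_mul, mul_assoc]
      have e3 : (ρ x - 1) * (ρ g - 1) - (ρ g - 1) * (ρ x - 1) = ρ x * ρ g - ρ g * ρ x := by
        noncomm_ring
      rw [e3, sub_mul, e1, e2]
    rw [e]
    have hcomm : (ρ x - 1) * (ρ g - 1) - (ρ g - 1) * (ρ x - 1) ∈ Esh F (i + 1 + 1) := by
      apply Submodule.sub_mem
      · exact Esh_mul hx' (h1 g)
      · have := Esh_mul (h1 g) hx'
        rwa [add_comm] at this
    have h00 : ρ x⁻¹ * ρ g⁻¹ ∈ Esh F 0 := by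
      have := Esh_mul (h0 x⁻¹) (h0 g⁻¹)
      rwa [add_zero] at this
    have := Esh_mul hcomm h00
    rwa [add_zero] at this
  · rw [eq_bot_iff]
    intro g hg
    have hg' : ρ g - 1 ∈ Esh F (n + 1) := hg
    have := eq_zero_of_mem_Esh hF0 hFn (Esh_anti hmono (Nat.le_succ n) hg')
    rw [Subgroup.mem_bot]
    apply hρ
    rw [map_one]
    exact sub_eq_zero.mp this

end FlagNilp

end Groth.Agent.Lib.Helper96
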