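import Groth.Agent.Lib.Helper96.HilbertFin2

/-! Relative Hilbert finiteness: linear actions of linearly reductive groups on polynomial rings
over a Noetherian comodule algebra (helper96). -/

set_option autoImplicit false

open TensorProduct MvPolynomial
universe u v w w'
namespace Groth.Agent.Lib.Helper96

namespace HilbertRel

variable {k : Type u} [Field k] {H : Type v} [CommRing H] [HopfAlgebra k H]
variable {A₀ : Type w} [CommRing A₀] [Algebra k A₀]
variable {σ : Type w'}

/-- `P_e ⊗ H` inside `P ⊗ H`, `P = A₀[X_σ]` -/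
noncomputable def T (k : Type u) [Field k] (H : Type v) [CommRing H] [HopfAlgebra k H]
    (A₀ : Type w) [CommRing A₀] [Algebra k A₀] (σ : Type w')
    (e : ℕ) : Submodule k (MvPolynomial σ A₀ ⊗[k] H) :=
  LinearMap.range ((((homogeneousSubmodule σ A₀ e).restrictScalars k).subtype).rTensor H)

theorem tmul_mem_T {e : ℕ} {p : MvPolynomial σ A₀} (hp : p.IsHomogeneous e) (a : H) :
    p ⊗ₜ[k] a ∈ T k H A₀ σ e :=
  ⟨(⟨p, hp⟩ : (homogeneousSubmodule σ A₀ e).restrictScalars k) ⊗ₜ[k] a, by simp⟩

theorem one_mem_T : (1 : MvPolynomial σ A₀ ⊗[k] H) ∈ T k H A₀ σ 0 := by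
  rw [Algebra.TensorProduct.one_def]
  exact tmul_mem_T (isHomogeneous_one σ A₀) 1

theorem mul_mem_T {a b : ℕ} {x y : MvPolynomial σ A₀ ⊗[k] H} (hx : x ∈ T k H A₀ σ a)
    (hy : y ∈ T k H A₀ σ b) : x * y ∈ T k H A₀ σ (a + b) := by
  obtain ⟨x', rfl⟩ := hx
  obtain ⟨y', rfl⟩ := hy
  induction x' using TensorProduct.induction_on with
  | zero => simp
  | add x1 x2 h1 h2 => rw [map_add, add_mul]; exact Submodule.add_mem _ h1 h2
  | tmul p s =>
    induction y' using TensorProduct.induction_on with
    | zero => simp
    | add y1 y2 h1 h2 => rw [map_add, mul_add]; exact Submodule.add_mem _ h1 h2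
    | tmul q t =>
      rw [LinearMap.rTensor_tmul, LinearMap.rTensor_tmul, Algebra.TensorProduct.tmul_mul_tmul]
      exact tmul_mem_T (IsHomogeneous.mul p.2 q.2) _

theorem pow_mem_T {a : ℕ} {x : MvPolynomial σ A₀ ⊗[k] H} (hx : x ∈ T k H A₀ σ a) (n : ℕ) :
    x ^ n ∈ T k H A₀ σ (n * a) := by
  induction n with
  | zero => rw [pow_zero, Nat.zero_mul]; exact one_mem_T
  | succ n ih =>
    rw [pow_succ, Nat.succ_mul]
    exact mul_mem_T ih hx

variable (c : HopfRep.Comod k H (MvPolynomial σ A₀))

/-- the hypotheses: multiplicative, unital, degree-preserving coaction -/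
structure IsLinAct : Prop where
  hmul : ∀ f g : MvPolynomial σ A₀, c.coact (f * g) = c.coact f * c.coact g
  hone : c.coact (1 : MvPolynomial σ A₀) = 1
  hlin : ∀ i : σ, c.coact (X i : MvPolynomial σ A₀) ∈ T k H A₀ σ 1
  hconst : ∀ a : A₀, c.coact (C a : MvPolynomial σ A₀) ∈ T k H A₀ σ 0

variable {c}

theorem coact_pow (h : IsLinAct c) (f : MvPolynomial σ A₀) (n : ℕ) :
    c.coact (f ^ n) = c.coact f ^ n := by
  induction n with
  | zero => rw [pow_zero, pow_zero, h.hone]
  | succ n ih => rw [pow_succ, pow_succ, h.hmul, ih]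

theorem coact_monomial_mem (h : IsLinAct c) (s : σ →₀ ℕ) (a : A₀) :
    c.coact (monomial s a) ∈ T k H A₀ σ s.degree := by
  induction s using Finsupp.induction with
  | zero =>
    have : (monomial (0 : σ →₀ ℕ) a : MvPolynomial σ A₀) = C a := rfl
    rw [this]
    simpa using h.hconst a
  | single_add i e s hi he ih =>
    rw [monomial_single_add, h.hmul, coact_pow h, map_add, Finsupp.degree_single]
    have := pow_mem_T (h.hlin i) e
    rw [Nat.mul_one] at this
    exact mul_mem_T this ih

/-- the homogeneous component maps are comodule endomorphisms -/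
theorem homogeneousComponent_coact (h : IsLinAct c) (d : ℕ) (p : MvPolynomial σ A₀) :
    ((homogeneousComponent d : MvPolynomial σ A₀ →ₗ[A₀] MvPolynomial σ A₀).restrictScalars k).rTensor H
        (c.coact p) = c.coact (homogeneousComponent d p) := by
  classical
  induction p using MvPolynomial.induction_on' with
  | add p q hp hq => simp only [map_add, hp, hq]
  | monomial s a =>
    obtain ⟨z, hz⟩ := coact_monomial_mem h s a
    rw [← hz, ← LinearMap.comp_apply, ← LinearMap.rTensor_comp]
    have hcomp : ((homogeneousComponent d : MvPolynomial σ A₀ →ₗ[A₀] MvPolynomial σ A₀).restrictScalars k) ∘ₗ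
        ((homogeneousSubmodule σ A₀ s.degree).restrictScalars k).subtype =
        if d = s.degree then ((homogeneousSubmodule σ A₀ s.degree).restrictScalars k).subtype
        else 0 := by
      apply LinearMap.ext
      intro q
      have hq : (q : MvPolynomial σ A₀) ∈ homogeneousSubmodule σ A₀ s.degree := q.2
      rw [LinearMap.comp_apply, Submodule.subtype_apply, LinearMap.restrictScalars_apply,
        homogeneousComponent_of_mem hq]
      split_ifs <;> simp
    rw [hcomp, homogeneousComponent_of_mem (isHomogeneous_monomial a rfl)]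
    split_ifs with hd
    · exact hz
    · simp

theorem homogeneousComponent_fixed (h : IsLinAct c) (d : ℕ) {f : MvPolynomial σ A₀}
    (hf : c.coact f = f ⊗ₜ[k] (1 : H)) :
    c.coact (homogeneousComponent d f) = homogeneousComponent d f ⊗ₜ[k] (1 : H) := by
  rw [← homogeneousComponent_coact h, hf, LinearMap.rTensor_tmul]
  rfl

/-- the main theorem: finite generation of invariants over the invariant constants -/
theorem exists_finset_generators [Finite σ] [IsNoetherianRing A₀] (h : IsLinAct c) (α : H →ₗ[k] k)
    (hα : @Hoch.IsComodHom k _ H _ _ _ H _ _ _ k _ _ (HopfRep.Comod.trivial k H k) α)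
    (h1 : α 1 = 1) :
    ∃ s : Finset (MvPolynomial σ A₀),
      (∀ f ∈ s, c.coact f = f ⊗ₜ[k] (1 : H)) ∧
      ∀ f : MvPolynomial σ A₀, c.coact f = f ⊗ₜ[k] (1 : H) →
        f ∈ Algebra.adjoin k
          ({f | ∃ a : A₀, f = C a ∧ c.coact (C a) = C a ⊗ₜ[k] (1 : H)} ∪
            (s : Set (MvPolynomial σ A₀))) := by
  classical
  set E := reyn c α with hE
  set G : Set (MvPolynomial σ A₀) :=
    {f | c.coact f = f ⊗ₜ[k] (1 : H) ∧ ∃ d : ℕ, 0 < d ∧ f.IsHomogeneous d} with hG
  have hfg : (Ideal.span G).FG := (isNoetherianRing_iff_ideal_fg _).mp inferInstance _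
  obtain ⟨s, hsG, hspan⟩ := (Submodule.fg_span_iff_fg_span_finset_subset G).mp hfg
  refine ⟨s, fun f hf => (hsG hf).1, ?_⟩
  set K0 : Set (MvPolynomial σ A₀) :=
    {f | ∃ a : A₀, f = C a ∧ c.coact (C a) = C a ⊗ₜ[k] (1 : H)} with hK0
  have key : ∀ d : ℕ, ∀ f : MvPolynomial σ A₀, c.coact f = f ⊗ₜ[k] (1 : H) → f.IsHomogeneous d →
      f ∈ Algebra.adjoin k (K0 ∪ (s : Set (MvPolynomial σ A₀))) := by
    intro d
    induction d using Nat.strong_induction_on with
    | _ d ih =>
      intro f hf hfd
      rcases Nat.eq_zero_or_pos d with hd0 | hdpos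
      · subst hd0
        have : f = C (coeff 0 f) := by
          rw [← homogeneousComponent_zero, homogeneousComponent_eq_self hfd]
        apply Algebra.subset_adjoin
        left
        refine ⟨coeff 0 f, this, ?_⟩
        rw [← this]
        exact hf
      · have hfG : f ∈ G := ⟨hf, d, hdpos, hfd⟩
        have hfI : f ∈ Submodule.span (MvPolynomial σ A₀) (s : Set (MvPolynomial σ A₀)) := by
          rw [← hspan]; exact Submodule.subset_span hfG
        obtain ⟨g, -, hg⟩ := Submodule.mem_span_finset.mp hfI
        have hEf : E f = f := reyn_of_fixed c α h1 hf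
        have h2 : f = ∑ j ∈ s, E (g j) * j := by
          rw [← hEf, ← hg, map_sum]
          apply Finset.sum_congr rfl
          intro j hj
          rw [smul_eq_mul]
          exact reyn_mul_fixed c α h.hmul (g j) j (hsG hj).1
        have h3 : f = ∑ j ∈ s, homogeneousComponent d (E (g j) * j) := by
          conv_lhs => rw [← homogeneousComponent_eq_self hfd, h2, map_sum]
        rw [h3]
        apply Subalgebra.sum_mem
        intro j hj
        obtain ⟨hjfix, dj, hdjpos, hjd⟩ := hsG hj
        set hh := E (g j) with hhh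
        have hhfix : c.coact hh = hh ⊗ₜ[k] (1 : H) := coact_reyn c α hα (g j)
        rw [← sum_homogeneousComponent hh, Finset.sum_mul, map_sum]
        apply Subalgebra.sum_mem
        intro e _
        have hmem : homogeneousComponent e hh * j ∈ homogeneousSubmodule σ A₀ (e + dj) :=
          IsHomogeneous.mul (homogeneousComponent_isHomogeneous e hh) hjd
        rw [homogeneousComponent_of_mem hmem]
        split_ifs with hde
        · apply Subalgebra.mul_mem
          · apply ih e (by omega) _ (homogeneousComponent_fixed h e hhfix)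
              (homogeneousComponent_isHomogeneous e hh)
          · exact Algebra.subset_adjoin (Or.inr hj)
        · exact Subalgebra.zero_mem _
  intro f hf
  rw [← sum_homogeneousComponent f]
  apply Subalgebra.sum_mem
  intro d _
  exact key d _ (homogeneousComponent_fixed h d hf) (homogeneousComponent_isHomogeneous d f)

end HilbertRel

end Groth.Agent.Lib.Helper96
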