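import Groth.Agent.Lib.Helper96.HilbertRel

/-! Relative Hilbert finiteness, reduction to the polynomial case (helper96). -/

set_option autoImplicit false

open TensorProduct MvPolynomial
universe u v w
namespace Groth.Agent.Lib.Helper96

namespace HilbertRel2

open HilbertFin2 (map_eq_rTensor map_eq_lTensor assoc_eq)

variable {k : Type u} [Field k] {H : Type v} [CommRing H] [HopfAlgebra k H]
variable {A₀ : Type w} [CommRing A₀] [Algebra k A₀]
variable (cA : HopfRep.Comod k H A₀)
variable (hAmul : ∀ f g : A₀, cA.coact (f * g) = cA.coact f * cA.coact g)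
variable (hAone : cA.coact (1 : A₀) = 1)
variable {R : Type w} [CommRing R] [Algebra k R]
variable (c : HopfRep.Comod k H R)
variable (V : Submodule k R) (hV : IsSub c V) {n : ℕ} (b : Module.Basis (Fin n) k V)

/-- `V → P`, sending the basis to the variables -/
noncomputable def L (A₀ : Type w) [CommRing A₀] [Algebra k A₀] :
    V →ₗ[k] MvPolynomial (Fin n) A₀ := b.constr k (fun i => X i)

theorem L_basis (i : Fin n) : L V b A₀ (b i) = X i := b.constr_basis k _ i

theorem L_mem (v : V) : L V b A₀ v ∈ homogeneousSubmodule (Fin n) A₀ 1 := by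
  rw [← b.sum_repr v, map_sum]
  apply Submodule.sum_mem
  intro i _
  rw [map_smul, L_basis]
  have : (b.repr v i) • (X i : MvPolynomial (Fin n) A₀) =
      (algebraMap k A₀ (b.repr v i)) • (X i : MvPolynomial (Fin n) A₀) := by
    rw [algebraMap_smul]
  rw [this]
  exact Submodule.smul_mem _ _ (isHomogeneous_X A₀ i)

/-- constants, as a k-algebra map -/
noncomputable def CA : A₀ →ₐ[k] MvPolynomial (Fin n) A₀ :=
  IsScalarTower.toAlgHom k A₀ (MvPolynomial (Fin n) A₀)

theorem CA_apply (a : A₀) : CA (k := k) (n := n) a = C a := rfl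

/-- the images of the variables -/
noncomputable def gen (A₀ : Type w) [CommRing A₀] [Algebra k A₀] (j : Fin n) :
    MvPolynomial (Fin n) A₀ ⊗[k] H :=
  (L V b A₀).rTensor H ((ComodSub.Comod.restr c V hV).coact (b j))

/-- the coaction on constants -/
noncomputable def rhoC : A₀ →ₐ[k] MvPolynomial (Fin n) A₀ ⊗[k] H :=
  (Algebra.TensorProduct.map (CA (k := k) (n := n)) (AlgHom.id k H)).comp
    (AlgHom.ofLinearMap cA.coact hAone hAmul)

theorem rhoC_apply (a : A₀) :
    rhoC (n := n) cA hAmul hAone a = (CA (k := k) (n := n)).toLinearMap.rTensor H (cA.coact a) := by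
  rw [rhoC, AlgHom.comp_apply, map_eq_rTensor]
  rfl

/-- the coaction on the polynomial ring, as an algebra map -/
noncomputable def rhoP : MvPolynomial (Fin n) A₀ →ₐ[k] MvPolynomial (Fin n) A₀ ⊗[k] H :=
  { MvPolynomial.eval₂Hom (rhoC (n := n) cA hAmul hAone : A₀ →+* _) (gen c V hV b A₀) with
    commutes' := by
      intro r
      show MvPolynomial.eval₂Hom (rhoC (n := n) cA hAmul hAone : A₀ →+* _) (gen c V hV b A₀)
        (algebraMap k (MvPolynomial (Fin n) A₀) r) = _
      rw [IsScalarTower.algebraMap_apply k A₀ (MvPolynomial (Fin n) A₀), MvPolynomial.algebraMap_eq,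
        MvPolynomial.eval₂Hom_C]
      exact (rhoC (n := n) cA hAmul hAone).commutes r }

theorem rhoP_X (j : Fin n) : rhoP cA hAmul hAone c V hV b (X j) = gen c V hV b A₀ j :=
  MvPolynomial.eval₂Hom_X' _ _ j

theorem rhoP_C (a : A₀) : rhoP cA hAmul hAone c V hV b (C a) = rhoC (n := n) cA hAmul hAone a :=
  MvPolynomial.eval₂Hom_C _ _ a

theorem rhoP_L (v : V) :
    rhoP cA hAmul hAone c V hV b (L V b A₀ v) =
      (L V b A₀).rTensor H ((ComodSub.Comod.restr c V hV).coact v) := by
  have : (rhoP cA hAmul hAone c V hV b).toLinearMap ∘ₗ L V b A₀ =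
      (L V b A₀).rTensor H ∘ₗ (ComodSub.Comod.restr c V hV).coact := by
    apply b.ext
    intro j
    simp only [LinearMap.comp_apply, AlgHom.toLinearMap_apply, L_basis, rhoP_X]
    rfl
  exact LinearMap.congr_fun this v

theorem rhoP_CA (a : A₀) :
    rhoP cA hAmul hAone c V hV b (CA (k := k) (n := n) a) =
      (CA (k := k) (n := n)).toLinearMap.rTensor H (cA.coact a) := by
  rw [CA_apply, rhoP_C, rhoC_apply]

/-- extensionality for `k`-algebra maps out of `A₀[X]` -/
theorem algHom_ext' {B : Type*} [CommRing B] [Algebra k B]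
    (φ ψ : MvPolynomial (Fin n) A₀ →ₐ[k] B) (hC : ∀ a : A₀, φ (C a) = ψ (C a))
    (hX : ∀ j : Fin n, φ (X j) = ψ (X j)) : φ = ψ := by
  have : (φ : MvPolynomial (Fin n) A₀ →+* B) = ψ := MvPolynomial.ringHom_ext hC hX
  exact AlgHom.coe_ringHom_injective this

section General

variable {P : Type*} [CommRing P] [Algebra k P] (ρ : P →ₐ[k] P ⊗[k] H)
variable {W : Type*} [AddCommGroup W] [Module k W] (cW : HopfRep.Comod k H W) (ℓ : W →ₗ[k] P)

theorem coassoc_of_lin (hℓ : ∀ w, ρ (ℓ w) = ℓ.rTensor H (cW.coact w)) (w : W) :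
    (Algebra.TensorProduct.assoc k k k P H H).toAlgHom
        ((Algebra.TensorProduct.map ρ (AlgHom.id k H)) (ρ (ℓ w))) =
      (Algebra.TensorProduct.map (AlgHom.id k P) (Bialgebra.comulAlgHom k H)) (ρ (ℓ w)) := by
  rw [hℓ, map_eq_rTensor, map_eq_lTensor, assoc_eq]
  rw [← LinearMap.comp_apply, ← LinearMap.rTensor_comp]
  have h1 : ρ.toLinearMap ∘ₗ ℓ = ℓ.rTensor H ∘ₗ cW.coact := by
    apply LinearMap.ext
    intro v
    exact hℓ v
  rw [h1, LinearMap.rTensor_comp, LinearMap.comp_apply]
  have hco := LinearMap.congr_fun cW.coassoc w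
  simp only [LinearMap.comp_apply, LinearEquiv.coe_coe] at hco
  have hnat : ∀ z : (W ⊗[k] H) ⊗[k] H,
      TensorProduct.assoc k P H H ((ℓ.rTensor H).rTensor H z) =
      ℓ.rTensor (H ⊗[k] H) (TensorProduct.assoc k W H H z) := by
    intro z
    induction z using TensorProduct.induction_on with
    | zero => simp
    | add x y hx hy => simp only [map_add, hx, hy]
    | tmul y a =>
      induction y using TensorProduct.induction_on with
      | zero => simp
      | add x y hx hy => simp only [TensorProduct.add_tmul, map_add, hx, hy]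
      | tmul v a' => simp
  rw [hnat, hco]
  rw [← LinearMap.comp_apply, ← LinearMap.comp_apply (g := ℓ.rTensor H)]
  have : (Bialgebra.comulAlgHom k H).toLinearMap = Coalgebra.comul (R := k) (A := H) := rfl
  rw [this, LinearMap.rTensor_comp_lTensor, LinearMap.lTensor_comp_rTensor]

theorem counit_of_lin (hℓ : ∀ w, ρ (ℓ w) = ℓ.rTensor H (cW.coact w)) (w : W) :
    (Algebra.TensorProduct.map (AlgHom.id k P) (Bialgebra.counitAlgHom k H)) (ρ (ℓ w)) =
      (Algebra.TensorProduct.includeLeft : P →ₐ[k] P ⊗[k] k) (ℓ w) := by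
  rw [hℓ, map_eq_lTensor]
  rw [← LinearMap.comp_apply, LinearMap.lTensor_comp_rTensor, ← LinearMap.rTensor_comp_lTensor,
    LinearMap.comp_apply]
  have hcu := LinearMap.congr_fun cW.counit_comp w
  simp only [LinearMap.comp_apply, LinearMap.flip_apply, TensorProduct.mk_apply] at hcu
  have : (Bialgebra.counitAlgHom k H).toLinearMap = Coalgebra.counit (R := k) (A := H) := rfl
  rw [this, hcu, LinearMap.rTensor_tmul]
  rfl

end General

/-- the comodule structure on the polynomial ring -/
noncomputable def comodP : HopfRep.Comod k H (MvPolynomial (Fin n) A₀) where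
  coact := (rhoP cA hAmul hAone c V hV b).toLinearMap
  coassoc := by
    have hEq : (Algebra.TensorProduct.assoc k k k (MvPolynomial (Fin n) A₀) H H).toAlgHom.comp
        ((Algebra.TensorProduct.map (rhoP cA hAmul hAone c V hV b) (AlgHom.id k H)).comp
          (rhoP cA hAmul hAone c V hV b)) =
        (Algebra.TensorProduct.map (AlgHom.id k (MvPolynomial (Fin n) A₀))
          (Bialgebra.comulAlgHom k H)).comp (rhoP cA hAmul hAone c V hV b) := by
      apply algHom_ext'
      · intro a
        simp only [AlgHom.comp_apply]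
        rw [← CA_apply (k := k)]
        exact coassoc_of_lin _ cA (CA (k := k) (n := n)).toLinearMap
          (rhoP_CA cA hAmul hAone c V hV b) a
      · intro j
        simp only [AlgHom.comp_apply]
        rw [← L_basis V b j]
        exact coassoc_of_lin _ (ComodSub.Comod.restr c V hV) (L V b A₀)
          (rhoP_L cA hAmul hAone c V hV b) (b j)
    apply LinearMap.ext
    intro p
    have := AlgHom.congr_fun hEq p
    simp only [AlgHom.comp_apply] at this
    rw [map_eq_rTensor, map_eq_lTensor, assoc_eq] at this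
    exact this
  counit_comp := by
    have hEq : (Algebra.TensorProduct.map (AlgHom.id k (MvPolynomial (Fin n) A₀))
          (Bialgebra.counitAlgHom k H)).comp (rhoP cA hAmul hAone c V hV b) =
        (Algebra.TensorProduct.includeLeft : MvPolynomial (Fin n) A₀ →ₐ[k]
          MvPolynomial (Fin n) A₀ ⊗[k] k) := by
      apply algHom_ext'
      · intro a
        simp only [AlgHom.comp_apply]
        rw [← CA_apply (k := k)]
        exact counit_of_lin _ cA (CA (k := k) (n := n)).toLinearMap
          (rhoP_CA cA hAmul hAone c V hV b) a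
      · intro j
        simp only [AlgHom.comp_apply]
        rw [← L_basis V b j]
        exact counit_of_lin _ (ComodSub.Comod.restr c V hV) (L V b A₀)
          (rhoP_L cA hAmul hAone c V hV b) (b j)
    apply LinearMap.ext
    intro p
    have := AlgHom.congr_fun hEq p
    simp only [AlgHom.comp_apply] at this
    rw [map_eq_lTensor] at this
    simpa using this

theorem comodP_coact (p : MvPolynomial (Fin n) A₀) :
    (comodP cA hAmul hAone c V hV b).coact p = rhoP cA hAmul hAone c V hV b p := rfl

theorem isLinAct : HilbertRel.IsLinAct (comodP cA hAmul hAone c V hV b) := by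
  refine ⟨fun f g => map_mul (rhoP cA hAmul hAone c V hV b) f g,
    map_one (rhoP cA hAmul hAone c V hV b), ?_, ?_⟩
  · intro i
    rw [comodP_coact, rhoP_X, gen]
    generalize (ComodSub.Comod.restr c V hV).coact (b i) = z
    induction z using TensorProduct.induction_on with
    | zero => simp
    | add x y hx hy => rw [map_add]; exact Submodule.add_mem _ hx hy
    | tmul v a =>
      rw [LinearMap.rTensor_tmul]
      exact HilbertRel.tmul_mem_T (L_mem V b v) a
  · intro a
    rw [comodP_coact, rhoP_C, rhoC_apply]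
    generalize cA.coact a = z
    induction z using TensorProduct.induction_on with
    | zero => simp
    | add x y hx hy => rw [map_add]; exact Submodule.add_mem _ hx hy
    | tmul v a =>
      rw [LinearMap.rTensor_tmul]
      exact HilbertRel.tmul_mem_T (isHomogeneous_C (Fin n) v) a

section Surj

variable [Algebra A₀ R] [IsScalarTower k A₀ R]

/-- the equivariant surjection onto `R` -/
noncomputable def piR : MvPolynomial (Fin n) A₀ →ₐ[k] R :=
  (aeval (fun j => ((b j : V) : R)) : MvPolynomial (Fin n) A₀ →ₐ[A₀] R).restrictScalars k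

theorem piR_X (j : Fin n) : piR (A₀ := A₀) V b (X j) = ((b j : V) : R) := by
  simp [piR]

theorem piR_C (a : A₀) : piR (A₀ := A₀) V b (C a) = algebraMap A₀ R a := by
  simp [piR]

theorem piR_L (v : V) : piR V b (L V b A₀ v) = (v : R) := by
  have : (piR (A₀ := A₀) V b).toLinearMap ∘ₗ L V b A₀ = V.subtype := by
    apply b.ext
    intro j
    simp [L_basis, piR_X]
  exact LinearMap.congr_fun this v

theorem piR_hom (hmul : ∀ f g : R, c.coact (f * g) = c.coact f * c.coact g)
    (hone : c.coact (1 : R) = 1)
    (hAR : ∀ a : A₀, c.coact (algebraMap A₀ R a) =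
      (IsScalarTower.toAlgHom k A₀ R).toLinearMap.rTensor H (cA.coact a))
    (p : MvPolynomial (Fin n) A₀) :
    c.coact (piR V b p) =
      (piR V b).toLinearMap.rTensor H ((comodP cA hAmul hAone c V hV b).coact p) := by
  let cR : R →ₐ[k] R ⊗[k] H := AlgHom.ofLinearMap c.coact hone hmul
  have hEq : cR.comp (piR V b) =
      (Algebra.TensorProduct.map (piR V b) (AlgHom.id k H)).comp
        (rhoP cA hAmul hAone c V hV b) := by
    apply algHom_ext'
    · intro a
      simp only [AlgHom.comp_apply]
      rw [rhoP_C, rhoC_apply, map_eq_rTensor, piR_C, ← LinearMap.comp_apply,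
        ← LinearMap.rTensor_comp]
      have : (piR (A₀ := A₀) V b).toLinearMap ∘ₗ (CA (k := k) (n := n)).toLinearMap =
          (IsScalarTower.toAlgHom k A₀ R).toLinearMap := by
        apply LinearMap.ext
        intro a'
        simp [CA_apply, piR_C]
      rw [this]
      exact hAR a
    · intro j
      simp only [AlgHom.comp_apply]
      rw [← L_basis V b j, rhoP_L, map_eq_rTensor, piR_L, ← LinearMap.comp_apply,
        ← LinearMap.rTensor_comp]
      have : (piR (A₀ := A₀) V b).toLinearMap ∘ₗ L V b A₀ = V.subtype := by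
        apply LinearMap.ext
        intro v
        exact piR_L V b v
      rw [this, ComodSub.restr_coact_coe]
      rfl
  have := AlgHom.congr_fun hEq p
  simp only [AlgHom.comp_apply] at this
  rw [map_eq_rTensor] at this
  exact this

end Surj

section Main

variable [Algebra A₀ R] [IsScalarTower k A₀ R]

include hAmul hAone in
/-- relative Hilbert finiteness -/
theorem exists_finset_generators_rel [IsNoetherianRing A₀] [Algebra.FiniteType A₀ R]
    (hmul : ∀ f g : R, c.coact (f * g) = c.coact f * c.coact g)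
    (hone : c.coact (1 : R) = 1)
    (hAR : ∀ a : A₀, c.coact (algebraMap A₀ R a) =
      (IsScalarTower.toAlgHom k A₀ R).toLinearMap.rTensor H (cA.coact a))
    (α : H →ₗ[k] k)
    (hα : @Hoch.IsComodHom k _ H _ _ _ H _ _ _ k _ _ (HopfRep.Comod.trivial k H k) α)
    (h1 : α 1 = 1) :
    ∃ s : Finset R, (∀ f ∈ s, c.coact f = f ⊗ₜ[k] (1 : H)) ∧
      ∀ f : R, c.coact f = f ⊗ₜ[k] (1 : H) →
        f ∈ Algebra.adjoin k
          ((algebraMap A₀ R) '' {a | cA.coact a = a ⊗ₜ[k] (1 : H)} ∪ (s : Set R)) := by
  classical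
  obtain ⟨t, ht⟩ := (Algebra.FiniteType.out : (⊤ : Subalgebra A₀ R).FG)
  obtain ⟨V, hVfin, htV, hV⟩ := HilbertFin2.exists_finite_isSub_finset c t
  let b := Module.finBasis k V
  have hact := isLinAct cA hAmul hAone c V hV b
  obtain ⟨s, hs1, hs2⟩ := HilbertRel.exists_finset_generators hact α hα h1
  have hsurj : Function.Surjective (piR (A₀ := A₀) V b) := by
    have hr : (aeval (fun j => ((b j : V) : R)) : MvPolynomial (Fin _) A₀ →ₐ[A₀] R).range = ⊤ := by
      rw [eq_top_iff, ← ht]
      apply Algebra.adjoin_le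
      intro x hx
      exact ⟨L V b A₀ ⟨x, htV hx⟩, piR_L V b _⟩
    intro r
    have : r ∈ (aeval (fun j => ((b j : V) : R)) : MvPolynomial (Fin _) A₀ →ₐ[A₀] R).range := by
      rw [hr]; trivial
    obtain ⟨p, hp⟩ := this
    exact ⟨p, hp⟩
  have hCinj : Function.Injective
      ((CA (k := k) (A₀ := A₀) (n := Module.finrank k V)).toLinearMap.rTensor H) := by
    apply Module.Flat.rTensor_preserves_injective_linearMap
    intro x y hxy
    exact MvPolynomial.C_injective _ _ hxy
  refine ⟨s.image (piR V b), ?_, ?_⟩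
  · intro f hf
    obtain ⟨p, hp, rfl⟩ := Finset.mem_image.mp hf
    rw [piR_hom cA hAmul hAone c V hV b hmul hone hAR, hs1 p hp, LinearMap.rTensor_tmul]
    rfl
  · intro r hr
    obtain ⟨p, rfl⟩ := hsurj r
    have hE : reyn c α (piR V b p) = piR V b p := reyn_of_fixed c α h1 hr
    have hnat : reyn c α ((piR V b).toLinearMap p) =
        (piR V b).toLinearMap (reyn (comodP cA hAmul hAone c V hV b) α p) :=
      reyn_natural (comodP cA hAmul hAone c V hV b) c α (piR V b).toLinearMap p
        (piR_hom cA hAmul hAone c V hV b hmul hone hAR p)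
    have hmem := hs2 _ (coact_reyn (comodP cA hAmul hAone c V hV b) α hα p)
    rw [← hE]
    have himg : (piR (A₀ := A₀) V b) '' ({f | ∃ a : A₀, f = C a ∧
        (comodP cA hAmul hAone c V hV b).coact (C a) = C a ⊗ₜ[k] (1 : H)} ∪
          (s : Set (MvPolynomial (Fin _) A₀))) ⊆
        (algebraMap A₀ R) '' {a | cA.coact a = a ⊗ₜ[k] (1 : H)} ∪
          ((s.image (piR V b) : Finset R) : Set R) := by
      rintro _ ⟨f, (⟨a, rfl, ha⟩ | hf), rfl⟩
      · left
        refine ⟨a, ?_, (piR_C V b a).symm⟩
        show cA.coact a = a ⊗ₜ[k] (1 : H)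
        apply hCinj
        rw [LinearMap.rTensor_tmul]
        rw [comodP_coact, rhoP_C, rhoC_apply] at ha
        exact ha
      · right
        rw [Finset.coe_image]
        exact ⟨f, hf, rfl⟩
    have h3 : (piR V b) (reyn (comodP cA hAmul hAone c V hV b) α p) ∈
        Algebra.adjoin k ((piR (A₀ := A₀) V b) '' ({f | ∃ a : A₀, f = C a ∧
        (comodP cA hAmul hAone c V hV b).coact (C a) = C a ⊗ₜ[k] (1 : H)} ∪
          (s : Set (MvPolynomial (Fin _) A₀)))) := by
      rw [← AlgHom.map_adjoin]
      exact ⟨_, hmem, rfl⟩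
    have h4 := Algebra.adjoin_mono himg h3
    rw [show reyn c α ((piR V b) p) = reyn c α ((piR V b).toLinearMap p) from rfl, hnat]
    exact h4

end Main

end HilbertRel2

end Groth.Agent.Lib.Helper96
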