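import Groth.Agent.Lib.Helper96.KerType

set_option autoImplicit false
universe u
open TensorProduct PrimeSpectrum

namespace Groth.Agent.Lib.Helper96.KerCover

open Groth.Agent.Lib.Helper96.KerGlue Groth.Agent.Lib.Helper96.DiagBC
open Groth.Agent.Lib.Helper96.BaseChangeBialg Groth.Agent.Lib.Helper96.KerType

variable {R : Type u} [CommRing R]

theorem ker_residue (K : Type u) [CommRing K] [Algebra R K] (Q : PrimeSpectrum K) :
    RingHom.ker (algebraMap R Q.asIdeal.ResidueField) =
      (comap (algebraMap R K) Q).asIdeal := by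
  ext r
  rw [RingHom.mem_ker, IsScalarTower.algebraMap_apply R K Q.asIdeal.ResidueField,
    Ideal.algebraMap_residueField_eq_zero]
  rfl

/-- a flat `R`-algebra in which `h` is a unit and which covers `D(h)` is faithfully flat over
`R_h` -/
theorem exists_away_algebra (K : Type u) [CommRing K] [Algebra R K] [Module.Flat R K] (h : R)
    (hu : IsUnit (algebraMap R K h))
    (hcov : ∀ q : PrimeSpectrum R, h ∉ q.asIdeal → q ∈ Set.range (comap (algebraMap R K))) :
    ∃ (_ : Algebra (Localization.Away h) K), IsScalarTower R (Localization.Away h) K ∧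
      Module.FaithfullyFlat (Localization.Away h) K := by
  let ρ : Localization.Away h →+* K := IsLocalization.Away.lift h hu
  letI : Algebra (Localization.Away h) K := ρ.toAlgebra
  have tower : IsScalarTower R (Localization.Away h) K :=
    IsScalarTower.of_algebraMap_eq (fun r => (IsLocalization.Away.lift_eq h hu r).symm)
  have hflat : Module.Flat (Localization.Away h) K :=
    (Module.flat_iff_of_isLocalization (Localization.Away h) (Submonoid.powers h) K).mpr
      inferInstance
  refine ⟨inferInstance, tower, ?_⟩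
  apply Module.FaithfullyFlat.of_comap_surjective
  intro q'
  have hq : h ∉ (comap (algebraMap R (Localization.Away h)) q').asIdeal := by
    intro hh
    have h1 : algebraMap R (Localization.Away h) h ∈ q'.asIdeal := hh
    exact q'.2.ne_top (Ideal.eq_top_of_isUnit_mem _ h1 (IsLocalization.Away.algebraMap_isUnit h))
  obtain ⟨Q, hQ⟩ := hcov _ hq
  refine ⟨Q, ?_⟩
  apply localization_comap_injective (Localization.Away h) (Submonoid.powers h)
  rw [← hQ, ← comap_comp_apply, ← IsScalarTower.algebraMap_eq]

/-- fpqc descent of openness on `D(h)` -/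
theorem isOpen_inter_basicOpen (K : Type u) [CommRing K] [Algebra R K] [Module.Flat R K] (h : R)
    (hu : IsUnit (algebraMap R K h))
    (hcov : ∀ q : PrimeSpectrum R, h ∉ q.asIdeal → q ∈ Set.range (comap (algebraMap R K)))
    (S₀ : Set (PrimeSpectrum R)) (hopen : IsOpen (comap (algebraMap R K) ⁻¹' S₀)) :
    IsOpen (S₀ ∩ (basicOpen h : Set (PrimeSpectrum R))) := by
  obtain ⟨inst, tower, hff⟩ := exists_away_algebra K h hu hcov
  have hfl : (algebraMap (Localization.Away h) K).Flat := RingHom.flat_algebraMap_iff.mpr inferInstance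
  have hq : Topology.IsQuotientMap (comap (algebraMap (Localization.Away h) K)) :=
    isQuotientMap_of_generalizingMap PrimeSpectrum.comap_surjective_of_faithfullyFlat
      hfl.generalizingMap_comap
  have h1 : IsOpen (comap (algebraMap R (Localization.Away h)) ⁻¹' S₀) := by
    rw [← hq.isOpen_preimage]
    have : comap (algebraMap (Localization.Away h) K) ⁻¹'
        (comap (algebraMap R (Localization.Away h)) ⁻¹' S₀) = comap (algebraMap R K) ⁻¹' S₀ := by
      ext Q
      simp only [Set.mem_preimage]
      rw [← comap_comp_apply, ← IsScalarTower.algebraMap_eq]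
    rw [this]
    exact hopen
  have h2 := (localization_away_isOpenEmbedding (Localization.Away h) h).isOpenMap _ h1
  rwa [Set.image_preimage_eq_inter_range, localization_away_comap_range (Localization.Away h) h]
    at h2

/-- criterion for constant multiplicative type over `R_h` -/
theorem isMultTypeConst_away (B : Type u) [CommRing B] [HopfAlgebra R B] (h : R)
    (K : Type u) [CommRing K] [Algebra R K] [Module.Flat R K]
    (hu : IsUnit (algebraMap R K h))
    (hcov : ∀ q : PrimeSpectrum R, h ∉ q.asIdeal → q ∈ Set.range (comap (algebraMap R K)))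
    (T : Type u) [CommGroup T] (e : K ⊗[R] B ≃ₐc[K] MonoidAlgebra K T) :
    SGA3b.IsMultTypeConst (Localization.Away h) (Localization.Away h ⊗[R] B) := by
  obtain ⟨inst, tower, hff⟩ := exists_away_algebra K h hu hcov
  exact ⟨K, inferInstance, inferInstance, hff, T, inferInstance,
    ⟨(cbc R (Localization.Away h) K B).trans e⟩⟩

/-- normal form of the multiplicative-type hypothesis at a prime -/
theorem exists_flat_cover (A : Type u) [CommRing A] [HopfAlgebra R A] (hA : SGA3b.IsMultType R A)
    (p : Ideal R) [hp : p.IsPrime] :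
    ∃ f ∉ p, ∃ (K : Type u) (_ : CommRing K) (_ : Algebra R K), Module.Flat R K ∧
      IsUnit (algebraMap R K f) ∧
      (∀ q : PrimeSpectrum R, f ∉ q.asIdeal → q ∈ Set.range (comap (algebraMap R K))) ∧
      ∃ (M : Type u) (_ : CommGroup M), Nonempty (K ⊗[R] A ≃ₐc[K] MonoidAlgebra K M) := by
  obtain ⟨s, hs, hf⟩ := hA
  have hex : ∃ f ∈ s, f ∉ p := by
    by_contra hcon
    push_neg at hcon
    have : Ideal.span s ≤ p := Ideal.span_le.mpr hcon
    rw [hs] at this
    exact hp.ne_top (top_le_iff.mp this)
  obtain ⟨f, hfs, hfp⟩ := hex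
  obtain ⟨R', _, _, hff, M, _, ⟨e⟩⟩ := hf f hfs
  letI : Algebra R R' :=
    ((algebraMap (Localization.Away f) R').comp (algebraMap R (Localization.Away f))).toAlgebra
  have tower : IsScalarTower R (Localization.Away f) R' :=
    IsScalarTower.of_algebraMap_eq (fun _ => rfl)
  have hfl1 : Module.Flat R (Localization.Away f) := IsLocalization.flat _ (Submonoid.powers f)
  have hfl : Module.Flat R R' := Module.Flat.trans R (Localization.Away f) R'
  have hunit : IsUnit (algebraMap R R' f) :=
    (IsLocalization.Away.algebraMap_isUnit (S := Localization.Away f) f).map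
      (algebraMap (Localization.Away f) R')
  refine ⟨f, hfp, R', inferInstance, inferInstance, hfl, hunit, ?_, M, inferInstance,
    ⟨(cbc R (Localization.Away f) R' A).symm.trans e⟩⟩
  intro q hq
  have h1 : q ∈ Set.range (comap (algebraMap R (Localization.Away f))) := by
    rw [localization_away_comap_range (Localization.Away f) f]
    exact hq
  obtain ⟨q', hq'⟩ := h1
  obtain ⟨Q, hQ⟩ := PrimeSpectrum.comap_surjective_of_faithfullyFlat (A := Localization.Away f)
    (B := R') q'
  refine ⟨Q, ?_⟩
  rw [← hq', ← hQ, ← comap_comp_apply, ← IsScalarTower.algebraMap_eq]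

/-- a common diagonalising flat cover for two Hopf algebras -/
theorem exists_common (A : Type u) [CommRing A] [HopfAlgebra R A]
    (C : Type u) [CommRing C] [HopfAlgebra R C] (f g : R)
    (KA : Type u) [CommRing KA] [Algebra R KA] [Module.Flat R KA]
    (huA : IsUnit (algebraMap R KA f))
    (hcovA : ∀ q : PrimeSpectrum R, f ∉ q.asIdeal → q ∈ Set.range (comap (algebraMap R KA)))
    (KC : Type u) [CommRing KC] [Algebra R KC] [Module.Flat R KC]
    (huC : IsUnit (algebraMap R KC g))
    (hcovC : ∀ q : PrimeSpectrum R, g ∉ q.asIdeal → q ∈ Set.range (comap (algebraMap R KC)))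
    (M N : Type u) [CommGroup M] [CommGroup N]
    (eA0 : KA ⊗[R] A ≃ₐc[KA] MonoidAlgebra KA M) (eC0 : KC ⊗[R] C ≃ₐc[KC] MonoidAlgebra KC N) :
    ∃ (R₁ : Type u) (_ : CommRing R₁) (_ : Algebra R R₁), Module.Flat R R₁ ∧
      IsUnit (algebraMap R R₁ (f * g)) ∧
      (∀ q : PrimeSpectrum R, f ∉ q.asIdeal → g ∉ q.asIdeal →
        q ∈ Set.range (comap (algebraMap R R₁))) ∧
      Nonempty (R₁ ⊗[R] A ≃ₐc[R₁] MonoidAlgebra R₁ M) ∧
      Nonempty (R₁ ⊗[R] C ≃ₐc[R₁] MonoidAlgebra R₁ N) := by
  letI : Algebra KC (KA ⊗[R] KC) := Algebra.TensorProduct.rightAlgebra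
  have tw : IsScalarTower R KC (KA ⊗[R] KC) := Algebra.TensorProduct.right_isScalarTower
  have hunit : IsUnit (algebraMap R (KA ⊗[R] KC) (f * g)) := by
    rw [map_mul]
    apply IsUnit.mul
    · rw [IsScalarTower.algebraMap_apply R KA (KA ⊗[R] KC)]
      exact huA.map _
    · rw [IsScalarTower.algebraMap_apply R KC (KA ⊗[R] KC)]
      exact huC.map _
  refine ⟨KA ⊗[R] KC, inferInstance, inferInstance, inferInstance, hunit, ?_,
    ⟨diagBaseChange R KA (KA ⊗[R] KC) A M eA0⟩, ⟨diagBaseChange R KC (KA ⊗[R] KC) C N eC0⟩⟩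
  intro q hf hg
  obtain ⟨QA, hQA⟩ := hcovA q hf
  obtain ⟨QC, hQC⟩ := hcovC q hg
  have hker : RingHom.ker (algebraMap R QA.asIdeal.ResidueField) =
      RingHom.ker (algebraMap R QC.asIdeal.ResidueField) := by
    rw [ker_residue, ker_residue, hQA, hQC]
  obtain ⟨Ω, _, _, fA, fC, -⟩ := exists_common_ext R _ _ hker
  let σ : KA ⊗[R] KC →ₐ[R] Ω :=
    Algebra.TensorProduct.lift
      (fA.comp (IsScalarTower.toAlgHom R KA QA.asIdeal.ResidueField))
      (fC.comp (IsScalarTower.toAlgHom R KC QC.asIdeal.ResidueField))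
      (fun _ _ => Commute.all _ _)
  refine ⟨⟨RingHom.ker σ.toRingHom, RingHom.ker_isPrime _⟩, ?_⟩
  ext r
  change algebraMap R (KA ⊗[R] KC) r ∈ RingHom.ker σ.toRingHom ↔ r ∈ q.asIdeal
  rw [RingHom.mem_ker]
  have h1 : σ.toRingHom (algebraMap R (KA ⊗[R] KC) r) = algebraMap R Ω r := σ.commutes r
  rw [h1, ← fA.commutes r, map_eq_zero, ← RingHom.mem_ker, ker_residue, hQA]

end Groth.Agent.Lib.Helper96.KerCover
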