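import Groth.Agent.Lib.Helper96.DiagBC

set_option autoImplicit false
universe u
open TensorProduct

namespace Groth.Agent.Lib.Helper96.KerGlue

open Groth.Agent.Lib.Helper96.TorsKer2

section OrthIdem

variable {K : Type*} [CommRing K] {ι : Type*} [Fintype ι] (ε : ι → K)
  (h1 : ∀ i, ε i * ε i = ε i) (h2 : ∀ i j, i ≠ j → ε i * ε j = 0) (h3 : ∑ i, ε i = 1)

section Mod
variable {B : Type*} [AddCommGroup B] [Module K B]

include h1 h2 in
theorem smul_sum_smul (j : ι) (a : ι → B) : ε j • ∑ i, ε i • a i = ε j • a j := by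
  rw [Finset.smul_sum, Finset.sum_eq_single j]
  · rw [smul_smul, h1]
  · intro i _ hij
    rw [smul_smul, h2 j i (Ne.symm hij), zero_smul]
  · intro h
    exact absurd (Finset.mem_univ j) h

include h3 in
theorem sum_smul_const (b : B) : ∑ i, ε i • b = b := by
  rw [← Finset.sum_smul, h3, one_smul]

include h3 in
theorem eq_of_forall_smul_eq {x y : B} (h : ∀ i, ε i • x = ε i • y) : x = y := by
  rw [← sum_smul_const ε h3 x, ← sum_smul_const ε h3 y]
  exact Finset.sum_congr rfl (fun i _ => h i)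

end Mod

section Alg
variable {B : Type*} [CommRing B] [Algebra K B]

include h1 h2 in
theorem sum_smul_mul (a b : ι → B) :
    (∑ i, ε i • a i) * (∑ i, ε i • b i) = ∑ i, ε i • (a i * b i) := by
  rw [Finset.sum_mul]
  apply Finset.sum_congr rfl
  intro i _
  rw [Finset.mul_sum, Finset.sum_eq_single i]
  · rw [smul_mul_smul_comm, h1]
  · intro j _ hji
    rw [smul_mul_smul_comm, h2 i j (Ne.symm hji), zero_smul]
  · intro h
    exact absurd (Finset.mem_univ i) h

end Alg

section Bialg
variable {B : Type*} [CommRing B] [Bialgebra K B]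

include h1 h2 h3 in
theorem isGroupLikeElem_sum (x : ι → B) (hx : ∀ i, IsGroupLikeElem K (x i)) :
    IsGroupLikeElem K (∑ i, ε i • x i) where
  counit_eq_one := by
    rw [map_sum]
    have : ∀ i, Coalgebra.counit (R := K) (ε i • x i) = ε i := fun i => by
      rw [map_smul, (hx i).counit_eq_one, smul_eq_mul, mul_one]
    simp only [this, h3]
  comul_eq_tmul_self := by
    rw [map_sum, TensorProduct.sum_tmul]
    apply Finset.sum_congr rfl
    intro i _
    rw [map_smul, (hx i).comul_eq_tmul_self, TensorProduct.tmul_sum, Finset.sum_eq_single i]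
    · rw [TensorProduct.smul_tmul_smul, h1]
    · intro j _ hji
      rw [TensorProduct.smul_tmul_smul, h2 i j (Ne.symm hji), zero_smul]
    · intro h
      exact absurd (Finset.mem_univ i) h

end Bialg
end OrthIdem

section KL

variable {R : Type u} [CommRing R] {A : Type u} [CommRing A] [HopfAlgebra R A]
  {C : Type u} [CommRing C] [HopfAlgebra R C] (φ : C →ₐc[R] A)
  (J : Ideal A) [J.IsHopfIdeal R]
  (hJ : J = Ideal.map φ (RingHom.ker (Bialgebra.counitAlgHom R C)))
  (K : Type u) [CommRing K] [Algebra R K]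
  {M N T : Type u} [CommGroup M] [CommGroup N] [CommGroup T]
  (eA : K ⊗[R] A ≃ₐc[K] MonoidAlgebra K M) (eC : K ⊗[R] C ≃ₐc[K] MonoidAlgebra K N)

/-- base change of `φ` -/
noncomputable def bcφ : K ⊗[R] C →ₐc[K] K ⊗[R] A :=
  Bialgebra.TensorProduct.map (BialgHom.id K K) φ

theorem bcφ_tmul (k : K) (c : C) : bcφ φ K (k ⊗ₜ[R] c) = k ⊗ₜ[R] φ c := rfl

/-- `φ` in diagonalised form -/
noncomputable def phi' : MonoidAlgebra K N →ₐc[K] MonoidAlgebra K M :=
  (eA : K ⊗[R] A →ₐc[K] MonoidAlgebra K M).comp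
    ((bcφ φ K).comp (eC.symm : MonoidAlgebra K N →ₐc[K] K ⊗[R] C))

theorem phi'_apply (y : MonoidAlgebra K N) : phi' φ K eA eC y = eA (bcφ φ K (eC.symm y)) := rfl

theorem phi'_eC (x : K ⊗[R] C) : phi' φ K eA eC (eC x) = eA (bcφ φ K x) := by
  rw [phi'_apply, eC.symm_apply_apply]

include hJ in
theorem mk_phi (c : C) :
    Ideal.Quotient.mk J (φ c) = algebraMap R (A ⧸ J) (Coalgebra.counit c) := by
  have h1 : φ (c - algebraMap R C (Coalgebra.counit c)) ∈ J := by
    rw [hJ]
    apply Ideal.mem_map_of_mem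
    rw [RingHom.mem_ker, map_sub]
    simp
  rw [map_sub, AlgHomClass.commutes] at h1
  have h2 := Ideal.Quotient.eq_zero_iff_mem.mpr h1
  rw [map_sub, sub_eq_zero] at h2
  rw [h2]
  rfl

include hJ in
theorem Phi_bc (x : K ⊗[R] C) :
    Phi R K J (bcφ φ K x) = algebraMap K _ (Coalgebra.counit (R := K) x) := by
  induction x using TensorProduct.induction_on with
  | zero => simp
  | add x y hx hy => rw [map_add, map_add, hx, hy, map_add, map_add]
  | tmul k c =>
    rw [bcφ_tmul, Phi_tmul, mk_phi φ J hJ]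
    have e1 : (algebraMap R (A ⧸ J)) (Coalgebra.counit c) =
        (Coalgebra.counit (R := R) c) • (1 : A ⧸ J) := Algebra.algebraMap_eq_smul_one _
    rw [e1, TensorProduct.tmul_smul, TensorProduct.smul_tmul', TensorProduct.counit_tmul,
      Algebra.TensorProduct.algebraMap_apply]
    rfl

/-- shorthand: the image of `m` in `K ⊗ (A ⧸ J)` -/
noncomputable def cc (m : M) : K ⊗[R] (A ⧸ J) :=
  Phi R K J (eA.symm (MonoidAlgebra.single m 1))

theorem cc_eq (m : M) : cc J K eA m = (g0 R K J eA m).val := rfl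

theorem cc_mul (m m' : M) : cc J K eA (m * m') = cc J K eA m * cc J K eA m' := by
  rw [cc_eq, cc_eq, cc_eq, map_mul, GroupLike.val_mul]

theorem cc_one : cc J K eA 1 = 1 := by rw [cc_eq, map_one, GroupLike.val_one]

theorem cc_groupLike (m : M) : IsGroupLikeElem K (cc J K eA m) :=
  (g0 R K J eA m).isGroupLikeElem_val

/-- gluing data: orthogonal idempotents on which `φ` is induced by group homs with the same
cokernel -/
structure GlueData (ι : Type*) [Fintype ι] (T : Type u) [CommGroup T] where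
  ε : ι → K
  h1 : ∀ i, ε i * ε i = ε i
  h2 : ∀ i j, i ≠ j → ε i * ε j = 0
  h3 : ∑ i, ε i = 1
  ψ : ι → N →* M
  τ : ι → M →* T
  hτs : ∀ i, Function.Surjective (τ i)
  hτk : ∀ i, (τ i).ker = (ψ i).range
  hcompat : ∀ i ν, ε i • phi' φ K eA eC (MonoidAlgebra.single ν 1) =
    ε i • MonoidAlgebra.single (ψ i ν) 1

variable {φ} {K} {eA} {eC}
variable {ι : Type*} [Fintype ι] (D : GlueData φ K eA eC ι T)

include hJ in
theorem fact1 (i : ι) (ν : N) : D.ε i • cc J K eA (D.ψ i ν) = D.ε i • 1 := by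
  unfold cc
  rw [← map_smul, ← map_smul, ← D.hcompat i ν, map_smul, map_smul, phi'_apply,
    eA.symm_apply_apply, Phi_bc φ J hJ]
  have : Coalgebra.counit (R := K) (eC.symm (MonoidAlgebra.single ν 1)) = 1 := by
    rw [CoalgHomClass.counit_comp_apply eC.symm]
    simp
  rw [this, map_one]

include hJ in
theorem fact1' (i : ι) {m m' : M} (h : D.τ i m = D.τ i m') :
    D.ε i • cc J K eA m = D.ε i • cc J K eA m' := by
  have hm : m⁻¹ * m' ∈ (D.τ i).ker := by
    rw [MonoidHom.mem_ker, map_mul, map_inv, h, inv_mul_cancel]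
  rw [D.hτk i] at hm
  obtain ⟨ν, hν⟩ := hm
  have : m' = m * D.ψ i ν := by rw [hν, mul_inv_cancel_left]
  rw [this, cc_mul, ← mul_smul_comm, fact1 J hJ D i ν, mul_smul_comm, mul_one]

/-- sections of the `τ i` -/
noncomputable def sec (i : ι) : T → M := Function.surjInv (D.hτs i)

theorem τ_sec (i : ι) (μ : T) : D.τ i (sec D i μ) = μ := Function.surjInv_eq (D.hτs i) μ

/-- glued group-like elements -/
noncomputable def gval (μ : T) : K ⊗[R] (A ⧸ J) := ∑ i, D.ε i • cc J K eA (sec D i μ)

theorem gval_groupLike (μ : T) : IsGroupLikeElem K (gval J D μ) :=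
  isGroupLikeElem_sum D.ε D.h1 D.h2 D.h3 _ (fun i => cc_groupLike J K eA _)

include hJ in
theorem gval_one : gval J D 1 = 1 := by
  unfold gval
  have : ∀ i, D.ε i • cc J K eA (sec D i 1) = D.ε i • (1 : K ⊗[R] (A ⧸ J)) := fun i => by
    rw [fact1' J hJ D i (m' := 1) (by rw [τ_sec, map_one]), cc_one]
  simp only [this]
  exact sum_smul_const D.ε D.h3 1

include hJ in
theorem gval_mul (μ μ' : T) : gval J D (μ * μ') = gval J D μ * gval J D μ' := by
  unfold gval
  refine Eq.trans ?_ (sum_smul_mul D.ε D.h1 D.h2 (fun i => cc J K eA (sec D i μ))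
    (fun i => cc J K eA (sec D i μ'))).symm
  apply Finset.sum_congr rfl
  intro i _
  rw [← cc_mul]
  exact fact1' J hJ D i (by rw [τ_sec, map_mul, τ_sec, τ_sec])

/-- the glued character map -/
noncomputable def g : T →* GroupLike K (K ⊗[R] (A ⧸ J)) where
  toFun μ := ⟨gval J D μ, gval_groupLike J D μ⟩
  map_one' := GroupLike.val_injective (gval_one J hJ D)
  map_mul' μ μ' := GroupLike.val_injective (gval_mul J hJ D μ μ')

/-- the comparison map `K[T] → K ⊗ (A ⧸ J)` -/
noncomputable def G : MonoidAlgebra K T →ₐc[K] K ⊗[R] (A ⧸ J) :=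
  (MonoidAlgebra.liftGroupLikeBialgHom (R := K) (A := K ⊗[R] (A ⧸ J))).comp
    (MonoidAlgebra.mapDomainBialgHom K (g J hJ D))

theorem G_single (μ : T) : G J hJ D (MonoidAlgebra.single μ 1) = gval J D μ := by
  simp [G, g]

/-- glued images of the basis of `K[M]` in `K[T]` -/
noncomputable def θval (m : M) : MonoidAlgebra K T :=
  ∑ i, D.ε i • MonoidAlgebra.single (D.τ i m) (1 : K)

/-- the glued quotient map on group-likes -/
noncomputable def θ : M →* GroupLike K (MonoidAlgebra K T) where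
  toFun m := ⟨θval D m, isGroupLikeElem_sum D.ε D.h1 D.h2 D.h3 _
    (fun i => MonoidAlgebra.isGroupLikeElem_single_one (R := K) (A := K) _)⟩
  map_one' := by
    apply GroupLike.val_injective
    change θval D 1 = 1
    unfold θval
    simp only [map_one, ← MonoidAlgebra.one_def]
    exact sum_smul_const D.ε D.h3 1
  map_mul' m m' := by
    apply GroupLike.val_injective
    change θval D (m * m') = θval D m * θval D m'
    unfold θval
    rw [sum_smul_mul D.ε D.h1 D.h2]
    apply Finset.sum_congr rfl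
    intro i _
    rw [MonoidAlgebra.single_mul_single, mul_one, map_mul]

/-- the glued quotient map `K[M] → K[T]` -/
noncomputable def Θ : MonoidAlgebra K M →ₐc[K] MonoidAlgebra K T :=
  (MonoidAlgebra.liftGroupLikeBialgHom (R := K) (A := MonoidAlgebra K T)).comp
    (MonoidAlgebra.mapDomainBialgHom K (θ D))

theorem Θ_single (m : M) : Θ D (MonoidAlgebra.single m 1) = θval D m := by
  simp [Θ, θ]

theorem Θ_phi'_single (ν : N) : Θ D (phi' φ K eA eC (MonoidAlgebra.single ν 1)) = 1 := by
  apply eq_of_forall_smul_eq D.ε D.h3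
  intro i
  rw [← map_smul, D.hcompat i ν, map_smul, Θ_single, θval, smul_sum_smul D.ε D.h1 D.h2]
  have : D.τ i (D.ψ i ν) = 1 := by
    rw [← MonoidHom.mem_ker, D.hτk i]
    exact ⟨ν, rfl⟩
  rw [this, ← MonoidAlgebra.one_def]

theorem Θ_phi' (y : MonoidAlgebra K N) :
    Θ D (phi' φ K eA eC y) = algebraMap K _ (Coalgebra.counit (R := K) y) := by
  induction y using MonoidAlgebra.induction_on with
  | of ν =>
    have h := Θ_phi'_single D ν
    have hc : Coalgebra.counit (R := K) (MonoidAlgebra.of K N ν) = 1 := by simp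
    rw [hc, map_one]
    exact h
  | add x y hx hy => rw [map_add, map_add, hx, hy, map_add, map_add]
  | smul r x hx =>
    rw [map_smul, map_smul, hx, map_smul, smul_eq_mul, map_mul, Algebra.smul_def]

/-- the glued quotient map from `K ⊗ A` -/
noncomputable def Θ' : K ⊗[R] A →ₐc[K] MonoidAlgebra K T :=
  (Θ D).comp (eA : K ⊗[R] A →ₐc[K] MonoidAlgebra K M)

theorem Θ'_apply (b : K ⊗[R] A) : Θ' D b = Θ D (eA b) := rfl

include hJ in
theorem theta_kills (a : A) (ha : a ∈ J) : Θ' D ((1 : K) ⊗ₜ[R] a) = 0 := by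
  have hle : J ≤ RingHom.ker ((Θ' D : K ⊗[R] A →ₐ[K] MonoidAlgebra K T).toRingHom.comp
      (Algebra.TensorProduct.includeRight (R := R) (A := K) (B := A)).toRingHom) := by
    rw [hJ, Ideal.map_le_iff_le_comap]
    intro x hx
    rw [RingHom.mem_ker] at hx
    rw [Ideal.mem_comap, RingHom.mem_ker]
    change Θ D (eA ((1 : K) ⊗ₜ[R] φ x)) = 0
    rw [← bcφ_tmul, ← phi'_eC (eC := eC), Θ_phi', CoalgHomClass.counit_comp_apply eC,
      TensorProduct.counit_tmul]
    have h2 : Coalgebra.counit (R := R) x = 0 := hx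
    rw [h2, zero_smul, map_zero]
  exact hle ha

/-- the inverse comparison map -/
noncomputable def G' : K ⊗[R] (A ⧸ J) →ₐ[K] MonoidAlgebra K T :=
  Algebra.TensorProduct.lift (Algebra.ofId K _)
    (Ideal.Quotient.liftₐ J
      (((Θ' D : K ⊗[R] A →ₐ[K] MonoidAlgebra K T).restrictScalars R).comp
        (Algebra.TensorProduct.includeRight (R := R) (A := K) (B := A)))
      (fun a ha => theta_kills J hJ D a ha))
    (fun _ _ => Commute.all _ _)

theorem G'_Phi (b : K ⊗[R] A) : G' J hJ D (Phi R K J b) = Θ' D b := by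
  induction b using TensorProduct.induction_on with
  | zero => simp
  | add x y hx hy => rw [map_add, map_add, map_add, hx, hy]
  | tmul r a =>
    rw [Phi_tmul, G', Algebra.TensorProduct.lift_tmul]
    have h1 : r ⊗ₜ[R] a = r • ((1 : K) ⊗ₜ[R] a) := by
      rw [TensorProduct.smul_tmul', smul_eq_mul, mul_one]
    rw [h1, map_smul, Algebra.ofId_apply, Algebra.algebraMap_eq_smul_one, smul_mul_assoc, one_mul]
    rfl

theorem G'_G (y : MonoidAlgebra K T) : G' J hJ D (G J hJ D y) = y := by
  induction y using MonoidAlgebra.induction_on with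
  | of μ =>
    change G' J hJ D (G J hJ D (MonoidAlgebra.single μ 1)) = MonoidAlgebra.single μ 1
    rw [G_single, gval, map_sum]
    have : ∀ i, G' J hJ D (D.ε i • cc J K eA (sec D i μ)) =
        D.ε i • MonoidAlgebra.single μ (1 : K) := by
      intro i
      rw [map_smul, cc, G'_Phi, Θ'_apply, eA.apply_symm_apply, Θ_single, θval,
        smul_sum_smul D.ε D.h1 D.h2, τ_sec]
    simp only [this]
    exact sum_smul_const D.ε D.h3 _
  | add x y hx hy => rw [map_add, map_add, hx, hy]
  | smul r x hx => rw [map_smul, map_smul, hx]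

theorem G_Θ_single (m : M) : G J hJ D (Θ D (MonoidAlgebra.single m 1)) = cc J K eA m := by
  rw [Θ_single, θval, map_sum]
  have : ∀ i, G J hJ D (D.ε i • MonoidAlgebra.single (D.τ i m) (1 : K)) =
      D.ε i • cc J K eA m := by
    intro i
    rw [map_smul, G_single, gval]
    exact (smul_sum_smul D.ε D.h1 D.h2 i _).trans (fact1' J hJ D i (by rw [τ_sec]))
  simp only [this]
  exact sum_smul_const D.ε D.h3 _

theorem G_bijective : Function.Bijective (G J hJ D) := by
  refine ⟨Function.LeftInverse.injective (G'_G J hJ D), ?_⟩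
  intro c
  obtain ⟨b, rfl⟩ := Phi_surjective R K J c
  obtain ⟨y, rfl⟩ : ∃ y, eA.symm y = b := ⟨eA b, eA.symm_apply_apply b⟩
  induction y using MonoidAlgebra.induction_on with
  | of m =>
    exact ⟨Θ D (MonoidAlgebra.single m 1), G_Θ_single J hJ D m⟩
  | add x y hx hy =>
    obtain ⟨x', hx'⟩ := hx
    obtain ⟨y', hy'⟩ := hy
    exact ⟨x' + y', by rw [map_add, map_add, map_add, hx', hy']⟩
  | smul r x hx =>
    obtain ⟨x', hx'⟩ := hx
    exact ⟨r • x', by rw [map_smul, map_smul, map_smul, hx']⟩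

include hJ D in
/-- **Gluing lemma**: the kernel is diagonalisable of type `T` over `K`. -/
theorem exists_bialgEquiv : Nonempty ((K ⊗[R] (A ⧸ J)) ≃ₐc[K] MonoidAlgebra K T) :=
  ⟨(BialgEquiv.ofBijective (G J hJ D) (G_bijective J hJ D)).symm⟩

end KL

end Groth.Agent.Lib.Helper96.KerGlue
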