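import Groth.Agent.Lib.Helper96.KerGlue

set_option autoImplicit false
universe u
open TensorProduct

namespace Groth.Agent.Lib.Helper96.KerGlue2

open Groth.Agent.Lib.Helper96.TorsKer2 Groth.Agent.Lib.Helper96.KerGlue

section KL

variable {R : Type u} [CommRing R] {A : Type u} [CommRing A] [HopfAlgebra R A]
  (J : Ideal A) [J.IsHopfIdeal R]
  (K : Type u) [CommRing K] [Algebra R K]
  {M T : Type u} [CommGroup M] [CommGroup T]
  (eA : K ⊗[R] A ≃ₐc[K] MonoidAlgebra K M)

/-- gluing data (general form): orthogonal idempotents, quotient maps `τ i` of the character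
group whose kernels die in the quotient and which kill `J`. -/
structure GlueData2 (ι : Type*) [Fintype ι] (T : Type u) [CommGroup T] where
  ε : ι → K
  h1 : ∀ i, ε i * ε i = ε i
  h2 : ∀ i j, i ≠ j → ε i * ε j = 0
  h3 : ∑ i, ε i = 1
  τ : ι → M →* T
  hτs : ∀ i, Function.Surjective (τ i)
  hker : ∀ i, ∀ m ∈ (τ i).ker, ε i • cc J K eA m = ε i • 1
  hkill : ∀ i, ∀ a ∈ J, ε i • MonoidAlgebra.mapDomainBialgHom K (τ i) (eA ((1 : K) ⊗ₜ[R] a)) = 0

variable {J} {K} {eA}
variable {ι : Type*} [Fintype ι] (D : GlueData2 J K eA ι T)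

theorem fact1' (i : ι) {m m' : M} (h : D.τ i m = D.τ i m') :
    D.ε i • cc J K eA m = D.ε i • cc J K eA m' := by
  have hm : m⁻¹ * m' ∈ (D.τ i).ker := by
    rw [MonoidHom.mem_ker, map_mul, map_inv, h, inv_mul_cancel]
  have : m' = m * (m⁻¹ * m') := by rw [mul_inv_cancel_left]
  rw [this, cc_mul, ← mul_smul_comm, D.hker i _ hm, mul_smul_comm, mul_one]

/-- sections of the `τ i` -/
noncomputable def sec (i : ι) : T → M := Function.surjInv (D.hτs i)

theorem τ_sec (i : ι) (μ : T) : D.τ i (sec D i μ) = μ := Function.surjInv_eq (D.hτs i) μ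

/-- glued group-like elements -/
noncomputable def gval (μ : T) : K ⊗[R] (A ⧸ J) := ∑ i, D.ε i • cc J K eA (sec D i μ)

theorem gval_groupLike (μ : T) : IsGroupLikeElem K (gval D μ) :=
  isGroupLikeElem_sum D.ε D.h1 D.h2 D.h3 _ (fun i => cc_groupLike J K eA _)

theorem gval_one : gval D 1 = 1 := by
  unfold gval
  have : ∀ i, D.ε i • cc J K eA (sec D i 1) = D.ε i • (1 : K ⊗[R] (A ⧸ J)) := fun i => by
    rw [fact1' D i (m' := 1) (by rw [τ_sec, map_one]), cc_one]
  simp only [this]
  exact sum_smul_const D.ε D.h3 1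

theorem gval_mul (μ μ' : T) : gval D (μ * μ') = gval D μ * gval D μ' := by
  unfold gval
  refine Eq.trans ?_ (sum_smul_mul D.ε D.h1 D.h2 (fun i => cc J K eA (sec D i μ))
    (fun i => cc J K eA (sec D i μ'))).symm
  apply Finset.sum_congr rfl
  intro i _
  rw [← cc_mul]
  exact fact1' D i (by rw [τ_sec, map_mul, τ_sec, τ_sec])

/-- the glued character map -/
noncomputable def g : T →* GroupLike K (K ⊗[R] (A ⧸ J)) where
  toFun μ := ⟨gval D μ, gval_groupLike D μ⟩
  map_one' := GroupLike.val_injective (gval_one D)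
  map_mul' μ μ' := GroupLike.val_injective (gval_mul D μ μ')

/-- the comparison map `K[T] → K ⊗ (A ⧸ J)` -/
noncomputable def G : MonoidAlgebra K T →ₐc[K] K ⊗[R] (A ⧸ J) :=
  (MonoidAlgebra.liftGroupLikeBialgHom (R := K) (A := K ⊗[R] (A ⧸ J))).comp
    (MonoidAlgebra.mapDomainBialgHom K (g D))

theorem G_single (μ : T) : G D (MonoidAlgebra.single μ 1) = gval D μ := by
  simp [G, g]

/-- glued images of the basis of `K[M]` in `K[T]` -/
noncomputable def θval (m : M) : MonoidAlgebra K T :=
  ∑ i, D.ε i • MonoidAlgebra.single (D.τ i m) (1 : K)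

/-- the glued quotient map on group-likes -/
noncomputable def θ : M →* GroupLike K (MonoidAlgebra K T) where
  toFun m := ⟨θval D m, isGroupLikeElem_sum D.ε D.h1 D.h2 D.h3 _
    (fun i => MonoidAlgebra.isGroupLikeElem_single_one (R := K) (A := K) _)⟩
  map_one' := by
    apply GroupLike.val_injective
    change θval D 1 = 1
    unfold θval
    simp only [map_one, ← MonoidAlgebra.one_def]
    exact sum_smul_const D.ε D.h3 1
  map_mul' m m' := by
    apply GroupLike.val_injective
    change θval D (m * m') = θval D m * θval D m'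
    unfold θval
    rw [sum_smul_mul D.ε D.h1 D.h2]
    apply Finset.sum_congr rfl
    intro i _
    rw [MonoidAlgebra.single_mul_single, mul_one, map_mul]

/-- the glued quotient map `K[M] → K[T]` -/
noncomputable def Θ : MonoidAlgebra K M →ₐc[K] MonoidAlgebra K T :=
  (MonoidAlgebra.liftGroupLikeBialgHom (R := K) (A := MonoidAlgebra K T)).comp
    (MonoidAlgebra.mapDomainBialgHom K (θ D))

theorem Θ_single (m : M) : Θ D (MonoidAlgebra.single m 1) = θval D m := by
  simp [Θ, θ]

theorem Θ_eq (y : MonoidAlgebra K M) :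
    Θ D y = ∑ i, D.ε i • MonoidAlgebra.mapDomainBialgHom K (D.τ i) y := by
  induction y using MonoidAlgebra.induction_on with
  | of m =>
    change Θ D (MonoidAlgebra.single m 1) = _
    rw [Θ_single, θval]
    apply Finset.sum_congr rfl
    intro i _
    congr 1
    simp
  | add x y hx hy =>
    rw [map_add, hx, hy, ← Finset.sum_add_distrib]
    apply Finset.sum_congr rfl
    intro i _
    rw [map_add, smul_add]
  | smul r x hx =>
    rw [map_smul, hx, Finset.smul_sum]
    apply Finset.sum_congr rfl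
    intro i _
    rw [map_smul, smul_comm]

/-- the glued quotient map from `K ⊗ A` -/
noncomputable def Θ' : K ⊗[R] A →ₐc[K] MonoidAlgebra K T :=
  (Θ D).comp (eA : K ⊗[R] A →ₐc[K] MonoidAlgebra K M)

theorem Θ'_apply (b : K ⊗[R] A) : Θ' D b = Θ D (eA b) := rfl

theorem theta_kills (a : A) (ha : a ∈ J) : Θ' D ((1 : K) ⊗ₜ[R] a) = 0 := by
  rw [Θ'_apply, Θ_eq]
  apply Finset.sum_eq_zero
  intro i _
  exact D.hkill i a ha

/-- the inverse comparison map -/
noncomputable def G' : K ⊗[R] (A ⧸ J) →ₐ[K] MonoidAlgebra K T :=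
  Algebra.TensorProduct.lift (Algebra.ofId K _)
    (Ideal.Quotient.liftₐ J
      (((Θ' D : K ⊗[R] A →ₐ[K] MonoidAlgebra K T).restrictScalars R).comp
        (Algebra.TensorProduct.includeRight (R := R) (A := K) (B := A)))
      (fun a ha => theta_kills D a ha))
    (fun _ _ => Commute.all _ _)

theorem G'_Phi (b : K ⊗[R] A) : G' D (Phi R K J b) = Θ' D b := by
  induction b using TensorProduct.induction_on with
  | zero => simp
  | add x y hx hy => rw [map_add, map_add, map_add, hx, hy]
  | tmul r a =>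
    rw [Phi_tmul, G', Algebra.TensorProduct.lift_tmul]
    have h1 : r ⊗ₜ[R] a = r • ((1 : K) ⊗ₜ[R] a) := by
      rw [TensorProduct.smul_tmul', smul_eq_mul, mul_one]
    rw [h1, map_smul, Algebra.ofId_apply, Algebra.algebraMap_eq_smul_one, smul_mul_assoc, one_mul]
    rfl

theorem G'_G (y : MonoidAlgebra K T) : G' D (G D y) = y := by
  induction y using MonoidAlgebra.induction_on with
  | of μ =>
    change G' D (G D (MonoidAlgebra.single μ 1)) = MonoidAlgebra.single μ 1
    rw [G_single, gval, map_sum]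
    have : ∀ i, G' D (D.ε i • cc J K eA (sec D i μ)) =
        D.ε i • MonoidAlgebra.single μ (1 : K) := by
      intro i
      rw [map_smul, cc, G'_Phi, Θ'_apply, eA.apply_symm_apply, Θ_single, θval,
        smul_sum_smul D.ε D.h1 D.h2, τ_sec]
    simp only [this]
    exact sum_smul_const D.ε D.h3 _
  | add x y hx hy => rw [map_add, map_add, hx, hy]
  | smul r x hx => rw [map_smul, map_smul, hx]

theorem G_Θ_single (m : M) : G D (Θ D (MonoidAlgebra.single m 1)) = cc J K eA m := by
  rw [Θ_single, θval, map_sum]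
  have : ∀ i, G D (D.ε i • MonoidAlgebra.single (D.τ i m) (1 : K)) =
      D.ε i • cc J K eA m := by
    intro i
    rw [map_smul, G_single, gval]
    exact (smul_sum_smul D.ε D.h1 D.h2 i _).trans (fact1' D i (by rw [τ_sec]))
  simp only [this]
  exact sum_smul_const D.ε D.h3 _

theorem G_bijective : Function.Bijective (G D) := by
  refine ⟨Function.LeftInverse.injective (G'_G D), ?_⟩
  intro c
  obtain ⟨b, rfl⟩ := Phi_surjective R K J c
  obtain ⟨y, rfl⟩ : ∃ y, eA.symm y = b := ⟨eA b, eA.symm_apply_apply b⟩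
  induction y using MonoidAlgebra.induction_on with
  | of m =>
    exact ⟨Θ D (MonoidAlgebra.single m 1), G_Θ_single D m⟩
  | add x y hx hy =>
    obtain ⟨x', hx'⟩ := hx
    obtain ⟨y', hy'⟩ := hy
    exact ⟨x' + y', by rw [map_add, map_add, map_add, hx', hy']⟩
  | smul r x hx =>
    obtain ⟨x', hx'⟩ := hx
    exact ⟨r • x', by rw [map_smul, map_smul, map_smul, hx']⟩

include D in
/-- **Gluing lemma**: the kernel is diagonalisable of type `T` over `K`. -/
theorem exists_bialgEquiv : Nonempty ((K ⊗[R] (A ⧸ J)) ≃ₐc[K] MonoidAlgebra K T) :=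
  ⟨(BialgEquiv.ofBijective (G D) (G_bijective D)).symm⟩

end KL

end Groth.Agent.Lib.Helper96.KerGlue2
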