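import Groth.Agent.Lib.Helper96.KerGlue
import Groth.Agent.Lib.Helper96.GrpLikeCoeff

set_option autoImplicit false
universe u
open TensorProduct

namespace Groth.Agent.Lib.Helper96.KerType

open Groth.Agent.Lib.Helper96.KerGlue Groth.Agent.Lib.Helper96.DiagBC
open Groth.Agent.Lib.Helper96.BaseChangeBialg

section TL

variable {R : Type u} [CommRing R] {A : Type u} [CommRing A] [HopfAlgebra R A]
  {C : Type u} [CommRing C] [HopfAlgebra R C] (φ : C →ₐc[R] A)
  (J : Ideal A) [J.IsHopfIdeal R]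
  (hJ : J = Ideal.map φ (RingHom.ker (Bialgebra.counitAlgHom R C)))
  (K : Type u) [CommRing K] [Algebra R K] (K' : Type u) [CommRing K'] [Algebra R K']
  [Algebra K K'] [IsScalarTower R K K']
  {M N : Type u} [CommGroup M] [CommGroup N]
  (eA : K ⊗[R] A ≃ₐc[K] MonoidAlgebra K M) (eC : K ⊗[R] C ≃ₐc[K] MonoidAlgebra K N)

theorem diagBaseChange_cbc {X : Type u} [CommRing X] [HopfAlgebra R X] {P : Type u} [CommGroup P]
    (e : K ⊗[R] X ≃ₐc[K] MonoidAlgebra K P) (y : K ⊗[R] X) :
    diagBaseChange R K K' X P e (cbc R K K' X ((1 : K') ⊗ₜ[K] y)) =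
      scalarBialgEquiv K K' P ((1 : K') ⊗ₜ[K] e y) := by
  change scalarBialgEquiv K K' P (lTensorEquiv K K' e
    ((cbc R K K' X).symm (cbc R K K' X ((1 : K') ⊗ₜ[K] y)))) = _
  rw [BialgEquiv.symm_apply_apply]
  rfl

theorem cbc_one_tmul {X : Type u} [CommRing X] [HopfAlgebra R X] (k : K) (z : X) :
    cbc R K K' X ((1 : K') ⊗ₜ[K] (k ⊗ₜ[R] z)) = (k • (1 : K')) ⊗ₜ[R] z := by
  change Algebra.TensorProduct.cancelBaseChange R K K' K' X ((1 : K') ⊗ₜ[K] (k ⊗ₜ[R] z)) = _
  simp

theorem bcφ_cbc (x : K ⊗[R] C) :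
    bcφ φ K' (cbc R K K' C ((1 : K') ⊗ₜ[K] x)) = cbc R K K' A ((1 : K') ⊗ₜ[K] bcφ φ K x) := by
  induction x using TensorProduct.induction_on with
  | zero => simp
  | add x y hx hy =>
    rw [TensorProduct.tmul_add, map_add, map_add, hx, hy, map_add, TensorProduct.tmul_add, map_add]
  | tmul k c =>
    rw [bcφ_tmul, cbc_one_tmul, cbc_one_tmul, bcφ_tmul]

theorem sBE_single {P : Type u} [CommGroup P] (m : P) :
    scalarBialgEquiv K K' P ((1 : K') ⊗ₜ[K] MonoidAlgebra.single m (1 : K)) =
      MonoidAlgebra.single m 1 := by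
  change MonoidAlgebra.scalarTensorEquiv K K' ((1 : K') ⊗ₜ[K] MonoidAlgebra.single m (1 : K)) = _
  rw [MonoidAlgebra.scalarTensorEquiv_tmul, one_smul]
  simp

theorem sBE_smul {P : Type u} [CommGroup P] (t : K) (y : MonoidAlgebra K P) :
    algebraMap K K' t • scalarBialgEquiv K K' P ((1 : K') ⊗ₜ[K] y) =
      scalarBialgEquiv K K' P ((1 : K') ⊗ₜ[K] (t • y)) := by
  rw [← map_smul, TensorProduct.smul_tmul', smul_eq_mul, mul_one,
    Algebra.algebraMap_eq_smul_one, TensorProduct.smul_tmul]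

theorem phi'_bc_single (ν : N) :
    phi' φ K' (diagBaseChange R K K' A M eA) (diagBaseChange R K K' C N eC)
        (MonoidAlgebra.single ν 1) =
      scalarBialgEquiv K K' M ((1 : K') ⊗ₜ[K] phi' φ K eA eC (MonoidAlgebra.single ν 1)) := by
  have h1 : (diagBaseChange R K K' C N eC).symm (MonoidAlgebra.single ν 1) =
      cbc R K K' C ((1 : K') ⊗ₜ[K] eC.symm (MonoidAlgebra.single ν 1)) := by
    apply EquivLike.injective (diagBaseChange R K K' C N eC)
    rw [BialgEquiv.apply_symm_apply, diagBaseChange_cbc, eC.apply_symm_apply, sBE_single]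
  rw [phi'_apply, h1, bcφ_cbc, diagBaseChange_cbc, phi'_apply]

theorem compat_bc (t : K) (ψ : N →* M)
    (h : ∀ ν, t • phi' φ K eA eC (MonoidAlgebra.single ν 1) = t • MonoidAlgebra.single (ψ ν) 1)
    (ν : N) :
    algebraMap K K' t • phi' φ K' (diagBaseChange R K K' A M eA) (diagBaseChange R K K' C N eC)
        (MonoidAlgebra.single ν 1) = algebraMap K K' t • MonoidAlgebra.single (ψ ν) 1 := by
  rw [phi'_bc_single, sBE_smul, h ν, ← sBE_smul, sBE_single]

include hJ in
/-- the kernel at a point where `φ` is induced by `ψ` -/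
theorem exists_equiv_of_point (t : K) (ψ : N →* M)
    (h : ∀ ν, t • phi' φ K eA eC (MonoidAlgebra.single ν 1) = t • MonoidAlgebra.single (ψ ν) 1)
    (ht : algebraMap K K' t = 1) :
    Nonempty (K' ⊗[R] (A ⧸ J) ≃ₐc[K'] MonoidAlgebra K' (M ⧸ ψ.range)) := by
  let D : GlueData φ K' (diagBaseChange R K K' A M eA) (diagBaseChange R K K' C N eC) Unit
      (M ⧸ ψ.range) :=
    { ε := fun _ => 1
      h1 := fun _ => one_mul 1
      h2 := fun i j hij => absurd (Subsingleton.elim i j) hij
      h3 := by simp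
      ψ := fun _ => ψ
      τ := fun _ => QuotientGroup.mk' ψ.range
      hτs := fun _ => QuotientGroup.mk'_surjective _
      hτk := fun _ => QuotientGroup.ker_mk' _
      hcompat := fun _ ν => by
        have := compat_bc φ K K' eA eC t ψ h ν
        rwa [ht] at this }
  exact exists_bialgEquiv J hJ D

end TL

section Unique

/-- a bialgebra isomorphism of group algebras over a field comes from a group isomorphism -/
noncomputable def mulEquivOfBialgEquiv {Ω : Type*} [Field Ω] {T T' : Type*} [CommGroup T]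
    [CommGroup T'] (f : MonoidAlgebra Ω T ≃ₐc[Ω] MonoidAlgebra Ω T') : T ≃* T' where
  toFun := MonoidAlgebra.mapDomainOfBialgHom (f : MonoidAlgebra Ω T →ₐc[Ω] MonoidAlgebra Ω T')
  invFun := MonoidAlgebra.mapDomainOfBialgHom
    (f.symm : MonoidAlgebra Ω T' →ₐc[Ω] MonoidAlgebra Ω T)
  left_inv x := by
    apply MonoidAlgebra.single_left_injective (R := Ω) (one_ne_zero (α := Ω))
    change MonoidAlgebra.single _ (1 : Ω) = MonoidAlgebra.single x 1
    rw [MonoidAlgebra.single_mapDomainOfBialgHom, MonoidAlgebra.single_mapDomainOfBialgHom]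
    exact f.symm_apply_apply _
  right_inv x := by
    apply MonoidAlgebra.single_left_injective (R := Ω) (one_ne_zero (α := Ω))
    change MonoidAlgebra.single _ (1 : Ω) = MonoidAlgebra.single x 1
    rw [MonoidAlgebra.single_mapDomainOfBialgHom, MonoidAlgebra.single_mapDomainOfBialgHom]
    exact f.apply_symm_apply _
  map_mul' := map_mul _

variable (R : Type u) [CommRing R]

/-- two fields over `R` with the same kernel have a common extension -/
theorem exists_common_ext (L L' : Type u) [Field L] [Field L'] [Algebra R L] [Algebra R L']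
    (hker : RingHom.ker (algebraMap R L) = RingHom.ker (algebraMap R L')) :
    ∃ (Ω : Type u) (_ : Field Ω) (_ : Algebra R Ω) (_ : L →ₐ[R] Ω) (_ : L' →ₐ[R] Ω), True := by
  let q : Ideal R := RingHom.ker (algebraMap R L)
  let a : R ⧸ q →+* L := Ideal.Quotient.lift q (algebraMap R L) (fun x hx => hx)
  let a' : R ⧸ q →+* L' := Ideal.Quotient.lift q (algebraMap R L')
    (fun x hx => by
      have : x ∈ RingHom.ker (algebraMap R L') := hker ▸ hx
      exact this)
  have ha : Function.Injective a := RingHom.lift_injective_of_ker_le_ideal q _ le_rfl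
  have ha' : Function.Injective a' := RingHom.lift_injective_of_ker_le_ideal q _ (le_of_eq hker.symm)
  letI : Algebra (R ⧸ q) L := a.toAlgebra
  letI : Algebra (R ⧸ q) L' := a'.toAlgebra
  have hnt : Nontrivial (L ⊗[R ⧸ q] L') :=
    Algebra.TensorProduct.nontrivial_of_algebraMap_injective_of_isDomain (R ⧸ q) L L' ha ha'
  obtain ⟨m, hm⟩ := Ideal.exists_maximal (L ⊗[R ⧸ q] L')
  letI : Field ((L ⊗[R ⧸ q] L') ⧸ m) := Ideal.Quotient.field m
  let iL : L →+* (L ⊗[R ⧸ q] L') ⧸ m :=
    (Ideal.Quotient.mk m).comp (Algebra.TensorProduct.includeLeft (R := R ⧸ q) (S := R ⧸ q)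
      (A := L) (B := L')).toRingHom
  let iL' : L' →+* (L ⊗[R ⧸ q] L') ⧸ m :=
    (Ideal.Quotient.mk m).comp (Algebra.TensorProduct.includeRight (R := R ⧸ q)
      (A := L) (B := L')).toRingHom
  letI : Algebra R ((L ⊗[R ⧸ q] L') ⧸ m) := (iL.comp (algebraMap R L)).toAlgebra
  refine ⟨(L ⊗[R ⧸ q] L') ⧸ m, inferInstance, inferInstance,
    { iL with commutes' := fun r => rfl },
    { iL' with commutes' := fun r => ?_ }, trivial⟩
  change Ideal.Quotient.mk m ((1 : L) ⊗ₜ[R ⧸ q] algebraMap R L' r) =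
    Ideal.Quotient.mk m (algebraMap R L r ⊗ₜ[R ⧸ q] (1 : L'))
  congr 1
  have e1 : algebraMap R L' r = (Ideal.Quotient.mk q r) • (1 : L') := by
    rw [Algebra.smul_def, mul_one]
    rfl
  have e2 : algebraMap R L r = (Ideal.Quotient.mk q r) • (1 : L) := by
    rw [Algebra.smul_def, mul_one]
    rfl
  rw [e1, e2, TensorProduct.smul_tmul]

variable (B : Type u) [CommRing B] [HopfAlgebra R B]

/-- the type is determined by the kernel of the point -/
theorem type_unique (L L' : Type u) [Field L] [Field L'] [Algebra R L] [Algebra R L']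
    (hker : RingHom.ker (algebraMap R L) = RingHom.ker (algebraMap R L'))
    {T T' : Type u} [CommGroup T] [CommGroup T']
    (e : L ⊗[R] B ≃ₐc[L] MonoidAlgebra L T) (e' : L' ⊗[R] B ≃ₐc[L'] MonoidAlgebra L' T') :
    Nonempty (T ≃* T') := by
  obtain ⟨Ω, _, _, f, f', -⟩ := exists_common_ext R L L' hker
  letI : Algebra L Ω := f.toRingHom.toAlgebra
  letI : Algebra L' Ω := f'.toRingHom.toAlgebra
  have t1 : IsScalarTower R L Ω := IsScalarTower.of_algebraMap_eq (fun r => (f.commutes r).symm)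
  have t2 : IsScalarTower R L' Ω := IsScalarTower.of_algebraMap_eq (fun r => (f'.commutes r).symm)
  exact ⟨mulEquivOfBialgEquiv ((diagBaseChange R L Ω B T e).symm.trans
    (diagBaseChange R L' Ω B T' e'))⟩

/-- the type of `B` at a point of `Spec R` -/
def TypeAt (q : PrimeSpectrum R) (T : Type u) [CommGroup T] : Prop :=
  ∃ (L : Type u) (_ : Field L) (_ : Algebra R L), RingHom.ker (algebraMap R L) = q.asIdeal ∧
    Nonempty (L ⊗[R] B ≃ₐc[L] MonoidAlgebra L T)

theorem TypeAt.unique {q : PrimeSpectrum R} {T T' : Type u} [CommGroup T] [CommGroup T']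
    (h : TypeAt R B q T) (h' : TypeAt R B q T') : Nonempty (T ≃* T') := by
  obtain ⟨L, _, _, hL, ⟨e⟩⟩ := h
  obtain ⟨L', _, _, hL', ⟨e'⟩⟩ := h'
  exact type_unique R B L L' (hL.trans hL'.symm) e e'

end Unique

section Local

variable {R : Type u} [CommRing R] {A : Type u} [CommRing A] [HopfAlgebra R A]
  {C : Type u} [CommRing C] [HopfAlgebra R C] (φ : C →ₐc[R] A)
  (J : Ideal A) [J.IsHopfIdeal R]
  (hJ : J = Ideal.map φ (RingHom.ker (Bialgebra.counitAlgHom R C)))
  (K : Type u) [CommRing K] [Algebra R K]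
  {M N : Type u} [CommGroup M] [CommGroup N]
  (eA : K ⊗[R] A ≃ₐc[K] MonoidAlgebra K M) (eC : K ⊗[R] C ≃ₐc[K] MonoidAlgebra K N)

include hJ in
/-- local data for `φ` determine the type of the kernel at the points below -/
theorem typeAt_of_local (t : K) (ht : t * t = t) (ψ : N →* M)
    (h : ∀ ν, t • phi' φ K eA eC (MonoidAlgebra.single ν 1) = t • MonoidAlgebra.single (ψ ν) 1)
    (Q : PrimeSpectrum K) (hQ : t ∉ Q.asIdeal) :
    TypeAt R (A ⧸ J) (PrimeSpectrum.comap (algebraMap R K) Q) (M ⧸ ψ.range) := by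
  refine ⟨Q.asIdeal.ResidueField, inferInstance, inferInstance, ?_, ?_⟩
  · ext r
    rw [RingHom.mem_ker, IsScalarTower.algebraMap_apply R K Q.asIdeal.ResidueField,
      Ideal.algebraMap_residueField_eq_zero]
    rfl
  · apply exists_equiv_of_point φ J hJ K Q.asIdeal.ResidueField eA eC t ψ h
    have h0 : algebraMap K Q.asIdeal.ResidueField t ≠ 0 := by
      rw [Ne, Ideal.algebraMap_residueField_eq_zero]
      exact hQ
    have h1 : algebraMap K Q.asIdeal.ResidueField t * algebraMap K Q.asIdeal.ResidueField t =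
        algebraMap K Q.asIdeal.ResidueField t := by
      rw [← map_mul, ht]
    exact mul_left_cancel₀ h0 (h1.trans (mul_one _).symm)

end Local

end Groth.Agent.Lib.Helper96.KerType
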