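import Groth.Agent.Lib.Helper96.KerGlue2
import Groth.Agent.Lib.Helper96.KerType
import Groth.Agent.Lib.Helper24.S2982_D1

set_option autoImplicit false
universe u
open TensorProduct

namespace Groth.Agent.Lib.Helper96.KerLocal

open Groth.Agent.Lib.Helper96.KerGlue Groth.Agent.Lib.Helper96.DiagBC
open Groth.Agent.Lib.Helper96.BaseChangeBialg Groth.Agent.Lib.Helper96.KerType
open Groth.Agent.Lib.Helper96.TorsKer2

open Groth.Agent.Lib.Helper24.S2982_D1 (smul_mapDomain_mk_eq)

theorem smul_eq_of_unitLike {K B : Type*} [CommRing K] [AddCommGroup B] [Module K B] {ε u v : K}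
    (h : ε * u * v = ε) {x y : B} (hxy : u • x = u • y) : ε • x = ε • y := by
  have e : ∀ z : B, ε • z = (ε * v) • (u • z) := fun z => by
    rw [← mul_smul, mul_assoc, mul_comm v u, ← mul_assoc, h]
  rw [e x, e y, hxy]

section Defs

variable {R : Type u} [CommRing R] {A : Type u} [CommRing A] [HopfAlgebra R A]
  {C : Type u} [CommRing C] [HopfAlgebra R C] (φ : C →ₐc[R] A)
  (J : Ideal A) [J.IsHopfIdeal R]
  (hJ : J = Ideal.map φ (RingHom.ker (Bialgebra.counitAlgHom R C)))
  (K : Type u) [CommRing K] [Algebra R K]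
  {M : Type u} [CommGroup M]
  (eA : K ⊗[R] A ≃ₐc[K] MonoidAlgebra K M)

/-- `φ` after base change to `K` and diagonalisation of the target -/
noncomputable def fK : K ⊗[R] C →ₐc[K] MonoidAlgebra K M :=
  (eA : K ⊗[R] A →ₐc[K] MonoidAlgebra K M).comp (bcφ φ K)

theorem fK_apply (x : K ⊗[R] C) : fK φ K eA x = eA (bcφ φ K x) := rfl

/-- local data: after inverting `t`, `φ` factors through `K[M']` and `M'` dies in the kernel -/
structure LocalData (t : K) (M' : Subgroup M) : Prop where
  ha : ∀ (x : K ⊗[R] C) (m : M), m ∉ M' → t * (fK φ K eA x).coeff m = 0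
  hb : ∀ m ∈ M', t • (MonoidAlgebra.single m (1 : K) - 1) ∈
    Ideal.map (fK φ K eA) (RingHom.ker (Bialgebra.counitAlgHom K (K ⊗[R] C)))

variable {K} {eA}

include hJ in
theorem cc_of_local {t : K} {M' : Subgroup M} (h : LocalData φ K eA t M') (m : M) (hm : m ∈ M') :
    t • cc J K eA m = t • 1 := by
  let Ψ : MonoidAlgebra K M →ₐc[K] K ⊗[R] (A ⧸ J) :=
    (Phi R K J).comp (eA.symm : MonoidAlgebra K M →ₐc[K] K ⊗[R] A)
  have hΨ : ∀ y, Ψ y = Phi R K J (eA.symm y) := fun _ => rfl
  have hle : Ideal.map (fK φ K eA) (RingHom.ker (Bialgebra.counitAlgHom K (K ⊗[R] C))) ≤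
      RingHom.ker Ψ := by
    rw [Ideal.map_le_iff_le_comap]
    intro x hx
    rw [RingHom.mem_ker] at hx
    rw [Ideal.mem_comap, RingHom.mem_ker, hΨ, fK_apply, eA.symm_apply_apply, Phi_bc φ J hJ]
    have : Coalgebra.counit (R := K) x = 0 := hx
    rw [this, map_zero]
  have h1 := hle (h.hb m hm)
  rw [RingHom.mem_ker, hΨ, map_smul, map_smul, map_sub, map_sub, map_one, map_one, smul_sub,
    sub_eq_zero] at h1
  exact h1

include hJ in
theorem kill_of_local {t : K} {M' : Subgroup M} (h : LocalData φ K eA t M') (a : A) (ha : a ∈ J) :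
    t • MonoidAlgebra.mapDomainBialgHom K (QuotientGroup.mk' M') (eA ((1 : K) ⊗ₜ[R] a)) = 0 := by
  let Iₜ : Ideal (MonoidAlgebra K (M ⧸ M')) :=
    { carrier := {y | t • y = 0}
      add_mem' := fun {a b} ha hb => by
        change t • (a + b) = 0
        rw [smul_add, show t • a = 0 from ha, show t • b = 0 from hb, add_zero]
      zero_mem' := smul_zero t
      smul_mem' := fun c x hx => by
        change t • (c • x) = 0
        rw [smul_comm, show t • x = 0 from hx, smul_zero] }
  have hle : J ≤ Ideal.comap (Algebra.TensorProduct.includeRight (R := R) (A := K) (B := A))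
      (Ideal.comap eA (Ideal.comap (MonoidAlgebra.mapDomainBialgHom K (QuotientGroup.mk' M')) Iₜ)) := by
    rw [hJ, Ideal.map_le_iff_le_comap]
    intro x hx
    rw [RingHom.mem_ker] at hx
    rw [Ideal.mem_comap, Ideal.mem_comap, Ideal.mem_comap, Ideal.mem_comap]
    change t • MonoidAlgebra.mapDomainBialgHom K (QuotientGroup.mk' M')
      (eA ((1 : K) ⊗ₜ[R] φ x)) = 0
    rw [← bcφ_tmul, ← fK_apply, smul_mapDomain_mk_eq M' t _ (fun m hm => h.ha _ m hm),
      CoalgHomClass.counit_comp_apply (fK φ K eA), TensorProduct.counit_tmul]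
    have h2 : Coalgebra.counit (R := R) x = 0 := hx
    rw [h2, zero_smul, mul_zero]
    simp
  exact hle ha

end Defs

section Transport

variable {R : Type u} [CommRing R] {A : Type u} [CommRing A] [HopfAlgebra R A]
  {C : Type u} [CommRing C] [HopfAlgebra R C] (φ : C →ₐc[R] A)
  (J : Ideal A) [J.IsHopfIdeal R]
  (hJ : J = Ideal.map φ (RingHom.ker (Bialgebra.counitAlgHom R C)))
  (K : Type u) [CommRing K] [Algebra R K] (K' : Type u) [CommRing K'] [Algebra R K']
  [Algebra K K'] [IsScalarTower R K K']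
  {M : Type u} [CommGroup M]
  (eA : K ⊗[R] A ≃ₐc[K] MonoidAlgebra K M)

theorem sBE_eq {P : Type u} [CommGroup P] (y : MonoidAlgebra K P) :
    scalarBialgEquiv K K' P ((1 : K') ⊗ₜ[K] y) =
      MonoidAlgebra.mapRingHom P (algebraMap K K') y := by
  change MonoidAlgebra.scalarTensorEquiv K K' ((1 : K') ⊗ₜ[K] y) = _
  rw [MonoidAlgebra.scalarTensorEquiv_tmul, one_smul]
  rfl

theorem fK_cbc (x : K ⊗[R] C) :
    fK φ K' (diagBaseChange R K K' A M eA) (cbc R K K' C ((1 : K') ⊗ₜ[K] x)) =
      MonoidAlgebra.mapRingHom M (algebraMap K K') (fK φ K eA x) := by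
  rw [fK_apply, bcφ_cbc, diagBaseChange_cbc, sBE_eq, fK_apply]

theorem mapRingHom_smul_single_sub_one (t : K) (m : M) :
    MonoidAlgebra.mapRingHom M (algebraMap K K') (t • (MonoidAlgebra.single m (1 : K) - 1)) =
      algebraMap K K' t • (MonoidAlgebra.single m (1 : K') - 1) := by
  rw [← sBE_eq, ← sBE_smul, TensorProduct.tmul_sub, map_sub, sBE_single,
    ← Algebra.TensorProduct.one_def, map_one]

variable {K} {eA}

theorem LocalData.baseChange {t : K} {M' : Subgroup M} (h : LocalData φ K eA t M') :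
    LocalData φ K' (diagBaseChange R K K' A M eA) (algebraMap K K' t) M' := by
  constructor
  · intro x' m hm
    induction x' using TensorProduct.induction_on with
    | zero => simp
    | add x y hx hy =>
      rw [map_add, MonoidAlgebra.coeff_add, Finsupp.add_apply, mul_add, hx, hy, add_zero]
    | tmul k' c =>
      have e1 : k' ⊗ₜ[R] c = k' • cbc R K K' C ((1 : K') ⊗ₜ[K] ((1 : K) ⊗ₜ[R] c)) := by
        rw [cbc_one_tmul, one_smul, TensorProduct.smul_tmul', smul_eq_mul, mul_one]
      rw [e1, map_smul, fK_cbc, MonoidAlgebra.coeff_smul, Finsupp.smul_apply,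
        MonoidAlgebra.coeff_mapRingHom, smul_eq_mul, mul_left_comm, ← map_mul, h.ha _ m hm,
        map_zero, mul_zero]
  · intro m hm
    have hle : Ideal.map (fK φ K eA) (RingHom.ker (Bialgebra.counitAlgHom K (K ⊗[R] C))) ≤
        Ideal.comap (MonoidAlgebra.mapRingHom M (algebraMap K K'))
          (Ideal.map (fK φ K' (diagBaseChange R K K' A M eA))
            (RingHom.ker (Bialgebra.counitAlgHom K' (K' ⊗[R] C)))) := by
      rw [Ideal.map_le_iff_le_comap]
      intro x hx
      rw [Ideal.mem_comap, Ideal.mem_comap, ← fK_cbc]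
      apply Ideal.mem_map_of_mem
      rw [RingHom.mem_ker] at hx ⊢
      change Coalgebra.counit (R := K') (cbc R K K' C ((1 : K') ⊗ₜ[K] x)) = 0
      rw [CoalgHomClass.counit_comp_apply (cbc R K K' C), TensorProduct.counit_tmul]
      have : Coalgebra.counit (R := K) x = 0 := hx
      rw [this, zero_smul]
    have h1 := hle (h.hb m hm)
    rw [Ideal.mem_comap, mapRingHom_smul_single_sub_one] at h1
    exact h1

include hJ in
/-- general gluing: local data on the pieces of a decomposition of `K'` -/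
theorem glue_general {ι : Type*} [Fintype ι] (ε : ι → K')
    (h1 : ∀ i, ε i * ε i = ε i) (h2 : ∀ i j, i ≠ j → ε i * ε j = 0) (h3 : ∑ i, ε i = 1)
    (t : ι → K) (M' : ι → Subgroup M)
    (hloc : ∀ i, LocalData φ K eA (t i) (M' i)) (v : ι → K')
    (hv : ∀ i, ε i * algebraMap K K' (t i) * v i = ε i)
    {T₀ : Type u} [CommGroup T₀] (σ : ∀ i, (M ⧸ M' i) ≃* T₀) :
    Nonempty (K' ⊗[R] (A ⧸ J) ≃ₐc[K'] MonoidAlgebra K' T₀) := by
  have hloc' := fun i => (hloc i).baseChange φ K'
  let D : KerGlue2.GlueData2 J K' (diagBaseChange R K K' A M eA) ι T₀ :=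
    { ε := ε
      h1 := h1
      h2 := h2
      h3 := h3
      τ := fun i => (σ i).toMonoidHom.comp (QuotientGroup.mk' (M' i))
      hτs := fun i => (σ i).surjective.comp (QuotientGroup.mk'_surjective _)
      hker := fun i m hm => by
        have hm' : m ∈ M' i := by
          rw [MonoidHom.mem_ker, MonoidHom.comp_apply, MulEquiv.coe_toMonoidHom,
            EmbeddingLike.map_eq_one_iff] at hm
          rwa [← MonoidHom.mem_ker, QuotientGroup.ker_mk'] at hm
        exact smul_eq_of_unitLike (B := K' ⊗[R] (A ⧸ J)) (hv i)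
          (cc_of_local φ J hJ (hloc' i) m hm')
      hkill := fun i a ha => by
        have hk := kill_of_local φ J hJ (hloc' i) a ha
        rw [← MonoidAlgebra.mapDomainBialgHom_mapDomainBialgHom]
        have h0 : algebraMap K K' (t i) •
            MonoidAlgebra.mapDomainBialgHom K' (σ i).toMonoidHom
              (MonoidAlgebra.mapDomainBialgHom K' (QuotientGroup.mk' (M' i))
                (diagBaseChange R K K' A M eA ((1 : K') ⊗ₜ[R] a))) =
            algebraMap K K' (t i) • 0 := by
          rw [← map_smul, hk, map_zero, smul_zero]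
        have := smul_eq_of_unitLike (hv i) h0
        rwa [smul_zero] at this }
  exact KerGlue2.exists_bialgEquiv D

end Transport

end Groth.Agent.Lib.Helper96.KerLocal
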