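import Groth.Agent.Lib.Helper96.KerCover

set_option autoImplicit false
universe u
open TensorProduct PrimeSpectrum

namespace Groth.Agent.Lib.Helper96.KerMain

open Groth.Agent.Lib.Helper96.KerGlue Groth.Agent.Lib.Helper96.DiagBC
open Groth.Agent.Lib.Helper96.BaseChangeBialg Groth.Agent.Lib.Helper96.KerType
open Groth.Agent.Lib.Helper96.KerCover

variable {R : Type u} [CommRing R] {A : Type u} [CommRing A] [HopfAlgebra R A]
  {C : Type u} [CommRing C] [HopfAlgebra R C] (φ : C →ₐc[R] A)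
  (J : Ideal A) [J.IsHopfIdeal R]
  (hJ : J = Ideal.map φ (RingHom.ker (Bialgebra.counitAlgHom R C)))

section Glue

variable (R₁ : Type u) [CommRing R₁] [Algebra R R₁]
  {M N : Type u} [CommGroup M] [CommGroup N]
  (e₁A : R₁ ⊗[R] A ≃ₐc[R₁] MonoidAlgebra R₁ M) (e₁C : R₁ ⊗[R] C ≃ₐc[R₁] MonoidAlgebra R₁ N)

/-- components of the covering ring -/
abbrev Kc {ι : Type u} (t : ι → R₁) (w : R₁) (i : ι) : Type u := Localization.Away (t i * w)

theorem algebraMap_t_eq_one {ι : Type u} (t : ι → R₁) (ht : ∀ i, t i * t i = t i) (w : R₁)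
    (i : ι) : algebraMap R₁ (Kc R₁ t w i) (t i) = 1 := by
  have hu : IsUnit (algebraMap R₁ (Kc R₁ t w i) (t i)) := by
    have := IsLocalization.Away.algebraMap_isUnit (S := Kc R₁ t w i) (t i * w)
    rw [map_mul] at this
    exact isUnit_of_mul_isUnit_left this
  have h1 : algebraMap R₁ (Kc R₁ t w i) (t i) * algebraMap R₁ (Kc R₁ t w i) (t i) =
      algebraMap R₁ (Kc R₁ t w i) (t i) * 1 := by
    rw [← map_mul, ht, mul_one]
  exact hu.mul_left_cancel h1

include hJ in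
theorem glue_pi {ι : Type u} [Fintype ι] (t : ι → R₁) (ht : ∀ i, t i * t i = t i)
    (ψ : ι → N →* M)
    (hcomp : ∀ i ν, t i • phi' φ R₁ e₁A e₁C (MonoidAlgebra.single ν 1) =
      t i • MonoidAlgebra.single (ψ i ν) 1)
    (T₀ : Type u) [CommGroup T₀] (σ : ∀ i, (M ⧸ (ψ i).range) ≃* T₀) (w : R₁) :
    Nonempty ((∀ i, Kc R₁ t w i) ⊗[R] (A ⧸ J) ≃ₐc[∀ i, Kc R₁ t w i]
      MonoidAlgebra (∀ i, Kc R₁ t w i) T₀) := by
  classical
  let D : GlueData φ (∀ i, Kc R₁ t w i) (diagBaseChange R R₁ (∀ i, Kc R₁ t w i) A M e₁A)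
      (diagBaseChange R R₁ (∀ i, Kc R₁ t w i) C N e₁C) ι T₀ :=
    { ε := fun i => Pi.single i 1
      h1 := fun i => by rw [← Pi.single_mul, one_mul]
      h2 := fun i j hij => by
        ext k
        by_cases hk : k = i
        · subst hk
          simp [hij]
        · simp [Pi.single_apply, hk]
      h3 := Finset.univ_sum_single (1 : ∀ i, Kc R₁ t w i)
      ψ := ψ
      τ := fun i => (σ i).toMonoidHom.comp (QuotientGroup.mk' (ψ i).range)
      hτs := fun i => (σ i).surjective.comp (QuotientGroup.mk'_surjective _)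
      hτk := fun i => by
        ext m
        simp only [MonoidHom.mem_ker, MonoidHom.comp_apply, MulEquiv.coe_toMonoidHom,
          EmbeddingLike.map_eq_one_iff]
        rw [← MonoidHom.mem_ker, QuotientGroup.ker_mk']
      hcompat := fun i ν => by
        have h1 := compat_bc φ R₁ (∀ i, Kc R₁ t w i) e₁A e₁C (t i) (ψ i) (hcomp i) ν
        have h2 : (Pi.single i (1 : Kc R₁ t w i) : ∀ i, Kc R₁ t w i) *
            algebraMap R₁ (∀ i, Kc R₁ t w i) (t i) = Pi.single i 1 := by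
          ext k
          by_cases hk : k = i
          · subst hk
            simp [algebraMap_t_eq_one R₁ t ht w]
          · simp [Pi.single_apply, hk]
        rw [← h2, mul_smul, mul_smul, h1] }
  exact exists_bialgEquiv J hJ D

end Glue

include hJ in
theorem key (hA : SGA3b.IsMultType R A) (hC : SGA3b.IsMultType R C)
    (hCft : Algebra.FiniteType R C) (p : Ideal R) [hp : p.IsPrime] :
    ∃ h ∉ p, SGA3b.IsMultTypeConst (Localization.Away h) (Localization.Away h ⊗[R] (A ⧸ J)) := by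
  classical
  obtain ⟨f, hfp, KA, _, _, hflA, huA, hcovA, M, _, ⟨eA0⟩⟩ := exists_flat_cover A hA p
  obtain ⟨g, hgp, KC, _, _, hflC, huC, hcovC, N, _, ⟨eC0⟩⟩ := exists_flat_cover C hC p
  obtain ⟨R₁, _, _, hfl₁, hu₁, hcov₁, ⟨e₁A⟩, ⟨e₁C⟩⟩ :=
    exists_common A C f g KA huA hcovA KC huC hcovC M N eA0 eC0
  let p₀ : PrimeSpectrum R := ⟨p, hp⟩
  obtain ⟨Q₀, hQ₀⟩ := hcov₁ p₀ hfp hgp
  haveI : Nontrivial R₁ :=
    ⟨⟨0, 1, fun h01 => Q₀.2.ne_top ((Ideal.eq_top_iff_one _).mpr (h01 ▸ Q₀.asIdeal.zero_mem))⟩⟩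
  have hftN : Algebra.FiniteType R₁ (MonoidAlgebra R₁ N) := by
    have h1 : Algebra.FiniteType R₁ (R₁ ⊗[R] C) := inferInstance
    exact Algebra.FiniteType.equiv h1 (e₁C : (R₁ ⊗[R] C) ≃ₐ[R₁] MonoidAlgebra R₁ N)
  haveI hfg : Group.FG N := MonoidAlgebra.finiteType_iff_group_fg.mp hftN
  have hloc : ∀ Q : PrimeSpectrum R₁, ∃ (t : R₁) (ψ : N →* M), t * t = t ∧ t ∉ Q.asIdeal ∧
      ∀ ν : N, t • phi' φ R₁ e₁A e₁C (MonoidAlgebra.single ν 1) =
        t • MonoidAlgebra.single (ψ ν) 1 :=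
    fun Q => GrpLikeCoeff.exists_local_hom (phi' φ R₁ e₁A e₁C) Q.asIdeal
  choose t ψ ht htQ hcomp using hloc
  let π : PrimeSpectrum R₁ → PrimeSpectrum R := comap (algebraMap R R₁)
  have hT : ∀ Q Q' : PrimeSpectrum R₁, t Q ∉ Q'.asIdeal →
      TypeAt R (A ⧸ J) (π Q') (M ⧸ (ψ Q).range) :=
    fun Q Q' h => typeAt_of_local φ J hJ R₁ e₁A e₁C (t Q) (ht Q) (ψ Q) (hcomp Q) Q' h
  let T₀ := M ⧸ (ψ Q₀).range
  let Z : Set (PrimeSpectrum R₁) := {Q | Nonempty ((M ⧸ (ψ Q).range) ≃* T₀)}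
  let S₀ : Set (PrimeSpectrum R) := π '' Z
  have hsat : π ⁻¹' S₀ = Z := by
    ext Q'
    constructor
    · rintro ⟨Q, ⟨σ⟩, hQQ'⟩
      have h1 := hT Q' Q' (htQ Q')
      have h2 := hT Q Q (htQ Q)
      rw [hQQ'] at h2
      obtain ⟨σ'⟩ := TypeAt.unique R (A ⧸ J) h1 h2
      exact ⟨σ'.trans σ⟩
    · intro hQ'
      exact ⟨Q', hQ', rfl⟩
  have hZopen : IsOpen Z := by
    rw [isOpen_iff_forall_mem_open]
    intro Q' hQ'
    obtain ⟨σ⟩ := hQ'
    refine ⟨basicOpen (t Q'), ?_, (basicOpen (t Q')).2, htQ Q'⟩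
    intro Q'' hQ''
    have h1 := hT Q'' Q'' (htQ Q'')
    have h2 := hT Q' Q'' hQ''
    obtain ⟨σ'⟩ := TypeAt.unique R (A ⧸ J) h1 h2
    exact ⟨σ'.trans σ⟩
  have hopen : IsOpen (S₀ ∩ (basicOpen (f * g) : Set (PrimeSpectrum R))) := by
    apply isOpen_inter_basicOpen R₁ (f * g) hu₁
    · intro q hq
      exact hcov₁ q (fun hf => hq (Ideal.mul_mem_right _ _ hf))
        (fun hg' => hq (Ideal.mul_mem_left _ _ hg'))
    · rw [hsat]
      exact hZopen
  have hp₀mem : p₀ ∈ S₀ ∩ (basicOpen (f * g) : Set (PrimeSpectrum R)) := by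
    refine ⟨⟨Q₀, ⟨MulEquiv.refl _⟩, hQ₀⟩, ?_⟩
    intro hfg'
    rcases hp.mem_or_mem hfg' with h | h
    · exact hfp h
    · exact hgp h
  obtain ⟨_, ⟨h, rfl⟩, hph, hsub⟩ :=
    PrimeSpectrum.isTopologicalBasis_basic_opens.exists_subset_of_mem_open hp₀mem hopen
  let w : R₁ := algebraMap R R₁ h
  have hWZ : ∀ Q : PrimeSpectrum R₁, w ∉ Q.asIdeal → Q ∈ Z := fun Q hQ => by
    have h1 : π Q ∈ S₀ := (hsub (show π Q ∈ (basicOpen h : Set (PrimeSpectrum R)) from hQ)).1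
    rw [← hsat]
    exact h1
  have hcover : (basicOpen w : Set (PrimeSpectrum R₁)) ⊆
      ⋃ Q ∈ (basicOpen w : Set (PrimeSpectrum R₁)), (basicOpen (t Q) : Set (PrimeSpectrum R₁)) :=
    fun Q hQ => Set.mem_biUnion hQ (htQ Q)
  obtain ⟨F, hFsub, hFfin, hFcov⟩ := (isCompact_basicOpen w).elim_finite_subcover_image
    (fun Q _ => (basicOpen (t Q)).2) hcover
  letI : Fintype F := hFfin.fintype
  have hσ : ∀ i : F, Nonempty ((M ⧸ (ψ i.1).range) ≃* T₀) := fun i => hWZ i.1 (hFsub i.2)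
  let σ : ∀ i : F, (M ⧸ (ψ i.1).range) ≃* T₀ := fun i => (hσ i).some
  obtain ⟨E⟩ := glue_pi φ J hJ R₁ e₁A e₁C (ι := F) (fun i => t i.1) (fun i => ht i.1)
    (fun i => ψ i.1) (fun i => hcomp i.1) T₀ σ w
  haveI hflK : Module.Flat R (∀ i : F, Kc R₁ (fun i : F => t i.1) w i) :=
    Module.Flat.of_linearEquiv
      (DirectSum.linearEquivFunOnFintype R F (fun i => Kc R₁ (fun i : F => t i.1) w i)).symm
  have hwu : ∀ i : F, IsUnit (algebraMap R₁ (Kc R₁ (fun i : F => t i.1) w i) w) := fun i => by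
    have := IsLocalization.Away.algebraMap_isUnit
      (S := Kc R₁ (fun i : F => t i.1) w i) (t i.1 * w)
    rw [map_mul] at this
    exact isUnit_of_mul_isUnit_right this
  refine ⟨h, hph, isMultTypeConst_away (A ⧸ J) h (∀ i : F, Kc R₁ (fun i : F => t i.1) w i)
    ?_ ?_ T₀ E⟩
  · rw [Pi.isUnit_iff]
    intro i
    have : algebraMap R (∀ i : F, Kc R₁ (fun i : F => t i.1) w i) h i =
        algebraMap R₁ (Kc R₁ (fun i : F => t i.1) w i) w :=
      IsScalarTower.algebraMap_apply R R₁ (Kc R₁ (fun i : F => t i.1) w i) h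
    rw [this]
    exact hwu i
  · intro q hq
    have hq' : q ∈ S₀ ∩ (basicOpen (f * g) : Set (PrimeSpectrum R)) := hsub hq
    have hfgq : f * g ∉ q.asIdeal := hq'.2
    obtain ⟨Q, hQ⟩ := hcov₁ q (fun hf => hfgq (Ideal.mul_mem_right _ _ hf))
      (fun hg' => hfgq (Ideal.mul_mem_left _ _ hg'))
    have hwQ : w ∉ Q.asIdeal := by
      intro hw
      apply hq
      rw [← hQ]
      exact hw
    have hQcov := hFcov (show Q ∈ (basicOpen w : Set (PrimeSpectrum R₁)) from hwQ)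
    simp only [Set.mem_iUnion] at hQcov
    obtain ⟨Qi, hQiF, htQi⟩ := hQcov
    let i : F := ⟨Qi, hQiF⟩
    have htw : t i.1 * w ∉ Q.asIdeal := fun hmem => by
      rcases Q.2.mem_or_mem hmem with h' | h'
      · exact htQi h'
      · exact hwQ h'
    have hrange : Q ∈ Set.range (comap (algebraMap R₁ (Kc R₁ (fun i : F => t i.1) w i))) := by
      rw [localization_away_comap_range (Kc R₁ (fun i : F => t i.1) w i) (t i.1 * w)]
      exact htw
    obtain ⟨Qi', hQi'⟩ := hrange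
    refine ⟨comap (Pi.evalRingHom (fun i : F => Kc R₁ (fun i : F => t i.1) w i) i) Qi', ?_⟩
    rw [← hQ, ← hQi', ← comap_comp_apply, ← comap_comp_apply]
    rfl

include hJ in
theorem main (hA : SGA3b.IsMultType R A) (hC : SGA3b.IsMultType R C)
    (hCft : Algebra.FiniteType R C) : SGA3b.IsMultType R (A ⧸ J) := by
  refine ⟨{h | SGA3b.IsMultTypeConst (Localization.Away h) (Localization.Away h ⊗[R] (A ⧸ J))},
    ?_, fun h hh => hh⟩
  by_contra hne
  obtain ⟨p, hpmax, hle⟩ := Ideal.exists_le_maximal _ hne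
  haveI := hpmax.isPrime
  obtain ⟨h, hhp, hh⟩ := key φ J hJ hA hC hCft p
  exact hhp (hle (Ideal.subset_span hh))

end Groth.Agent.Lib.Helper96.KerMain
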