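import Groth.Agent.Lib.Helper96.KerLocal
import Groth.Agent.Lib.Helper96.KerMain
import Groth.Agent.Lib.Helper75.S2982_LL
import Groth.Agent.Lib.Helper69.S2982_B
import Groth.Agent.Lib.Helper69.S2982_A2
import Groth.Agent.Lib.Helper24.S2982_A1

set_option autoImplicit false
universe u
open TensorProduct PrimeSpectrum

namespace Groth.Agent.Lib.Helper96.KerMain2

open Groth.Agent.Lib.Helper96.KerGlue Groth.Agent.Lib.Helper96.DiagBC
open Groth.Agent.Lib.Helper96.BaseChangeBialg Groth.Agent.Lib.Helper96.KerType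
open Groth.Agent.Lib.Helper96.KerCover Groth.Agent.Lib.Helper96.KerLocal
open Groth.Agent.Lib.Helper96.KerMain (Kc)

variable {R : Type u} [CommRing R] {A : Type u} [CommRing A] [HopfAlgebra R A]
  {C : Type u} [CommRing C] [HopfAlgebra R C] (φ : C →ₐc[R] A)
  (J : Ideal A) [J.IsHopfIdeal R]
  (hJ : J = Ideal.map φ (RingHom.ker (Bialgebra.counitAlgHom R C)))

section Local

variable (K : Type u) [CommRing K] [Algebra R K] {M : Type u} [CommGroup M]
  (eA : K ⊗[R] A ≃ₐc[K] MonoidAlgebra K M)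

/-- local structure of `φ` at a prime of `K` -/
theorem exists_local_data [Algebra.FiniteType K (K ⊗[R] C)] (Q : Ideal K) [Q.IsPrime] :
    ∃ (t : K) (M' : Subgroup M), t ∉ Q ∧ LocalData φ K eA t M' := by
  obtain ⟨t, M', htQ, ha, hb⟩ :=
    Groth.Agent.Lib.Helper75.S2982_LL.exists_local_subgroup_of (fK φ K eA) Q
      (fun b c => Groth.Agent.Lib.Helper24.S2982_A1.coeff_smul_single_sub_one_mem (fK φ K eA) b c)
      (fun b I h c => Groth.Agent.Lib.Helper69.S2982_A2.coeff_mem_sq (fK φ K eA) b I h c)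
      (fun s hs M' I h => Groth.Agent.Lib.Helper69.S2982_B.coeff_mem_of_generators
        (fK φ K eA : K ⊗[R] C →ₐ[K] MonoidAlgebra K M) s hs M' I h)
  exact ⟨t, M', htQ, ⟨ha, hb⟩⟩

include hJ in
/-- local data for `φ` determine the type of the kernel at the points below -/
theorem typeAt_of_local2 (t : K) (M' : Subgroup M) (h : LocalData φ K eA t M')
    (Q : PrimeSpectrum K) (hQ : t ∉ Q.asIdeal) :
    TypeAt R (A ⧸ J) (PrimeSpectrum.comap (algebraMap R K) Q) (M ⧸ M') := by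
  refine ⟨Q.asIdeal.ResidueField, inferInstance, inferInstance, ?_, ?_⟩
  · ext r
    rw [RingHom.mem_ker, IsScalarTower.algebraMap_apply R K Q.asIdeal.ResidueField,
      Ideal.algebraMap_residueField_eq_zero]
    rfl
  · have h0 : algebraMap K Q.asIdeal.ResidueField t ≠ 0 := by
      rw [Ne, Ideal.algebraMap_residueField_eq_zero]
      exact hQ
    exact glue_general φ J hJ Q.asIdeal.ResidueField (K := K) (eA := eA) (ι := Unit)
      (fun _ => 1) (fun _ => one_mul 1) (fun i j hij => absurd (Subsingleton.elim i j) hij)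
      (by simp) (fun _ => t) (fun _ => M') (fun _ => h)
      (fun _ => (algebraMap K Q.asIdeal.ResidueField t)⁻¹)
      (fun _ => by rw [one_mul, mul_inv_cancel₀ h0]) (fun _ => MulEquiv.refl _)

end Local

section Glue

variable (R₁ : Type u) [CommRing R₁] [Algebra R R₁]
  {M : Type u} [CommGroup M]
  (e₁A : R₁ ⊗[R] A ≃ₐc[R₁] MonoidAlgebra R₁ M)

include hJ in
theorem glue_pi2 {ι : Type u} [Fintype ι] (t : ι → R₁) (M' : ι → Subgroup M)
    (hloc : ∀ i, LocalData φ R₁ e₁A (t i) (M' i))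
    (T₀ : Type u) [CommGroup T₀] (σ : ∀ i, (M ⧸ M' i) ≃* T₀) (w : R₁) :
    Nonempty ((∀ i, Kc R₁ t w i) ⊗[R] (A ⧸ J) ≃ₐc[∀ i, Kc R₁ t w i]
      MonoidAlgebra (∀ i, Kc R₁ t w i) T₀) := by
  classical
  have hu : ∀ i, IsUnit (algebraMap R₁ (Kc R₁ t w i) (t i)) := fun i => by
    have := IsLocalization.Away.algebraMap_isUnit (S := Kc R₁ t w i) (t i * w)
    rw [map_mul] at this
    exact isUnit_of_mul_isUnit_left this
  refine glue_general φ J hJ (∀ i, Kc R₁ t w i) (K := R₁) (eA := e₁A)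
    (fun i => Pi.single i 1) ?_ ?_ ?_ t M' hloc
    (fun i => Pi.single i (((hu i).unit⁻¹ : (Kc R₁ t w i)ˣ) : Kc R₁ t w i)) ?_ σ
  · intro i
    rw [← Pi.single_mul, one_mul]
  · intro i j hij
    ext k
    by_cases hk : k = i
    · subst hk
      simp [hij]
    · simp [Pi.single_apply, hk]
  · exact Finset.univ_sum_single (1 : ∀ i, Kc R₁ t w i)
  · intro i
    ext k
    by_cases hk : k = i
    · subst hk
      simp only [Pi.mul_apply, Pi.single_eq_same, one_mul, Pi.algebraMap_apply]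
      exact (hu k).mul_val_inv
    · simp [Pi.single_apply, hk]

end Glue

include hJ in
theorem key (hA : SGA3b.IsMultType R A) (hCft : Algebra.FiniteType R C)
    (p : Ideal R) [hp : p.IsPrime] :
    ∃ h ∉ p, SGA3b.IsMultTypeConst (Localization.Away h) (Localization.Away h ⊗[R] (A ⧸ J)) := by
  classical
  obtain ⟨f, hfp, R₁, _, _, hfl₁, hu₁, hcov₁, M, _, ⟨e₁A⟩⟩ := exists_flat_cover A hA p
  let p₀ : PrimeSpectrum R := ⟨p, hp⟩
  obtain ⟨Q₀, hQ₀⟩ := hcov₁ p₀ hfp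
  haveI : Algebra.FiniteType R₁ (R₁ ⊗[R] C) := inferInstance
  have hloc : ∀ Q : PrimeSpectrum R₁, ∃ (t : R₁) (M' : Subgroup M), t ∉ Q.asIdeal ∧
      LocalData φ R₁ e₁A t M' :=
    fun Q => exists_local_data φ R₁ e₁A Q.asIdeal
  choose t M' htQ hld using hloc
  let π : PrimeSpectrum R₁ → PrimeSpectrum R := comap (algebraMap R R₁)
  have hT : ∀ Q Q' : PrimeSpectrum R₁, t Q ∉ Q'.asIdeal →
      TypeAt R (A ⧸ J) (π Q') (M ⧸ M' Q) :=
    fun Q Q' h => typeAt_of_local2 φ J hJ R₁ e₁A (t Q) (M' Q) (hld Q) Q' h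
  let T₀ := M ⧸ M' Q₀
  let Z : Set (PrimeSpectrum R₁) := {Q | Nonempty ((M ⧸ M' Q) ≃* T₀)}
  let S₀ : Set (PrimeSpectrum R) := π '' Z
  have hsat : π ⁻¹' S₀ = Z := by
    ext Q'
    constructor
    · rintro ⟨Q, ⟨σ⟩, hQQ'⟩
      have h1 := hT Q' Q' (htQ Q')
      have h2 := hT Q Q (htQ Q)
      rw [hQQ'] at h2
      obtain ⟨σ'⟩ := TypeAt.unique R (A ⧸ J) h1 h2
      exact ⟨σ'.trans σ⟩
    · intro hQ'
      exact ⟨Q', hQ', rfl⟩
  have hZopen : IsOpen Z := by
    rw [isOpen_iff_forall_mem_open]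
    intro Q' hQ'
    obtain ⟨σ⟩ := hQ'
    refine ⟨basicOpen (t Q'), ?_, (basicOpen (t Q')).2, htQ Q'⟩
    intro Q'' hQ''
    have h1 := hT Q'' Q'' (htQ Q'')
    have h2 := hT Q' Q'' hQ''
    obtain ⟨σ'⟩ := TypeAt.unique R (A ⧸ J) h1 h2
    exact ⟨σ'.trans σ⟩
  have hopen : IsOpen (S₀ ∩ (basicOpen f : Set (PrimeSpectrum R))) := by
    apply isOpen_inter_basicOpen R₁ f hu₁ hcov₁
    rw [hsat]
    exact hZopen
  have hp₀mem : p₀ ∈ S₀ ∩ (basicOpen f : Set (PrimeSpectrum R)) :=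
    ⟨⟨Q₀, ⟨MulEquiv.refl _⟩, hQ₀⟩, hfp⟩
  obtain ⟨_, ⟨h, rfl⟩, hph, hsub⟩ :=
    PrimeSpectrum.isTopologicalBasis_basic_opens.exists_subset_of_mem_open hp₀mem hopen
  let w : R₁ := algebraMap R R₁ h
  have hWZ : ∀ Q : PrimeSpectrum R₁, w ∉ Q.asIdeal → Q ∈ Z := fun Q hQ => by
    have h1 : π Q ∈ S₀ := (hsub (show π Q ∈ (basicOpen h : Set (PrimeSpectrum R)) from hQ)).1
    rw [← hsat]
    exact h1
  have hcover : (basicOpen w : Set (PrimeSpectrum R₁)) ⊆
      ⋃ Q ∈ (basicOpen w : Set (PrimeSpectrum R₁)), (basicOpen (t Q) : Set (PrimeSpectrum R₁)) :=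
    fun Q hQ => Set.mem_biUnion hQ (htQ Q)
  obtain ⟨F, hFsub, hFfin, hFcov⟩ := (isCompact_basicOpen w).elim_finite_subcover_image
    (fun Q _ => (basicOpen (t Q)).2) hcover
  letI : Fintype F := hFfin.fintype
  have hσ : ∀ i : F, Nonempty ((M ⧸ M' i.1) ≃* T₀) := fun i => hWZ i.1 (hFsub i.2)
  let σ : ∀ i : F, (M ⧸ M' i.1) ≃* T₀ := fun i => (hσ i).some
  obtain ⟨E⟩ := glue_pi2 φ J hJ R₁ e₁A (ι := F) (fun i => t i.1) (fun i => M' i.1)
    (fun i => hld i.1) T₀ σ w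
  haveI hflK : Module.Flat R (∀ i : F, Kc R₁ (fun i : F => t i.1) w i) :=
    Module.Flat.of_linearEquiv
      (DirectSum.linearEquivFunOnFintype R F (fun i => Kc R₁ (fun i : F => t i.1) w i)).symm
  have hwu : ∀ i : F, IsUnit (algebraMap R₁ (Kc R₁ (fun i : F => t i.1) w i) w) := fun i => by
    have := IsLocalization.Away.algebraMap_isUnit
      (S := Kc R₁ (fun i : F => t i.1) w i) (t i.1 * w)
    rw [map_mul] at this
    exact isUnit_of_mul_isUnit_right this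
  refine ⟨h, hph, isMultTypeConst_away (A ⧸ J) h (∀ i : F, Kc R₁ (fun i : F => t i.1) w i)
    ?_ ?_ T₀ E⟩
  · rw [Pi.isUnit_iff]
    intro i
    have : algebraMap R (∀ i : F, Kc R₁ (fun i : F => t i.1) w i) h i =
        algebraMap R₁ (Kc R₁ (fun i : F => t i.1) w i) w :=
      IsScalarTower.algebraMap_apply R R₁ (Kc R₁ (fun i : F => t i.1) w i) h
    rw [this]
    exact hwu i
  · intro q hq
    have hq' : q ∈ S₀ ∩ (basicOpen f : Set (PrimeSpectrum R)) := hsub hq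
    have hfq : f ∉ q.asIdeal := hq'.2
    obtain ⟨Q, hQ⟩ := hcov₁ q hfq
    have hwQ : w ∉ Q.asIdeal := by
      intro hw
      apply hq
      rw [← hQ]
      exact hw
    have hQcov := hFcov (show Q ∈ (basicOpen w : Set (PrimeSpectrum R₁)) from hwQ)
    simp only [Set.mem_iUnion] at hQcov
    obtain ⟨Qi, hQiF, htQi⟩ := hQcov
    let i : F := ⟨Qi, hQiF⟩
    have htw : t i.1 * w ∉ Q.asIdeal := fun hmem => by
      rcases Q.2.mem_or_mem hmem with h' | h'
      · exact htQi h'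
      · exact hwQ h'
    have hrange : Q ∈ Set.range (comap (algebraMap R₁ (Kc R₁ (fun i : F => t i.1) w i))) := by
      rw [localization_away_comap_range (Kc R₁ (fun i : F => t i.1) w i) (t i.1 * w)]
      exact htw
    obtain ⟨Qi', hQi'⟩ := hrange
    refine ⟨comap (Pi.evalRingHom (fun i : F => Kc R₁ (fun i : F => t i.1) w i) i) Qi', ?_⟩
    rw [← hQ, ← hQi', ← comap_comp_apply, ← comap_comp_apply]
    rfl

include hJ in
theorem main (hA : SGA3b.IsMultType R A) (hCft : Algebra.FiniteType R C) :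
    SGA3b.IsMultType R (A ⧸ J) := by
  refine ⟨{h | SGA3b.IsMultTypeConst (Localization.Away h) (Localization.Away h ⊗[R] (A ⧸ J))},
    ?_, fun h hh => hh⟩
  by_contra hne
  obtain ⟨p, hpmax, hle⟩ := Ideal.exists_le_maximal _ hne
  haveI := hpmax.isPrime
  obtain ⟨h, hhp, hh⟩ := key φ J hJ hA hCft p
  exact hhp (hle (Ideal.subset_span hh))

end Groth.Agent.Lib.Helper96.KerMain2
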