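import Groth.Agent.Lib.Helper96.Burnside
import Mathlib.RepresentationTheory.Basic
import Mathlib.RingTheory.Nilpotent.Lemmas
import Mathlib.LinearAlgebra.Dual.Lemmas
import Mathlib.FieldTheory.IsAlgClosed.AlgebraicClosure
import Groth.Agent.Lib.Helper96.LeftSlice

/-!
# Kolchin's theorem: a group of unipotent operators has a common fixed vector
-/

set_option autoImplicit false

universe u v w

namespace Groth.Agent.Lib.Helper96

section KolchinAlgClosed

variable {K : Type u} [Field K] [IsAlgClosed K] {Γ : Type w} [Group Γ]

/-- in an irreducible representation by unipotent operators every element acts trivially -/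
theorem eq_one_of_irreducible_unipotent {V : Type v} [AddCommGroup V] [Module K V]
    [FiniteDimensional K V] [Nontrivial V] (ρ : Representation K Γ V)
    (hρ : ∀ g : Γ, IsNilpotent (ρ g - 1))
    (hirr : ∀ W : Submodule K V, (∀ g : Γ, ∀ w ∈ W, ρ g w ∈ W) → W = ⊥ ∨ W = ⊤) (g : Γ) :
    ρ g = 1 := by
  have htop : Algebra.adjoin K (Set.range ρ) = ⊤ := by
    apply burnside
    intro W hW
    apply hirr
    intro g w hw
    exact hW (ρ g) (Algebra.subset_adjoin ⟨g, rfl⟩) w hw
  have htr : ∀ a : Module.End K V, LinearMap.trace K V ((ρ g - 1) * a) = 0 := by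
    intro a
    have ha : a ∈ Subalgebra.toSubmodule (Algebra.adjoin K (Set.range ρ)) := by
      rw [htop]
      exact Submodule.mem_top
    rw [Algebra.adjoin_eq_span] at ha
    have hcl : (Submonoid.closure (Set.range ρ) : Set (Module.End K V)) = Set.range ρ := by
      have : Set.range ρ = ((MonoidHom.mrange ρ : Submonoid (Module.End K V)) : Set _) := by
        ext x
        simp
      rw [this, Submonoid.closure_eq]
    rw [hcl] at ha
    induction ha using Submodule.span_induction with
    | mem x hx =>
      obtain ⟨h, rfl⟩ := hx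
      have h1 : (ρ g - 1) * ρ h = (ρ (g * h) - 1) - (ρ h - 1) := by
        rw [map_mul]
        noncomm_ring
      rw [h1, map_sub, (LinearMap.isNilpotent_trace_of_isNilpotent (hρ (g * h))).eq_zero,
        (LinearMap.isNilpotent_trace_of_isNilpotent (hρ h)).eq_zero, sub_zero]
    | zero => simp
    | add x y _ _ hx hy => rw [mul_add, map_add, hx, hy, add_zero]
    | smul c x _ hx => rw [mul_smul_comm, map_smul, hx, smul_zero]
  rw [← sub_eq_zero]
  apply LinearMap.ext
  intro v
  rw [LinearMap.zero_apply]
  rw [← Module.forall_dual_apply_eq_zero_iff K]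
  intro φ
  have h2 := htr (φ.smulRight v)
  have h3 : (ρ g - 1) * (φ.smulRight v) = φ.smulRight ((ρ g - 1) v) := by
    apply LinearMap.ext
    intro w
    simp [LinearMap.smulRight_apply]
  rw [h3, LinearMap.trace_smulRight] at h2
  exact h2

/-- Kolchin's theorem over an algebraically closed field -/
theorem kolchin_algClosed :
    ∀ (n : ℕ) (V : Type v) [AddCommGroup V] [Module K V] [FiniteDimensional K V] [Nontrivial V]
      (ρ : Representation K Γ V), Module.finrank K V = n → (∀ g : Γ, IsNilpotent (ρ g - 1)) →
      ∃ v : V, v ≠ 0 ∧ ∀ g : Γ, ρ g v = v := by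
  intro n
  induction n using Nat.strong_induction_on with
  | _ n ih =>
    intro V _ _ _ _ ρ hn hρ
    by_cases hirr : ∀ W : Submodule K V, (∀ g : Γ, ∀ w ∈ W, ρ g w ∈ W) → W = ⊥ ∨ W = ⊤
    · obtain ⟨v, hv⟩ := exists_ne (0 : V)
      refine ⟨v, hv, fun g => ?_⟩
      rw [eq_one_of_irreducible_unipotent ρ hρ hirr g]
      rfl
    · push Not at hirr
      obtain ⟨W, hW, hW0, hW1⟩ := hirr
      let ρW : Representation K Γ W :=
        { toFun := fun g => (ρ g).restrict (hW g)
          map_one' := by
            apply LinearMap.ext
            intro w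
            apply Subtype.ext
            simp
          map_mul' := fun g h => by
            apply LinearMap.ext
            intro w
            apply Subtype.ext
            simp }
      have hρW : ∀ g : Γ, IsNilpotent (ρW g - 1) := by
        intro g
        have hmaps : Set.MapsTo ((ρ g - 1 : Module.End K V) : V → V) (W : Set V) (W : Set V) := by
          intro w hw
          exact W.sub_mem (hW g w hw) hw
        have h1 : ρW g - 1 = (ρ g - 1).restrict hmaps := by
          apply LinearMap.ext
          intro w
          apply Subtype.ext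
          rfl
        rw [h1]
        exact Module.End.isNilpotent.restrict hmaps (hρ g)
      have hlt : Module.finrank K W < n := by
        rw [← hn]
        exact Submodule.finrank_lt hW1
      have : Nontrivial W := (Submodule.nontrivial_iff_ne_bot).mpr hW0
      obtain ⟨w, hw, hfix⟩ := ih _ hlt W ρW rfl hρW
      refine ⟨w.1, fun h => hw (Subtype.ext h), fun g => ?_⟩
      exact congrArg Subtype.val (hfix g)

end KolchinAlgClosed

section Kolchin

open TensorProduct

variable {k : Type u} [Field k] {Γ : Type w} [Group Γ]

/-- Kolchin's theorem: a group acting on a nonzero finite-dimensional vector space by unipotent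
operators has a nonzero common fixed vector -/
theorem kolchin {V : Type v} [AddCommGroup V] [Module k V] [FiniteDimensional k V] [Nontrivial V]
    (ρ : Representation k Γ V) (hρ : ∀ g : Γ, IsNilpotent (ρ g - 1)) :
    ∃ v : V, v ≠ 0 ∧ ∀ g : Γ, ρ g v = v := by
  let K := AlgebraicClosure k
  let ρK : Representation K Γ (K ⊗[k] V) :=
    ((Module.End.baseChangeHom k K V : Module.End k V →ₐ[k] Module.End K (K ⊗[k] V)) :
      Module.End k V →* Module.End K (K ⊗[k] V)).comp ρ
  have hρK : ∀ g : Γ, IsNilpotent (ρK g - 1) := by
    intro g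
    have h1 : ρK g - 1 = Module.End.baseChangeHom k K V (ρ g - 1) := by
      rw [map_sub, map_one]
      rfl
    rw [h1]
    exact (hρ g).map _
  have hnt : Nontrivial (K ⊗[k] V) := by
    apply Module.nontrivial_of_finrank_pos (R := K)
    rw [Module.finrank_baseChange]
    exact Module.finrank_pos
  obtain ⟨x, hx, hfix⟩ := kolchin_algClosed (K := K) _ (K ⊗[k] V) ρK rfl hρK
  have hex : ∃ φ : Module.Dual k K, lslM φ x ≠ 0 := by
    by_contra hcon
    push Not at hcon
    exact hx (eq_zero_of_lslM_eq_zero x hcon)
  obtain ⟨φ, hφ⟩ := hex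
  refine ⟨lslM φ x, hφ, fun g => ?_⟩
  have h2 : (ρ g).lTensor K x = x := hfix g
  rw [← lslM_lTensor, h2]

end Kolchin

end Groth.Agent.Lib.Helper96
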