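import Groth.Agent.Lib.Helper96.LeftSlice
import Mathlib

/-! Convolution of points of a Hopf algebra, normal Hopf ideals, and invariants of a normal
subgroup (helper96). -/

set_option autoImplicit false

open TensorProduct WithConv
universe u v w
namespace Groth.Agent.Lib.Helper96

namespace NormalInvP

section Conv
variable {k : Type u} [CommRing k] {A : Type v} [CommRing A] [HopfAlgebra k A]
variable {C : Type*} [CommRing C] [Algebra k C]

theorem id_antipode_cancel :
    toConv (AlgHom.id k A) * toConv (HopfAlgebra.antipodeAlgHom k A) = 1 := by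
  apply WithConv.ofConv_injective
  apply AlgHom.toLinearMap_injective
  apply WithConv.toConv_injective
  rw [AlgHom.toLinearMap_convMul, AlgHom.toLinearMap_convOne]
  simp [LinearMap.id_mul_antipode]

theorem comp_one (x : A →ₐ[k] C) : x.comp (ofConv (1 : WithConv (A →ₐ[k] A))) =
    ofConv (1 : WithConv (A →ₐ[k] C)) := by
  apply AlgHom.ext
  intro a
  simp [AlgHom.convOne_def]

theorem inv_mul (x : A →ₐ[k] C) :
    toConv (x.comp (HopfAlgebra.antipodeAlgHom k A)) * toConv x = 1 := by
  have h := AlgHom.comp_convMul_distrib x (toConv (HopfAlgebra.antipodeAlgHom k A))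
    (toConv (AlgHom.id k A))
  rw [AlgHom.antipode_id_cancel, comp_one] at h
  simp only [ofConv_toConv, AlgHom.comp_id] at h
  apply WithConv.ofConv_injective
  exact h.symm

theorem mul_inv (x : A →ₐ[k] C) :
    toConv x * toConv (x.comp (HopfAlgebra.antipodeAlgHom k A)) = 1 := by
  have h := AlgHom.comp_convMul_distrib x (toConv (AlgHom.id k A))
    (toConv (HopfAlgebra.antipodeAlgHom k A))
  rw [id_antipode_cancel, comp_one] at h
  simp only [ofConv_toConv, AlgHom.comp_id] at h
  apply WithConv.ofConv_injective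
  exact h.symm

end Conv

section Main
variable {k : Type u} [Field k] {A : Type v} [CommRing A] [HopfAlgebra k A]
variable (I : Ideal A)

/-- universe-polymorphic normality of a Hopf ideal: stable under conjugation by points with values
in algebras in the universe of `A` -/
def IsNormalP : Prop :=
  ∀ (R : Type v) [CommRing R] [Algebra k R] (g h : A →ₐ[k] R), (∀ a ∈ I, h a = 0) →
    ∀ a ∈ I, ofConv (toConv g * toConv h *
      toConv (g.comp (HopfAlgebra.antipodeAlgHom k A))) a = 0

theorem algMap_eq_lTensor (y : A ⊗[k] A) :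
    Algebra.TensorProduct.map (AlgHom.id k A) (Ideal.Quotient.mkₐ k I) y =
      LinearMap.lTensor A (Ideal.Quotient.mkₐ k I).toLinearMap y := by
  induction y using TensorProduct.induction_on with
  | zero => simp
  | add x y hx hy => simp only [map_add, hx, hy]
  | tmul x y => simp

theorem algMap_eq_rTensor (y : A ⊗[k] A) :
    Algebra.TensorProduct.map (Ideal.Quotient.mkₐ k I) (AlgHom.id k A) y =
      LinearMap.rTensor A (Ideal.Quotient.mkₐ k I).toLinearMap y := by
  induction y using TensorProduct.induction_on with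
  | zero => simp
  | add x y hx hy => simp only [map_add, hx, hy]
  | tmul x y => simp

/-- right `N`-invariant functions are left `N`-invariant when `N` is normal -/
theorem left_inv_of_right_inv (hI : IsNormalP (k := k) I) (a : A)
    (ha : LinearMap.lTensor A (Ideal.Quotient.mkₐ k I).toLinearMap
      (Coalgebra.comul (R := k) a) = a ⊗ₜ[k] (1 : A ⧸ I)) :
    LinearMap.rTensor A (Ideal.Quotient.mkₐ k I).toLinearMap
      (Coalgebra.comul (R := k) a) = (1 : A ⧸ I) ⊗ₜ[k] a := by
  rw [← algMap_eq_lTensor] at ha
  rw [← algMap_eq_rTensor]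
  let n : A →ₐ[k] (A ⧸ I) ⊗[k] A :=
    (Algebra.TensorProduct.includeLeft).comp (Ideal.Quotient.mkₐ k I)
  let g : A →ₐ[k] (A ⧸ I) ⊗[k] A := Algebra.TensorProduct.includeRight
  let g₀ : A →ₐ[k] (A ⧸ I) ⊗[k] A := g.comp (HopfAlgebra.antipodeAlgHom k A)
  let m : A →ₐ[k] (A ⧸ I) ⊗[k] A :=
    ofConv (toConv g₀ * toConv n * toConv (g₀.comp (HopfAlgebra.antipodeAlgHom k A)))
  have hn : ∀ a ∈ I, n a = 0 := by
    intro a ha
    have : Ideal.Quotient.mkₐ k I a = 0 := by
      rw [Ideal.Quotient.mkₐ_eq_mk, Ideal.Quotient.eq_zero_iff_mem]; exact ha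
    simp only [n, AlgHom.comp_apply, this, map_zero]
  have hm : ∀ a ∈ I, m a = 0 := hI ((A ⧸ I) ⊗[k] A) g₀ n hn
  have hG : toConv (g₀.comp (HopfAlgebra.antipodeAlgHom k A)) = toConv g :=
    left_inv_eq_right_inv (inv_mul g₀) (inv_mul g)
  have hm_eq : toConv m = toConv g₀ * toConv n * toConv g := by
    simp only [m]
    rw [toConv_ofConv, hG]
  have key : toConv n * toConv g = toConv g * toConv m := by
    rw [hm_eq]
    have e1 := _root_.mul_assoc (toConv g) (toConv g₀ * toConv n) (toConv g)
    have e2 := _root_.mul_assoc (toConv g) (toConv g₀) (toConv n)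
    have e3 := _root_.one_mul (toConv n)
    rw [← e1, ← e2, NormalInvP.mul_inv g, e3]
  have h1 : ∀ y : A ⊗[k] A, Algebra.TensorProduct.lmul' (S := (A ⧸ I) ⊗[k] A) k
      (Algebra.TensorProduct.map n g y) =
      Algebra.TensorProduct.map (Ideal.Quotient.mkₐ k I) (AlgHom.id k A) y := by
    intro y
    induction y using TensorProduct.induction_on with
    | zero => simp
    | add x y hx hy => simp only [map_add, hx, hy]
    | tmul x y =>
      simp only [n, g, Algebra.TensorProduct.map_tmul, AlgHom.comp_apply,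
        Algebra.TensorProduct.lmul'_apply_tmul, AlgHom.id_apply]
      rw [Algebra.TensorProduct.includeRight_apply, Algebra.TensorProduct.includeLeft_apply,
        Algebra.TensorProduct.tmul_mul_tmul, one_mul, mul_one]
  let mbar : (A ⧸ I) →ₐ[k] (A ⧸ I) ⊗[k] A := Ideal.Quotient.liftₐ I m hm
  have h2 : ∀ y : A ⊗[k] A, Algebra.TensorProduct.map g m y =
      Algebra.TensorProduct.map g mbar
        (Algebra.TensorProduct.map (AlgHom.id k A) (Ideal.Quotient.mkₐ k I) y) := by
    intro y
    induction y using TensorProduct.induction_on with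
    | zero => simp
    | add x y hx hy => simp only [map_add, hx, hy]
    | tmul x y =>
      simp only [Algebra.TensorProduct.map_tmul, AlgHom.id_apply]
      rfl
  have e1 := congrArg (fun f : WithConv (A →ₐ[k] (A ⧸ I) ⊗[k] A) => f.ofConv a) key
  simp only [AlgHom.convMul_def, ofConv_toConv, AlgHom.comp_apply,
    Bialgebra.comulAlgHom_apply] at e1
  rw [h1, h2, ha] at e1
  rw [e1]
  simp [g]

/-- the invariants of a normal subgroup form a subcomodule -/
theorem isSub_invariants {V : Type*} [AddCommGroup V] [Module k V] (c : HopfRep.Comod k A V)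
    (hI : IsNormalP (k := k) I) (W : Submodule k V)
    (hW : ∀ v : V, v ∈ W ↔
      LinearMap.lTensor V (Ideal.Quotient.mkₐ k I).toLinearMap (c.coact v) =
        v ⊗ₜ[k] (1 : A ⧸ I)) :
    IsSub c W := by
  rw [isSub_iff_slice]
  intro v hv μ
  rw [hW] at hv ⊢
  rw [← sub_eq_zero]
  apply eq_zero_of_lslM_eq_zero
  intro ν
  rw [map_sub, sub_eq_zero, lslM_lTensor, lslM_tmul]
  set π := (Ideal.Quotient.mkₐ k I).toLinearMap with hπ
  set a := lsl' ν (c.coact v) with ha
  have hA : Coalgebra.comul (R := k) a = (lsl' (A := A) ν ∘ₗ c.coact).rTensor A (c.coact v) :=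
    comul_lsl'_coact c ν v
  have hB : LinearMap.lTensor A π (Coalgebra.comul (R := k) a) = a ⊗ₜ[k] (1 : A ⧸ I) := by
    rw [hA, ← LinearMap.comp_apply, LinearMap.lTensor_comp_rTensor, ← LinearMap.rTensor_comp_lTensor,
      LinearMap.comp_apply, hv, LinearMap.rTensor_tmul]
    rfl
  have hL := left_inv_of_right_inv I hI a hB
  have hC : lslM ν (c.coact (slice V μ (c.coact v))) = slice A μ (Coalgebra.comul (R := k) a) := by
    rw [hA, slice_rTensor]
    rfl
  have hD : π (slice A μ (Coalgebra.comul (R := k) a)) = μ a • (1 : A ⧸ I) := by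
    rw [← slice_rTensor, hL, slice_tmul]
  have hE : ∀ y : V ⊗[k] A, ν (slice V μ y) = μ (lsl' ν y) := by
    intro y
    induction y using TensorProduct.induction_on with
    | zero => simp
    | add x y hx hy => simp only [map_add, hx, hy]
    | tmul x y => simp [lsl'_tmul, mul_comm]
  rw [hC, hD, hE]

end Main

end NormalInvP

end Groth.Agent.Lib.Helper96
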