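import Groth.Agent.Lib.Helper96.SocSeries
import Groth.Prelude.Def_Lie2

/-! The `p`-Lie algebra of a unipotent group is unipotent (helper96). -/

set_option autoImplicit false
open TensorProduct
universe u
namespace Groth.Agent.Lib.Helper96.PLie

variable {k : Type u} [Field k] {A : Type u} [CommRing A] [HopfAlgebra k A]

/-- right translation operator `(id ⊗ φ) ∘ Δ` -/
noncomputable def L (φ : A →ₗ[k] k) : A →ₗ[k] A :=
  slice A φ ∘ₗ CoalgebraStruct.comul (R := k) (A := A)

theorem L_apply (φ : A →ₗ[k] k) (a : A) :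
    L φ a = slice A φ (CoalgebraStruct.comul (R := k) a) := rfl

theorem mul'_map_eq (φ δ : A →ₗ[k] k) (Y : A ⊗[k] A) :
    LinearMap.mul' k k (TensorProduct.map φ δ Y) = φ (slice A δ Y) := by
  induction Y using TensorProduct.induction_on with
  | zero => simp
  | add x y hx hy => simp only [map_add, hx, hy]
  | tmul x y => simp [mul_comm]

theorem convPow_succ' (δ : A →ₗ[k] k) (m : ℕ) :
    LieHopf.convPow δ (m + 1) = LieHopf.convPow δ m ∘ₗ L δ := by
  apply LinearMap.ext
  intro a
  show LinearMap.mul' k k (TensorProduct.map (LieHopf.convPow δ m) δ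
    (CoalgebraStruct.comul (R := k) a)) = _
  rw [mul'_map_eq]
  rfl

theorem convPow_eq (δ : A →ₗ[k] k) (m : ℕ) :
    LieHopf.convPow δ m = (Bialgebra.counitAlgHom k A).toLinearMap ∘ₗ (L δ) ^ m := by
  induction m with
  | zero => rfl
  | succ m ih =>
    rw [convPow_succ', ih, pow_succ, LinearMap.comp_assoc]
    rfl

/-- `ε`-derivations as linear forms -/
def IsEpsDer (δ : A →ₗ[k] k) : Prop :=
  ∀ x y : A, δ (x * y) = CoalgebraStruct.counit (R := k) x * δ y +
    δ x * CoalgebraStruct.counit (R := k) y

theorem slice_mul {δ : A →ₗ[k] k} (hδ : IsEpsDer δ) (Y Y' : A ⊗[k] A) :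
    slice A δ (Y * Y') =
      slice A δ Y * slice A (CoalgebraStruct.counit (R := k) (A := A)) Y' +
        slice A (CoalgebraStruct.counit (R := k) (A := A)) Y * slice A δ Y' := by
  induction Y using TensorProduct.induction_on with
  | zero => simp
  | add x y hx hy => rw [add_mul, map_add, hx, hy, map_add, map_add]; ring
  | tmul x y =>
    induction Y' using TensorProduct.induction_on with
    | zero => simp
    | add x' y' hx hy => rw [mul_add, map_add, hx, hy, map_add, map_add]; ring
    | tmul x' y' =>
      rw [Algebra.TensorProduct.tmul_mul_tmul, slice_tmul, slice_tmul, slice_tmul, slice_tmul,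
        slice_tmul, hδ, add_smul, smul_mul_smul_comm, smul_mul_smul_comm]
      exact add_comm _ _

theorem slice_counit_comul (b : A) :
    slice A (CoalgebraStruct.counit (R := k) (A := A)) (CoalgebraStruct.comul (R := k) b) = b := by
  unfold slice
  rw [LinearMap.comp_apply, Coalgebra.lTensor_counit_comul]
  simp

theorem L_mul {δ : A →ₗ[k] k} (hδ : IsEpsDer δ) (a b : A) :
    L δ (a * b) = L δ a * b + a * L δ b := by
  rw [L_apply, Bialgebra.comul_mul, slice_mul hδ, slice_counit_comul, slice_counit_comul]
  rfl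

/-- in characteristic `p`, the `p^n`-th power of a derivation is a derivation -/
theorem pow_char_pow_mul (p : ℕ) [Fact p.Prime] [CharP k p] (T : A →ₗ[k] A)
    (hT : ∀ a b, T (a * b) = T a * b + a * T b) (n : ℕ) (a b : A) :
    (T ^ p ^ n) (a * b) = (T ^ p ^ n) a * b + a * (T ^ p ^ n) b := by
  have : Nontrivial A := (Bialgebra.counitAlgHom k A).toRingHom.domain_nontrivial
  have : CharP (Module.End k (A ⊗[k] A)) p :=
    charP_of_injective_algebraMap (algebraMap k (Module.End k (A ⊗[k] A))).injective p
  let x : Module.End k (A ⊗[k] A) := T.rTensor A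
  let y : Module.End k (A ⊗[k] A) := T.lTensor A
  have hcomm : Commute x y := by
    show T.rTensor A ∘ₗ T.lTensor A = T.lTensor A ∘ₗ T.rTensor A
    rw [LinearMap.rTensor_comp_lTensor, LinearMap.lTensor_comp_rTensor]
  have hμ : ∀ z : A ⊗[k] A, T (LinearMap.mul' k A z) = LinearMap.mul' k A ((x + y) z) := by
    intro z
    induction z using TensorProduct.induction_on with
    | zero => simp
    | add u v hu hv => simp only [map_add, hu, hv]
    | tmul u v =>
      simp only [x, y, LinearMap.mul'_apply, LinearMap.add_apply, LinearMap.rTensor_tmul,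
        LinearMap.lTensor_tmul, map_add, hT]
  have hpow : ∀ m : ℕ, ∀ z : A ⊗[k] A,
      (T ^ m) (LinearMap.mul' k A z) = LinearMap.mul' k A (((x + y) ^ m) z) := by
    intro m
    induction m with
    | zero => intro z; simp
    | succ m ih =>
      intro z
      rw [pow_succ, pow_succ, Module.End.mul_apply, Module.End.mul_apply, hμ, ih]
  have h1 := hpow (p ^ n) (a ⊗ₜ[k] b)
  rw [add_pow_char_pow_of_commute p n hcomm] at h1
  simp only [x, y, LinearMap.rTensor_pow, LinearMap.lTensor_pow, LinearMap.mul'_apply,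
    LinearMap.add_apply, LinearMap.rTensor_tmul, LinearMap.lTensor_tmul, map_add] at h1
  exact h1

theorem isEpsDer_convPow (p : ℕ) [Fact p.Prime] [CharP k p] {δ : A →ₗ[k] k} (hδ : IsEpsDer δ)
    (n : ℕ) : IsEpsDer (LieHopf.convPow δ (p ^ n)) := by
  intro a b
  rw [convPow_eq]
  simp only [LinearMap.coe_comp, Function.comp_apply, AlgHom.toLinearMap_apply]
  rw [pow_char_pow_mul p (L δ) (L_mul hδ) n a b, map_add, map_mul, map_mul]
  rw [add_comm]
  rfl

/-- convolution powers of a form killing `1` kill the socle series -/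
theorem convPow_Soc {δ : A →ₗ[k] k} (h1 : δ 1 = 0) (r : ℕ) :
    ∀ m, r < m → ∀ b ∈ SocSeries.Soc k A r, LieHopf.convPow δ m b = 0 := by
  induction r with
  | zero =>
    intro m hm b hb
    obtain ⟨m, rfl⟩ : ∃ m', m = m' + 1 := ⟨m - 1, by omega⟩
    rw [SocSeries.Soc_zero] at hb
    obtain ⟨t, rfl⟩ := Submodule.mem_span_singleton.mp hb
    rw [map_smul, convPow_succ', LinearMap.comp_apply, L_apply, Bialgebra.comul_one,
      Algebra.TensorProduct.one_def, slice_tmul, h1, zero_smul, map_zero, smul_zero]
  | succ r ih =>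
    intro m hm b hb
    obtain ⟨m, rfl⟩ : ∃ m', m = m' + 1 := ⟨m - 1, by omega⟩
    rw [SocSeries.mem_Soc_succ] at hb
    obtain ⟨z, hz⟩ := hb
    have hb' : CoalgebraStruct.comul (R := k) b =
        b ⊗ₜ[k] (1 : A) + (SocSeries.Soc k A r).subtype.rTensor A z := by
      rw [hz]; abel
    rw [convPow_succ', LinearMap.comp_apply, L_apply, hb', map_add, slice_tmul, h1, zero_smul,
      zero_add]
    have hm' : r < m := by omega
    clear hz hb'
    induction z using TensorProduct.induction_on with
    | zero => simp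
    | add u v hu hv => rw [map_add, map_add, map_add, hu, hv, add_zero]
    | tmul u v =>
      rw [LinearMap.rTensor_tmul, slice_tmul, map_smul, Submodule.subtype_apply,
        ih m hm' u.1 u.2, smul_zero]

/-- the `p`-Lie algebra of a unipotent algebraic group is unipotent -/
theorem exists_convPow_eq_zero (p : ℕ) [Fact p.Prime] [CharP k p] [Algebra.FiniteType k A]
    (hU : HopfRep.IsUnipotent k A) {δ : A →ₗ[k] k} (hδ : IsEpsDer δ) :
    ∃ n : ℕ, 0 < n ∧ LieHopf.convPow δ (p ^ n) = 0 := by
  have h1 : δ 1 = 0 := by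
    have := hδ 1 1
    rw [mul_one, Bialgebra.counit_one, one_mul, mul_one] at this
    exact left_eq_add.mp this
  obtain ⟨s, hs⟩ := (Algebra.FiniteType.out : (⊤ : Subalgebra k A).FG)
  -- a common level of the socle series for the generators
  have hlev : ∀ s : Finset A, ∃ r, ∀ a ∈ s, a ∈ SocSeries.Soc k A r := by
    classical
    intro s
    induction s using Finset.induction_on with
    | empty => exact ⟨0, fun a ha => absurd ha (Finset.notMem_empty a)⟩
    | insert a s _ ih =>
      obtain ⟨r, hr⟩ := ih
      obtain ⟨r', hr'⟩ := SocSeries.exists_mem_Soc_of_isUnipotent hU a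
      refine ⟨max r r', fun x hx => ?_⟩
      rcases Finset.mem_insert.mp hx with rfl | hx
      · exact SocSeries.Soc_mono k A (le_max_right r r') hr'
      · exact SocSeries.Soc_mono k A (le_max_left r r') (hr x hx)
  obtain ⟨r, hr⟩ := hlev s
  have hp : 1 < p := (Fact.out : p.Prime).one_lt
  refine ⟨r + 1, by omega, ?_⟩
  have hlt : r < p ^ (r + 1) := lt_of_lt_of_le (Nat.lt_succ_self r) (Nat.lt_pow_self hp).le
  have hder := isEpsDer_convPow p hδ (r + 1)
  set δ' := LieHopf.convPow δ (p ^ (r + 1)) with hδ'
  have h1' : δ' 1 = 0 := by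
    have := hder 1 1
    rw [mul_one, Bialgebra.counit_one, one_mul, mul_one] at this
    exact left_eq_add.mp this
  apply LinearMap.ext
  intro a
  have ha : a ∈ Algebra.adjoin k (s : Set A) := by rw [hs]; trivial
  rw [LinearMap.zero_apply]
  induction ha using Algebra.adjoin_induction with
  | mem x hx => exact convPow_Soc h1 r _ hlt x (hr x hx)
  | algebraMap c => rw [Algebra.algebraMap_eq_smul_one, map_smul, h1', smul_zero]
  | add x y _ _ hx hy => rw [map_add, hx, hy, add_zero]
  | mul x y _ _ hx hy => rw [hder, hx, hy, mul_zero, zero_mul, add_zero]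

end Groth.Agent.Lib.Helper96.PLie
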