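import Mathlib

/-! Polynomial sequences from unipotent operators, and a Taylor-type vanishing lemma (helper96). -/

set_option autoImplicit false

open Polynomial
universe u v w
namespace Groth.Agent.Lib.Helper96

namespace PolySeq

variable {k : Type u} [Field k] [CharZero k]

/-- polynomials over a field of characteristic zero agreeing at all natural numbers are equal -/
theorem poly_ext_nat (p q : k[X]) (h : ∀ n : ℕ, p.eval (n : k) = q.eval (n : k)) : p = q := by
  apply Polynomial.eq_of_infinite_eval_eq
  apply Set.Infinite.mono (s := Set.range (Nat.cast : ℕ → k))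
  · rintro _ ⟨n, rfl⟩
    exact h n
  · exact Set.infinite_range_of_injective Nat.cast_injective

/-- the binomial polynomial `X(X-1)...(X-j+1)/j!` -/
noncomputable def binomPoly (k : Type u) [Field k] (j : ℕ) : k[X] :=
  C ((j.factorial : k)⁻¹) * descPochhammer k j

theorem eval_binomPoly (j n : ℕ) : (binomPoly k j).eval (n : k) = (n.choose j : k) := by
  unfold binomPoly
  rw [eval_mul, eval_C, descPochhammer_eval_eq_descFactorial, Nat.descFactorial_eq_factorial_mul_choose,
    Nat.cast_mul, ← mul_assoc, inv_mul_cancel₀, one_mul]
  exact_mod_cast Nat.factorial_ne_zero j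

/-- matrix coefficients of powers of a unipotent operator are polynomial in the exponent -/
theorem exists_poly_of_nilpotent {W : Type v} [AddCommGroup W] [Module k W]
    (N : Module.End k W) (m : ℕ) (hN : N ^ m = 0) (l : W →ₗ[k] k) (w : W) :
    ∃ p : k[X], ∀ n : ℕ, p.eval (n : k) = l (((1 + N) ^ n) w) := by
  refine ⟨∑ j ∈ Finset.range m, C (l ((N ^ j) w)) * binomPoly k j, ?_⟩
  intro n
  have hc : Commute N (1 : Module.End k W) := Commute.one_right N
  rw [add_comm 1 N, hc.add_pow, eval_finsetSum]
  simp only [eval_mul, eval_C, eval_binomPoly, one_pow, mul_one]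
  rw [LinearMap.sum_apply, map_sum]
  have e1 : ∀ j, l ((N ^ j * (n.choose j : Module.End k W)) w) = l ((N ^ j) w) * (n.choose j : k) := by
    intro j
    have : (n.choose j : Module.End k W) = (n.choose j : k) • (1 : Module.End k W) := by
      rw [Nat.cast_smul_eq_nsmul, nsmul_eq_mul, mul_one]
    rw [this, mul_smul_comm, mul_one, LinearMap.smul_apply, map_smul, smul_eq_mul, mul_comm]
  simp only [e1]
  set f : ℕ → k := fun j => l ((N ^ j) w) * (n.choose j : k) with hf
  show ∑ j ∈ Finset.range m, f j = ∑ j ∈ Finset.range (n + 1), f j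
  have h1 : ∑ j ∈ Finset.range m, f j = ∑ j ∈ Finset.range (max m (n + 1)), f j := by
    apply Finset.sum_subset (Finset.range_subset_range.mpr (le_max_left _ _))
    intro j _ hj
    rw [Finset.mem_range, not_lt] at hj
    have : N ^ j = 0 := by
      obtain ⟨d, rfl⟩ := Nat.exists_eq_add_of_le hj
      rw [pow_add, hN, zero_mul]
    rw [hf]
    simp only
    rw [this, LinearMap.zero_apply, map_zero, zero_mul]
  have h2 : ∑ j ∈ Finset.range (n + 1), f j = ∑ j ∈ Finset.range (max m (n + 1)), f j := by
    apply Finset.sum_subset (Finset.range_subset_range.mpr (le_max_right _ _))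
    intro j _ hj
    rw [Finset.mem_range, not_lt] at hj
    rw [hf]
    simp only
    rw [Nat.choose_eq_zero_of_lt (by omega), Nat.cast_zero, mul_zero]
  rw [h1, h2]

/-- a family of polynomials closed under derivation and vanishing at zero vanishes -/
theorem eq_zero_of_derivative_family {S : Type w} (nxt : S → S) (H : S → k[X])
    (hH : ∀ s, derivative (H s) = H (nxt s)) (h0 : ∀ s, (H s).eval 0 = 0) (s : S) : H s = 0 := by
  have key : ∀ (j : ℕ) (s : S), (derivative^[j] (H s)).eval 0 = 0 := by
    intro j
    induction j with
    | zero => intro s; exact h0 s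
    | succ j ih =>
      intro s
      rw [Function.iterate_succ_apply, hH]
      exact ih (nxt s)
  ext j
  have h1 := key j s
  rw [← coeff_zero_eq_eval_zero, coeff_iterate_derivative, zero_add, Nat.descFactorial_self] at h1
  rw [coeff_zero]
  rcases smul_eq_zero.mp h1 with h2 | h2
  · exact absurd h2 (Nat.factorial_ne_zero j)
  · exact h2

end PolySeq

end Groth.Agent.Lib.Helper96
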