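import Mathlib
import Groth.Prelude.Def_Mor2
import Groth.Agent.Lib.Helper66.SG2

/-! The rank kills a finite locally free group scheme over a reduced affine base (scheme form of
helper66 SG2; helper96). -/

set_option autoImplicit false
universe u
open CategoryTheory AlgebraicGeometry MonoidalCategory CartesianMonoidalCategory MonObj GrpObj
open CategoryTheory.Limits
open scoped TensorProduct

namespace Groth.Agent.Lib.Helper96.PowRank

section Affine
variable (R : Type u) [CommRing R]

theorem pow_eq_one_affine [IsReduced R] (G : Over (Spec (CommRingCat.of R))) [GrpObj G] (n : ℕ)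
    (hG : Mor2.IsFinLocFreeOfDeg n G.hom) : (𝟙 G : G ⟶ G) ^ n = 1 := by
  obtain ⟨⟨hfin, hflat, hlfp⟩, hrk⟩ := hG
  have haff : IsAffine G.left := isAffine_of_isAffineHom G.hom
  let Rc := CommRingCat.of R
  have hG' : (hopfSpec Rc).essImage (Grp.mk G) := by
    rw [essImage_hopfSpec]
    infer_instance
  let H := hG'.witness
  let e : (hopfSpec Rc).obj H ≅ Grp.mk G := hG'.getIso
  let f : ((hopfSpec Rc).obj H).X ⟶ G := e.hom.hom.hom
  have hf : IsIso f := (Iso.isIso_hom ((Mon.forget _).mapIso ((Grp.forget₂Mon _).mapIso e)))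
  have hfm : IsMonHom f := e.hom.hom.isMonHom_hom
  let fl : Spec (CommRingCat.of H.unop) ⟶ G.left := f.left
  have hfl : IsIso fl := (Over.forget _).map_isIso f
  -- module-theoretic properties of the Hopf algebra
  have hw : fl ≫ G.hom = Spec.map (CommRingCat.ofHom (algebraMap R H.unop)) := Over.w f
  have hfin' : IsFinite (Spec.map (CommRingCat.ofHom (algebraMap R H.unop))) := by
    rw [← hw]; infer_instance
  have hflat' : Flat (Spec.map (CommRingCat.ofHom (algebraMap R H.unop))) := by
    rw [← hw]; infer_instance
  have hlfp' : LocallyOfFinitePresentation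
      (Spec.map (CommRingCat.ofHom (algebraMap R H.unop))) := by
    rw [← hw]; infer_instance
  have m1 : Module.Finite R H.unop := by
    rw [IsFinite.SpecMap_iff] at hfin'
    exact RingHom.finite_algebraMap.mp hfin'
  have m2 : Module.Flat R H.unop := by
    rw [Flat.SpecMap_iff] at hflat'
    exact RingHom.flat_algebraMap_iff.mp hflat'
  have m3 : Algebra.FinitePresentation R H.unop := by
    rw [LocallyOfFinitePresentation.SpecMap_iff] at hlfp'
    exact RingHom.finitePresentation_algebraMap.mp hlfp'
  have m4 : Module.FinitePresentation R H.unop :=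
    Module.FinitePresentation.of_finite_of_finitePresentation R H.unop
  have m5 : Module.Projective R H.unop := Module.Flat.projective_of_finitePresentation
  have hrank : ∀ p : PrimeSpectrum R, Module.rankAtStalk (R := R) H.unop p = n := by
    intro p
    rw [← Scheme.Hom.finrank_SpecMap_algebraMap R H.unop p, ← hw,
      Scheme.Hom.finrank_comp_left_of_isIso]
    exact hrk p
  -- the universal point of `Spec A`
  have key : WithConv.toConv (AlgHom.id R H.unop) ^ n = 1 :=
    Groth.Agent.Lib.Helper66.SG2.convPow_point_of_isReduced n hrank (AlgHom.id R H.unop)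
  let Ψ := Spec.mapMulEquiv (R := R) (S := H.unop) (T := H.unop)
  have h1 : Ψ (WithConv.toConv (AlgHom.id R H.unop)) = 𝟙 _ := by
    ext1
    show Spec.map (CommRingCat.ofHom (AlgHom.id R H.unop).toRingHom) = 𝟙 _
    exact Spec.map_id _
  have h2 : (𝟙 ((hopfSpec Rc).obj H).X : ((hopfSpec Rc).obj H).X ⟶ ((hopfSpec Rc).obj H).X) ^ n
      = 1 := by
    have := congrArg Ψ key
    rw [map_pow, map_one, h1] at this
    exact this
  have h3 : f ≫ (𝟙 G : G ⟶ G) ^ n = f ≫ 1 := by
    rw [MonObj.comp_pow, Category.comp_id, MonObj.comp_one]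
    have h4 : f = 𝟙 _ ≫ f := (Category.id_comp f).symm
    rw [h4, ← MonObj.pow_comp, h2, MonObj.one_comp]
  exact (cancel_epi f).mp h3

end Affine

end Groth.Agent.Lib.Helper96.PowRank
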