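import Mathlib
import Groth.Prelude.Def_Mor2
import Groth.Prelude.Def_Red
import Groth.Agent.Lib.Helper96.PowRank0
import Groth.Agent.Lib.Helper19.Grp.AdjPoints

/-! The rank kills a finite locally free group scheme over a reduced base: reduction to the affine
case via the base-change adjunction (helper96). -/

set_option autoImplicit false
universe u
open CategoryTheory AlgebraicGeometry MonoidalCategory CartesianMonoidalCategory MonObj GrpObj
open CategoryTheory.Limits
open scoped TensorProduct

namespace Groth.Agent.Lib.Helper96.PowRank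

theorem pow_eq_one (S : Scheme.{u}) [IsReduced S] (G : Over S) [GrpObj G] (n : ℕ)
    (hG : Mor2.IsFinLocFreeOfDeg n G.hom) : (𝟙 G : G ⟶ G) ^ n = 1 := by
  obtain ⟨⟨hfin, hflat, hlfp⟩, hrk⟩ := hG
  apply Over.OverMorphism.ext
  let 𝒰 : S.OpenCover := S.affineOpenCover.openCover
  let 𝒱 : G.left.OpenCover := 𝒰.pullback₁ G.hom
  apply 𝒱.hom_ext
  intro i
  let j : Spec (S.affineOpenCover.X i) ⟶ S := S.affineOpenCover.f i
  have hj : IsOpenImmersion j := S.affineOpenCover.map_prop i
  let adj := Over.mapPullbackAdj j
  let ε : (Over.map j).obj ((Over.pullback j).obj G) ⟶ G := adj.counit.app G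
  have hred : IsReduced (Spec (S.affineOpenCover.X i)) := isReduced_of_isOpenImmersion j
  have hredR : _root_.IsReduced (S.affineOpenCover.X i) := (affine_isReduced_iff _).mp hred
  have hG' : Mor2.IsFinLocFreeOfDeg n (Red.bc j G).hom := by
    refine ⟨⟨?_, ?_, ?_⟩, fun y => ?_⟩
    · show IsFinite (pullback.snd G.hom j); infer_instance
    · show Flat (pullback.snd G.hom j); infer_instance
    · show LocallyOfFinitePresentation (pullback.snd G.hom j); infer_instance
    · show Scheme.Hom.finrank (pullback.snd G.hom j) y = n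
      rw [Scheme.Hom.finrank_pullback_snd]
      exact hrk _
  have haff := @pow_eq_one_affine (S.affineOpenCover.X i) _ hredR (Red.bc j G) _ n hG'
  have h1 : ε ^ n = 1 := by
    apply (Groth.Agent.Lib.Helper19.CommWords.homMulEquiv adj G (Red.bc j G)).injective
    rw [map_pow, map_one]
    have h2 : Groth.Agent.Lib.Helper19.CommWords.homMulEquiv adj G (Red.bc j G) ε = 𝟙 _ := by
      rw [Groth.Agent.Lib.Helper19.CommWords.homMulEquiv_apply]
      rw [adj.homEquiv_unit]
      exact adj.right_triangle_components G
    rw [h2]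
    exact haff
  have h3 : ε ≫ (𝟙 G : G ⟶ G) ^ n = ε ≫ 1 := by
    rw [MonObj.comp_pow, Category.comp_id, MonObj.comp_one, h1]
  exact congrArg (fun m => m.left) h3

end Groth.Agent.Lib.Helper96.PowRank
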