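import Groth.Agent.Lib.Helper96.MultUnip
import Mathlib

/-! Primitive elements: none in Hopf algebras of multiplicative type, and none after arbitrary
base change (helper96). -/

set_option autoImplicit false

open TensorProduct
universe u v
namespace Groth.Agent.Lib.Helper96

namespace Prim

section Diag
variable {K : Type u} [Field K] {H : Type v} [CommRing H] [HopfAlgebra K H]

/-- a Hopf algebra spanned by group-like elements has no nonzero primitive elements -/
theorem eq_zero_of_primitive_of_isDiagonalizable (h : HopfRep.IsDiagonalizable K H) (y : H)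
    (hy : Coalgebra.comul (R := K) y = y ⊗ₜ[K] (1 : H) + (1 : H) ⊗ₜ[K] y) : y = 0 := by
  classical
  have hli : LinearIndependent K (GroupLike.val (R := K) (A := H)) := linearIndep_groupLikeVal
  have hsp : ⊤ ≤ Submodule.span K (Set.range (GroupLike.val (R := K) (A := H))) := by
    have hr : Set.range (GroupLike.val (R := K) (A := H)) = {a : H | IsGroupLikeElem K a} := by
      ext a
      constructor
      · rintro ⟨g, rfl⟩; exact g.isGroupLikeElem_val
      · intro ha; exact ⟨⟨a, ha⟩, rfl⟩
    rw [hr]
    exact h.ge
  let b : Module.Basis (GroupLike K H) K H := Module.Basis.mk hli hsp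
  have hb : ∀ g : GroupLike K H, b g = g.val := fun g => Module.Basis.mk_apply hli hsp g
  let B := b.tensorProduct b
  have h1 : b.repr (1 : H) = Finsupp.single (1 : GroupLike K H) 1 := by
    have : (1 : H) = b (1 : GroupLike K H) := by rw [hb]; rfl
    rw [this, b.repr_self]
  have keyL : ∀ g h' : GroupLike K H, B.repr (Coalgebra.comul (R := K) y) (g, h') =
      if g = h' then b.repr y g else 0 := by
    intro g h'
    have hL : (B.coord (g, h')) ∘ₗ (Coalgebra.comul (R := K) (A := H)) =
        if g = h' then b.coord g else 0 := by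
      apply b.ext
      intro x
      rw [LinearMap.comp_apply, hb, x.isGroupLikeElem_val.comul_eq_tmul_self,
        Module.Basis.coord_apply, ← hb, Module.Basis.tensorProduct_repr_tmul_apply, b.repr_self]
      by_cases hgh : g = h'
      · subst hgh
        simp only [if_true, Module.Basis.coord_apply, b.repr_self, Finsupp.single_apply]
        split_ifs <;> simp
      · simp only [hgh, if_false, LinearMap.zero_apply, Finsupp.single_apply]
        by_cases hxg : x = g
        · subst hxg
          simp [hgh]
        · simp [hxg]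
    have := LinearMap.congr_fun hL y
    rw [LinearMap.comp_apply, Module.Basis.coord_apply] at this
    rw [this]
    split_ifs <;> simp
  have keyR : ∀ g h' : GroupLike K H, B.repr (Coalgebra.comul (R := K) y) (g, h') =
      (if h' = 1 then b.repr y g else 0) + (if g = 1 then b.repr y h' else 0) := by
    intro g h'
    rw [hy, map_add, Finsupp.add_apply, Module.Basis.tensorProduct_repr_tmul_apply,
      Module.Basis.tensorProduct_repr_tmul_apply, h1]
    simp only [Finsupp.single_apply, smul_eq_mul]
    by_cases hh : h' = 1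
    · by_cases hg : g = 1
      · subst hh; subst hg; simp
      · subst hh
        have hg' : ¬ (1 : GroupLike K H) = g := fun e => hg e.symm
        simp [hg, hg']
    · have hh' : ¬ (1 : GroupLike K H) = h' := fun e => hh e.symm
      by_cases hg : g = 1
      · subst hg; simp [hh, hh']
      · have hg' : ¬ (1 : GroupLike K H) = g := fun e => hg e.symm
        simp [hg, hg', hh, hh']
  have hc : ∀ g : GroupLike K H, b.repr y g = 0 := by
    intro g
    by_cases hg : g = 1
    · subst hg
      have e1 := keyL 1 1
      have e2 := keyR 1 1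
      rw [e1] at e2
      simp only [if_true] at e2
      -- c = c + c
      have : b.repr y 1 = b.repr y 1 + b.repr y 1 := e2
      rwa [left_eq_add] at this
    · have e1 := keyL g 1
      have e2 := keyR g 1
      rw [e1] at e2
      simp only [hg, if_false, if_true, add_zero] at e2
      exact e2.symm
  have : b.repr y = 0 := Finsupp.ext hc
  exact (b.repr.map_eq_zero_iff).mp this

end Diag

section BC
variable (k : Type u) [Field k] (K : Type u) [Field K] [Algebra k K]
variable (B : Type u) [CommRing B] [HopfAlgebra k B]

/-- if a base change to a field extension is spanned by group-likes, there are no nonzero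
primitive elements -/
theorem eq_zero_of_primitive_of_baseChange (h : HopfRep.IsDiagonalizable K (K ⊗[k] B)) (m : B)
    (hm : Coalgebra.comul (R := k) m = m ⊗ₜ[k] (1 : B) + (1 : B) ⊗ₜ[k] m) : m = 0 := by
  have h1 : Coalgebra.comul (R := K) ((1 : K) ⊗ₜ[k] m) =
      ((1 : K) ⊗ₜ[k] m) ⊗ₜ[K] (1 : K ⊗[k] B) + (1 : K ⊗[k] B) ⊗ₜ[K] ((1 : K) ⊗ₜ[k] m) := by
    rw [comul_one_tmul, hm, map_add, jmap_tmul, jmap_tmul, Algebra.TensorProduct.one_def]
  have h2 := eq_zero_of_primitive_of_isDiagonalizable h _ h1
  have hinj : Function.Injective (Algebra.TensorProduct.includeRight (R := k) (A := K) (B := B)) :=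
    Algebra.TensorProduct.includeRight_injective (algebraMap k K).injective
  apply hinj
  rw [map_zero]
  exact h2

end BC

section Ring
variable (k : Type u) [Field k] (R : Type u) [CommRing R] [Algebra k R]
variable (B : Type u) [CommRing B] [HopfAlgebra k B]

/-- the map `m ↦ Δm - m⊗1 - 1⊗m` -/
noncomputable def primMap : B →ₗ[k] B ⊗[k] B :=
  Coalgebra.comul - (TensorProduct.mk k B B).flip 1 - TensorProduct.mk k B B 1

theorem primMap_apply (m : B) :
    primMap k B m = Coalgebra.comul (R := k) m - m ⊗ₜ[k] 1 - 1 ⊗ₜ[k] m := rfl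

theorem comul_tmul_eq (r : R) (m : B) :
    Coalgebra.comul (R := R) (r ⊗ₜ[k] m) =
      AlgebraTensorModule.distribBaseChange k R B B (r ⊗ₜ[k] Coalgebra.comul (R := k) m) := by
  rw [TensorProduct.comul_tmul]
  have hc : Coalgebra.comul (R := R) r = (1 : R) ⊗ₜ[R] r := rfl
  rw [hc]
  generalize Coalgebra.comul (R := k) m = w
  induction w using TensorProduct.induction_on with
  | zero => simp
  | add a b ha hb => simp only [tmul_add, map_add, ha, hb]
  | tmul a b =>
    rw [AlgebraTensorModule.distribBaseChange_tmul,
      AlgebraTensorModule.tensorTensorTensorComm_tmul]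
    have e1 : r ⊗ₜ[k] b = r • ((1 : R) ⊗ₜ[k] b) := by
      rw [TensorProduct.smul_tmul', smul_eq_mul, mul_one]
    have e2 : r ⊗ₜ[k] a = r • ((1 : R) ⊗ₜ[k] a) := by
      rw [TensorProduct.smul_tmul', smul_eq_mul, mul_one]
    rw [e1, e2, TensorProduct.tmul_smul, TensorProduct.smul_tmul']

theorem comul_sub_eq (y : R ⊗[k] B) :
    Coalgebra.comul (R := R) y - y ⊗ₜ[R] (1 : R ⊗[k] B) - (1 : R ⊗[k] B) ⊗ₜ[R] y =
      AlgebraTensorModule.distribBaseChange k R B B ((primMap k B).lTensor R y) := by
  induction y using TensorProduct.induction_on with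
  | zero => simp
  | add a b ha hb =>
    rw [map_add, map_add, map_add, ← ha, ← hb, add_tmul, tmul_add]
    abel
  | tmul r m =>
    rw [LinearMap.lTensor_tmul, primMap_apply, tmul_sub, tmul_sub, map_sub, map_sub,
      ← comul_tmul_eq, AlgebraTensorModule.distribBaseChange_tmul,
      AlgebraTensorModule.distribBaseChange_tmul, Algebra.TensorProduct.one_def]
    congr 1
    have e1 : r ⊗ₜ[k] m = r • ((1 : R) ⊗ₜ[k] m) := by
      rw [TensorProduct.smul_tmul', smul_eq_mul, mul_one]
    have e2 : r ⊗ₜ[k] (1 : B) = r • ((1 : R) ⊗ₜ[k] (1 : B)) := by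
      rw [TensorProduct.smul_tmul', smul_eq_mul, mul_one]
    rw [e1, e2, TensorProduct.tmul_smul, TensorProduct.smul_tmul']

/-- no nonzero `R`-primitive elements in `R ⊗ B` when `B` has no nonzero primitive elements -/
theorem eq_zero_of_primitive_baseChange
    (hB : ∀ m : B, Coalgebra.comul (R := k) m = m ⊗ₜ[k] (1 : B) + (1 : B) ⊗ₜ[k] m → m = 0)
    (y : R ⊗[k] B)
    (hy : Coalgebra.comul (R := R) y =
      y ⊗ₜ[R] (1 : R ⊗[k] B) + (1 : R ⊗[k] B) ⊗ₜ[R] y) : y = 0 := by
  have hinj : Function.Injective (primMap k B) := by
    rw [← LinearMap.ker_eq_bot, LinearMap.ker_eq_bot']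
    intro m hm
    apply hB
    rw [primMap_apply, sub_sub, sub_eq_zero] at hm
    exact hm
  have h1 := comul_sub_eq k R B y
  rw [hy, add_sub_cancel_left, sub_self] at h1
  have h2 : (primMap k B).lTensor R y = 0 := by
    apply (AlgebraTensorModule.distribBaseChange k R B B).injective
    rw [map_zero]
    exact h1.symm
  have hinj2 : Function.Injective ((primMap k B).lTensor R) :=
    Module.Flat.lTensor_preserves_injective_linearMap _ hinj
  apply hinj2
  rw [map_zero]
  exact h2

end Ring

end Prim

end Groth.Agent.Lib.Helper96
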