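import Groth.Agent.Lib.Helper96.FlagNilp
import Groth.Agent.Lib.Helper96.UnipTors
import Groth.Agent.Lib.Helper96.HilbertFin2
import Groth.Agent.Lib.Helper96.CharFlag

/-! Rational points of unipotent groups form a nilpotent group; of trigonalizable groups a
solvable group (helper96). -/

set_option autoImplicit false

open TensorProduct
universe u v w
namespace Groth.Agent.Lib.Helper96

namespace PtsNilp

variable {k : Type u} [Field k] {A : Type v} [CommRing A] [HopfAlgebra k A]

/-- a point acting trivially on a subcomodule of the regular comodule agrees with the counit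
there -/
theorem apply_eq_counit (g : A →ₐ[k] k) (W : Submodule k A)
    (hW : IsSub (HopfRep.Comod.regular k A) W)
    (h : @HopfRep.Comod.act k A _ _ _ W _ _
      (ComodSub.Comod.restr (HopfRep.Comod.regular k A) W hW) g = LinearMap.id)
    (a : A) (ha : a ∈ W) : g a = CoalgebraStruct.counit (R := k) a := by
  let cA := HopfRep.Comod.regular k A
  have h2 := SSPts.act_hom (ComodSub.isComodHom_subtype cA W hW) g ⟨a, ha⟩
  rw [h, LinearMap.id_apply, Submodule.subtype_apply] at h2
  have h3 : @HopfRep.Comod.act k A _ _ _ A _ _ cA g a =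
      slice A g.toLinearMap (CoalgebraStruct.comul (R := k) a) := rfl
  rw [h3] at h2
  have h4 := UnipPts.algHom_lslM g (CoalgebraStruct.counit (R := k) (A := A))
    (CoalgebraStruct.comul (R := k) a)
  rw [lslM_counit_comul, h2] at h4
  exact h4

/-- a faithful finite-dimensional subcomodule of the regular comodule -/
theorem exists_faithful [Algebra.FiniteType k A] :
    ∃ (W : Submodule k A) (hW : IsSub (HopfRep.Comod.regular k A) W), Module.Finite k W ∧
      Function.Injective (UnipPts.actRep
        (ComodSub.Comod.restr (HopfRep.Comod.regular k A) W hW)) := by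
  obtain ⟨s, hs⟩ := (Algebra.FiniteType.out : (⊤ : Subalgebra k A).FG)
  obtain ⟨W, hfin, hsW, hW⟩ := HilbertFin2.exists_finite_isSub_finset (HopfRep.Comod.regular k A) s
  refine ⟨W, hW, hfin, ?_⟩
  rw [injective_iff_map_eq_one]
  intro g hg
  apply WithConv.ofConv_injective
  apply AlgHom.ext_of_adjoin_eq_top hs
  intro a ha
  have := apply_eq_counit g.ofConv W hW hg a (hsW ha)
  rw [this]
  rfl

/-- the group of rational points of a unipotent group is nilpotent -/
theorem isNilpotent_points [Algebra.FiniteType k A] (hU : HopfRep.IsUnipotent k A) :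
    Group.IsNilpotent (WithConv (A →ₐ[k] k)) := by
  obtain ⟨W, hW, hfin, hinj⟩ := exists_faithful (k := k) (A := A)
  let cW := ComodSub.Comod.restr (HopfRep.Comod.regular k A) W hW
  obtain ⟨m, F, hmono, hF0, hFm, hFsub, hFtriv⟩ := hasTrivFlag_of_isUnipotent hU _ W cW rfl
  refine FlagNilp.isNilpotent_of_flag (UnipPts.actRep cW) hinj m F hmono hF0 hFm ?_
  intro g i v hv
  have h1 := hFtriv i v hv
  rw [mem_range_rTensor_subtype_iff] at h1
  have h2 := h1 g.ofConv.toLinearMap
  rw [map_sub, slice_tmul] at h2
  have : (g.ofConv.toLinearMap) (1 : A) = 1 := map_one g.ofConv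
  rw [this, one_smul] at h2
  exact h2

end PtsNilp

end Groth.Agent.Lib.Helper96
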