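import Groth.Agent.Lib.Helper96.Comod

set_option autoImplicit false

universe u v w w'

open TensorProduct

namespace Groth.Agent.Lib.Helper96

/-! ### Comodule homs and Schur -/
section Schur

variable {k : Type u} [Field k] {A : Type v} [AddCommGroup A] [Module k A] [Coalgebra k A]
variable {V : Type w} [AddCommGroup V] [Module k V]
variable {V' : Type w'} [AddCommGroup V'] [Module k V']

theorem isHom_id (c : HopfRep.Comod k A V) : IsHom c c LinearMap.id := by
  unfold IsHom Hoch.IsComodHom
  rw [LinearMap.comp_id, LinearMap.rTensor_id, LinearMap.id_comp]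

theorem isHom_zero (c : HopfRep.Comod k A V) (c' : HopfRep.Comod k A V') :
    IsHom c c' (0 : V →ₗ[k] V') := by
  unfold IsHom Hoch.IsComodHom
  rw [LinearMap.comp_zero, LinearMap.rTensor_zero, LinearMap.zero_comp]

theorem isHom_add {c : HopfRep.Comod k A V} {c' : HopfRep.Comod k A V'} {f g : V →ₗ[k] V'}
    (hf : IsHom c c' f) (hg : IsHom c c' g) : IsHom c c' (f + g) := by
  unfold IsHom Hoch.IsComodHom at *
  rw [LinearMap.comp_add, LinearMap.rTensor_add, LinearMap.add_comp, hf, hg]

theorem isHom_smul {c : HopfRep.Comod k A V} {c' : HopfRep.Comod k A V'} {f : V →ₗ[k] V'}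
    (a : k) (hf : IsHom c c' f) : IsHom c c' (a • f) := by
  unfold IsHom Hoch.IsComodHom at *
  rw [LinearMap.comp_smul, LinearMap.rTensor_smul, LinearMap.smul_comp, hf]

theorem isHom_neg {c : HopfRep.Comod k A V} {c' : HopfRep.Comod k A V'} {f : V →ₗ[k] V'}
    (hf : IsHom c c' f) : IsHom c c' (-f) := by
  have := isHom_smul (-1 : k) hf
  simpa using this

theorem isHom_sub {c : HopfRep.Comod k A V} {c' : HopfRep.Comod k A V'} {f g : V →ₗ[k] V'}
    (hf : IsHom c c' f) (hg : IsHom c c' g) : IsHom c c' (f - g) := by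
  rw [sub_eq_add_neg]
  exact isHom_add hf (isHom_neg hg)

theorem isHom_comp {V'' : Type*} [AddCommGroup V''] [Module k V'']
    {c : HopfRep.Comod k A V} {c' : HopfRep.Comod k A V'} {c'' : HopfRep.Comod k A V''}
    {f : V →ₗ[k] V'} {g : V' →ₗ[k] V''}
    (hf : IsHom c c' f) (hg : IsHom c' c'' g) : IsHom c c'' (g ∘ₗ f) := by
  unfold IsHom Hoch.IsComodHom at *
  rw [← LinearMap.comp_assoc, hg, LinearMap.comp_assoc, hf, ← LinearMap.comp_assoc,
    ← LinearMap.rTensor_comp]

/-- Schur: a comodule hom between simple comodules is zero or bijective -/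
theorem schur {c : HopfRep.Comod k A V} {c' : HopfRep.Comod k A V'}
    (hV : @HopfRep.IsSimpleComod k A _ _ _ _ V _ _ c)
    (hV' : @HopfRep.IsSimpleComod k A _ _ _ _ V' _ _ c')
    {f : V →ₗ[k] V'} (hf : IsHom c c' f) : f = 0 ∨ Function.Bijective f := by
  obtain ⟨hnt, hs⟩ := hV
  obtain ⟨hnt', hs'⟩ := hV'
  rcases hs _ (isSub_ker hf) with hk | hk
  · right
    have hinj : Function.Injective f := LinearMap.ker_eq_bot.mp hk
    refine ⟨hinj, ?_⟩
    rcases hs' _ (isSub_range hf) with hr | hr
    · exfalso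
      obtain ⟨v, hv⟩ := exists_ne (0 : V)
      have : f v = 0 := by
        have : f v ∈ LinearMap.range f := ⟨v, rfl⟩
        rw [hr] at this
        exact (Submodule.mem_bot k).mp this
      exact hv (hinj (this.trans (map_zero f).symm))
    · exact LinearMap.range_eq_top.mp hr
  · left
    exact LinearMap.ker_eq_top.mp hk

/-- injective-or-zero for homs out of a simple comodule -/
theorem eq_zero_or_injective_of_isSimple {c : HopfRep.Comod k A V} {c' : HopfRep.Comod k A V'}
    (hV : @HopfRep.IsSimpleComod k A _ _ _ _ V _ _ c)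
    {f : V →ₗ[k] V'} (hf : IsHom c c' f) : f = 0 ∨ Function.Injective f := by
  rcases hV.2 _ (isSub_ker hf) with hk | hk
  · exact Or.inr (LinearMap.ker_eq_bot.mp hk)
  · exact Or.inl (LinearMap.ker_eq_top.mp hk)

end Schur

end Groth.Agent.Lib.Helper96
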