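import Groth.Agent.Lib.Helper96.Schur

set_option autoImplicit false

universe u v w w'

open TensorProduct

namespace Groth.Agent.Lib.Helper96

section Factor

variable {k : Type u} [Field k] {A : Type v} [AddCommGroup A] [Module k A] [Coalgebra k A]
variable {T : Type*} [AddCommGroup T] [Module k T]
variable {K : Type*} [AddCommGroup K] [Module k K]
variable {X : Type*} [AddCommGroup X] [Module k X]

/-- a linear factorization of a hom through an injective hom is a hom -/
theorem isHom_of_comp_injective {cT : HopfRep.Comod k A T} {cK : HopfRep.Comod k A K}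
    {cX : HopfRep.Comod k A X} {g : K →ₗ[k] X} {f : T →ₗ[k] X} {h : T →ₗ[k] K}
    (hg : IsHom cK cX g) (hginj : Function.Injective g) (hf : IsHom cT cX f)
    (hgh : g ∘ₗ h = f) : IsHom cT cK h := by
  have hinj : Function.Injective (g.rTensor A) :=
    Module.Flat.rTensor_preserves_injective_linearMap g hginj
  apply LinearMap.ext
  intro t
  apply hinj
  show g.rTensor A (cK.coact (h t)) = g.rTensor A (h.rTensor A (cT.coact t))
  rw [← isHom_apply hg, ← LinearMap.comp_apply (g.rTensor A), ← LinearMap.rTensor_comp, hgh,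
    ← isHom_apply hf, ← hgh]
  rfl

theorem isHom_symm {cT : HopfRep.Comod k A T} {cK : HopfRep.Comod k A K} (e : T ≃ₗ[k] K)
    (he : IsHom cT cK e.toLinearMap) : IsHom cK cT e.symm.toLinearMap :=
  isHom_of_comp_injective (h := e.symm.toLinearMap) he e.injective (isHom_id cK)
    (by ext x; simp)

/-- lift of a hom through an injective hom with larger range -/
theorem exists_isHom_lift {cT : HopfRep.Comod k A T} {cK : HopfRep.Comod k A K}
    {cX : HopfRep.Comod k A X} {g : K →ₗ[k] X} {f : T →ₗ[k] X}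
    (hg : IsHom cK cX g) (hginj : Function.Injective g) (hf : IsHom cT cX f)
    (hle : LinearMap.range f ≤ LinearMap.range g) :
    ∃ h : T →ₗ[k] K, IsHom cT cK h ∧ g ∘ₗ h = f := by
  let e := LinearEquiv.ofInjective g hginj
  let f' : T →ₗ[k] LinearMap.range g := f.codRestrict (LinearMap.range g)
    (fun t => hle ⟨t, rfl⟩)
  let h : T →ₗ[k] K := e.symm.toLinearMap ∘ₗ f'
  have hgh : g ∘ₗ h = f := by
    apply LinearMap.ext
    intro t
    have : g (e.symm (f' t)) = (e (e.symm (f' t)) : X) := rfl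
    simp only [LinearMap.comp_apply, h, LinearEquiv.coe_coe]
    rw [this, LinearEquiv.apply_symm_apply]
    rfl
  exact ⟨h, isHom_of_comp_injective hg hginj hf hgh, hgh⟩

end Factor

section Semisimple

variable {k : Type u} [Field k] {A : Type v} [AddCommGroup A] [Module k A] [Coalgebra k A]
variable {V : Type w} [AddCommGroup V] [Module k V]

/-- `HopfRep.IsSemisimpleComod` with explicit structure -/
abbrev IsSS (c : HopfRep.Comod k A V) : Prop :=
  @HopfRep.IsSemisimpleComod k A _ _ _ _ V _ _ c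

theorem isSS_iff (c : HopfRep.Comod k A V) :
    IsSS c ↔ ∀ W : Submodule k V, IsSub c W → ∃ W' : Submodule k V, IsSub c W' ∧ IsCompl W W' :=
  Iff.rfl

theorem iSup_isMinSub_eq_top (c : HopfRep.Comod k A V) (hV : IsSS c) :
    (⨆ W : {W : Submodule k V // IsMinSub c W}, (W.1 : Submodule k V)) = ⊤ := by
  set X := ⨆ W : {W : Submodule k V // IsMinSub c W}, (W.1 : Submodule k V) with hX
  have hXsub : IsSub c X := isSub_iSup c (fun W => W.2.1)
  obtain ⟨X', hX'sub, hcompl⟩ := hV X hXsub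
  by_contra hne
  have hX'ne : X' ≠ ⊥ := by
    intro h0
    apply hne
    have := hcompl.sup_eq_top
    rwa [h0, sup_bot_eq] at this
  obtain ⟨W₀, hW₀le, -, hW₀min⟩ := exists_isMinSub_le c hX'sub hX'ne
  have hW₀X : W₀ ≤ X := le_iSup (fun W : {W : Submodule k V // IsMinSub c W} => (W.1 : Submodule k V))
    ⟨W₀, hW₀min⟩
  have : W₀ ≤ X ⊓ X' := le_inf hW₀X hW₀le
  rw [hcompl.inf_eq_bot] at this
  exact hW₀min.2.1 (le_bot_iff.mp this)

theorem isSS_restr (c : HopfRep.Comod k A V) (hV : IsSS c) (W : Submodule k V) (hW : IsSub c W) :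
    IsSS (ComodSub.Comod.restr c W hW) := by
  intro U hU
  have hU₁ : IsSub c (U.map W.subtype) := isSub_map (ComodSub.isComodHom_subtype c W hW) hU
  obtain ⟨U₁', hU₁'sub, hcompl⟩ := hV _ hU₁
  refine ⟨U₁'.comap W.subtype, isSub_comap (ComodSub.isComodHom_subtype c W hW) hU₁'sub, ?_⟩
  constructor
  · rw [disjoint_iff, eq_bot_iff]
    intro x hx
    obtain ⟨hxU, hxU'⟩ := hx
    have h1 : (x : V) ∈ U.map W.subtype ⊓ U₁' := ⟨⟨x, hxU, rfl⟩, hxU'⟩
    rw [hcompl.inf_eq_bot] at h1
    rw [Submodule.mem_bot] at h1 ⊢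
    exact Subtype.ext h1
  · rw [codisjoint_iff, eq_top_iff]
    intro x _
    have hx : (x : V) ∈ U.map W.subtype ⊔ U₁' := by rw [hcompl.sup_eq_top]; trivial
    obtain ⟨a, ha, b, hb, hab⟩ := Submodule.mem_sup.mp hx
    obtain ⟨a', ha', rfl⟩ := ha
    have hbW : b ∈ W := by
      have : b = (x : V) - (a' : V) := by rw [← hab]; simp
      rw [this]
      exact W.sub_mem x.2 a'.2
    refine Submodule.mem_sup.mpr ⟨a', ha', ⟨b, hbW⟩, hb, ?_⟩
    exact Subtype.ext hab

theorem isSS_quot (c : HopfRep.Comod k A V) (hV : IsSS c) (W : Submodule k V) (hW : IsSub c W) :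
    IsSS (ComodSub.Comod.quot c W hW) := by
  intro U hU
  have hU₁ : IsSub c (U.comap W.mkQ) := isSub_comap (ComodSub.isComodHom_mkQ c W hW) hU
  obtain ⟨U₁', hU₁'sub, hcompl⟩ := hV _ hU₁
  refine ⟨U₁'.map W.mkQ, isSub_map (ComodSub.isComodHom_mkQ c W hW) hU₁'sub, ?_⟩
  constructor
  · rw [disjoint_iff, eq_bot_iff]
    rintro x ⟨hxU, b, hb, rfl⟩
    have h1 : b ∈ U.comap W.mkQ ⊓ U₁' := ⟨hxU, hb⟩
    rw [hcompl.inf_eq_bot, Submodule.mem_bot] at h1
    rw [h1, map_zero]
    exact Submodule.zero_mem _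
  · rw [codisjoint_iff, eq_top_iff]
    intro x _
    obtain ⟨v, rfl⟩ := W.mkQ_surjective x
    have hv : v ∈ U.comap W.mkQ ⊔ U₁' := by rw [hcompl.sup_eq_top]; trivial
    obtain ⟨a, ha, b, hb, rfl⟩ := Submodule.mem_sup.mp hv
    rw [map_add]
    exact Submodule.add_mem_sup ha ⟨b, hb, rfl⟩

end Semisimple

end Groth.Agent.Lib.Helper96
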