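import Groth.Agent.Lib.Helper96.Semisimple

set_option autoImplicit false

universe u v w w'

open TensorProduct

namespace Groth.Agent.Lib.Helper96

section SumSimple

variable {k : Type u} [Field k] {A : Type v} [AddCommGroup A] [Module k A] [Coalgebra k A]

theorem iSup_fin_succ_eq {α : Type*} [CompleteLattice α] (n : ℕ) (F : Fin (n + 1) → α) :
    (⨆ i, F i) = (⨆ i : Fin n, F i.castSucc) ⊔ F (Fin.last n) := by
  apply le_antisymm
  · apply iSup_le
    intro i
    refine Fin.lastCases ?_ ?_ i
    · exact le_sup_right
    · intro j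
      exact le_sup_of_le_left (le_iSup (fun j : Fin n => F j.castSucc) j)
  · apply sup_le
    · apply iSup_le
      intro j
      exact le_iSup F j.castSucc
    · exact le_iSup F (Fin.last n)

/-- a simple comodule mapping nontrivially to a finite sum of images of simple comodules is
isomorphic to one of them -/
theorem exists_iso_of_sum_simple :
    ∀ (n : ℕ) (V : Type w) [AddCommGroup V] [Module k V] (c : HopfRep.Comod k A V)
      (K : Fin n → Type w') [∀ i, AddCommGroup (K i)] [∀ i, Module k (K i)]
      (cK : ∀ i, HopfRep.Comod k A (K i))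
      (_ : ∀ i, @HopfRep.IsSimpleComod k A _ _ _ _ (K i) _ _ (cK i))
      (g : ∀ i, K i →ₗ[k] V) (_ : ∀ i, IsHom (cK i) c (g i))
      (_ : (⨆ i, LinearMap.range (g i)) = ⊤)
      (S : Type w') [AddCommGroup S] [Module k S] (cS : HopfRep.Comod k A S)
      (_ : @HopfRep.IsSimpleComod k A _ _ _ _ S _ _ cS)
      (f : S →ₗ[k] V) (_ : IsHom cS c f) (_ : f ≠ 0),
      ∃ (i : Fin n) (e : S ≃ₗ[k] K i), IsHom cS (cK i) e.toLinearMap := by
  intro n
  induction n with
  | zero =>
    intro V _ _ c K _ _ cK hK g hg hsum S _ _ cS hS f hf hf0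
    exfalso
    apply hf0
    apply LinearMap.ext
    intro s
    have : f s ∈ (⊤ : Submodule k V) := trivial
    rw [← hsum, iSup_of_empty, Submodule.mem_bot] at this
    rw [this, LinearMap.zero_apply]
  | succ n ih =>
    intro V _ _ c K _ _ cK hK g hg hsum S _ _ cS hS f hf hf0
    let i₀ := Fin.last n
    let W := LinearMap.range (g i₀)
    have hW : IsSub c W := isSub_range (hg i₀)
    let π := W.mkQ
    let cQ := ComodSub.Comod.quot c W hW
    have hπ : IsHom c cQ π := ComodSub.isComodHom_mkQ c W hW
    by_cases hπf : π ∘ₗ f = 0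
    · have hle : LinearMap.range f ≤ LinearMap.range (g i₀) := by
        rintro _ ⟨s, rfl⟩
        have h0 : π (f s) = 0 := LinearMap.congr_fun hπf s
        exact (Submodule.Quotient.mk_eq_zero W).mp h0
      have hg0 : g i₀ ≠ 0 := by
        intro h0
        apply hf0
        apply LinearMap.ext
        intro s
        have := hle ⟨s, rfl⟩
        rw [h0, LinearMap.range_zero, Submodule.mem_bot] at this
        rw [this, LinearMap.zero_apply]
      have hginj : Function.Injective (g i₀) :=
        (eq_zero_or_injective_of_isSimple (hK i₀) (hg i₀)).resolve_left hg0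
      obtain ⟨h, hh, hgh⟩ := exists_isHom_lift (hg i₀) hginj hf hle
      have hh0 : h ≠ 0 := by
        intro h0
        apply hf0
        rw [← hgh, h0, LinearMap.comp_zero]
      have hbij : Function.Bijective h := (schur hS (hK i₀) hh).resolve_left hh0
      refine ⟨i₀, LinearEquiv.ofBijective h hbij, ?_⟩
      have : (LinearEquiv.ofBijective h hbij).toLinearMap = h := by
        ext x; rfl
      rw [this]
      exact hh
    · have hsum' : (⨆ i : Fin n, LinearMap.range (π ∘ₗ g i.castSucc)) = ⊤ := by
        have h1 : (⊤ : Submodule k (V ⧸ W)) = Submodule.map π ⊤ := by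
          rw [Submodule.map_top, LinearMap.range_eq_top.mpr W.mkQ_surjective]
        rw [h1, ← hsum, iSup_fin_succ_eq, Submodule.map_sup, Submodule.map_iSup]
        have h2 : Submodule.map π (LinearMap.range (g (Fin.last n))) = ⊥ := by
          rw [eq_bot_iff]
          rintro _ ⟨x, hx, rfl⟩
          rw [Submodule.mem_bot]
          exact (Submodule.Quotient.mk_eq_zero W).mpr hx
        rw [h2, sup_bot_eq]
        congr 1
        funext i
        rw [LinearMap.range_comp]
      obtain ⟨i, e, he⟩ := ih (V ⧸ W) cQ (fun i => K i.castSucc) (fun i => cK i.castSucc)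
        (fun i => hK i.castSucc) (fun i => π ∘ₗ g i.castSucc)
        (fun i => isHom_comp (hg i.castSucc) hπ) hsum' S cS hS (π ∘ₗ f) (isHom_comp hf hπ) hπf
      exact ⟨i.castSucc, e, he⟩

end SumSimple

end Groth.Agent.Lib.Helper96
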