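import Mathlib
import Groth.Agent.Lib.Helper96.PtsSep
import Groth.Agent.Lib.Helper66.TK11

/-! A surjective homomorphism of affine group schemes over an algebraically closed field is
surjective on rational points (helper96): via `hopfSpec` essential image/fullness and
`PtsSep.exists_extend_point`. -/

set_option autoImplicit false
open AlgebraicGeometry CategoryTheory MonoidalCategory Opposite Limits

universe u

namespace Groth.Agent.Lib.Helper96.SurjPts

section Alg
variable {k : Type u} [Field k] [IsAlgClosed k] {A A' : Type u} [CommRing A] [HopfAlgebra k A]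
  [CommRing A'] [HopfAlgebra k A']

/-- Hopf-algebra form: if `ker φ` consists of nilpotents, every point of `A'` lifts along `φ` -/
theorem exists_lift_point (φ : A' →ₐc[k] A) (hker : RingHom.ker (φ : A' →+* A) ≤ nilradical A')
    (ξ' : A' →ₐ[k] k) : ∃ ξ : A →ₐ[k] k, ∀ a', ξ (φ a') = ξ' a' := by
  let φa : A' →ₐ[k] A := (φ : A' →ₐ[k] A)
  let rr : A' →ₐ[k] φa.range := φa.rangeRestrict
  have hrr : Function.Surjective rr := φa.rangeRestrict_surjective
  have hk : ∀ a ∈ RingHom.ker rr, ξ' a = 0 := by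
    intro a ha
    have h1 : a ∈ RingHom.ker (φ : A' →+* A) := by
      rw [RingHom.mem_ker] at ha ⊢
      exact congrArg Subtype.val ha
    have h2 : IsNilpotent a := mem_nilradical.mp (hker h1)
    exact (h2.map ξ').eq_zero
  let ξ'' : φa.range →ₐ[k] k :=
    (Ideal.Quotient.liftₐ (RingHom.ker rr) ξ' hk).comp
      ((Ideal.quotientKerAlgEquivOfSurjective hrr).symm : φa.range →ₐ[k] _)
  have hξ'' : ∀ a', ξ'' (rr a') = ξ' a' := by
    intro a'
    show (Ideal.Quotient.liftₐ (RingHom.ker rr) ξ' hk)
      ((Ideal.quotientKerAlgEquivOfSurjective hrr).symm (rr a')) = ξ' a'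
    have : (Ideal.quotientKerAlgEquivOfSurjective hrr).symm (rr a') =
        Ideal.Quotient.mk _ a' := by
      rw [AlgEquiv.symm_apply_eq, Ideal.quotientKerAlgEquivOfSurjective_mk]
    rw [this]
    exact Ideal.Quotient.lift_mk _ _ _
  obtain ⟨ξ, hξ⟩ := PtsSep.exists_extend_point φa.range
    (Groth.Agent.Lib.Helper66.TK11.isHS_range φ) ξ''
  refine ⟨ξ, fun a' => ?_⟩
  have := hξ (rr a')
  rw [hξ''] at this
  exact this

end Alg

section Sch
variable (k : Type u) [Field k]

/-- an `Over`-morphism from the unit object to `Spec A'` is an algebra map `A' → k` -/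
theorem exists_algHom_of_pt {A' : Type u} [CommRing A'] [Algebra k A']
    (y : 𝟙_ (Over (Spec (CommRingCat.of k))) ⟶
      Over.mk (Spec.map (CommRingCat.ofHom (algebraMap k A')))) :
    ∃ ξ' : A' →ₐ[k] k, Spec.map (CommRingCat.ofHom ξ'.toRingHom) = y.left := by
  let r : CommRingCat.of A' ⟶ CommRingCat.of k := Spec.preimage y.left
  have hr : Spec.map r = y.left := Spec.map_preimage y.left
  have hw : y.left ≫ Spec.map (CommRingCat.ofHom (algebraMap k A')) = 𝟙 _ := Over.w y
  have hcomp : CommRingCat.ofHom (algebraMap k A') ≫ r = 𝟙 (CommRingCat.of k) := by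
    apply Spec.map_injective
    rw [Spec.map_comp, hr, hw, Spec.map_id]
    rfl
  refine ⟨{ toRingHom := r.hom, commutes' := fun c => ?_ }, ?_⟩
  · have := congrArg (fun f => f.hom c) hcomp
    exact this
  · exact hr

/-- **S14536**: a surjective homomorphism of affine group schemes over an algebraically closed
field is surjective on rational points -/
theorem surj_pts [IsAlgClosed k] (G G' : Over (Spec (CommRingCat.of k))) [GrpObj G] [GrpObj G']
    [IsAffine G.left] [IsAffine G'.left] (h : G ⟶ G') [IsMonHom h] (hs : Surjective h.left)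
    (x : 𝟙_ (Over (Spec (CommRingCat.of k))) ⟶ G') :
    ∃ g : 𝟙_ (Over (Spec (CommRingCat.of k))) ⟶ G, g ≫ h = x := by
  let R := CommRingCat.of k
  have hG : (hopfSpec R).essImage (Grp.mk G) := by
    rw [essImage_hopfSpec]
    infer_instance
  have hG' : (hopfSpec R).essImage (Grp.mk G') := by
    rw [essImage_hopfSpec]
    infer_instance
  let H := hG.witness
  let e : (hopfSpec R).obj H ≅ Grp.mk G := hG.getIso
  let H' := hG'.witness
  let e' : (hopfSpec R).obj H' ≅ Grp.mk G' := hG'.getIso
  let F : (hopfSpec R).obj H ⟶ (hopfSpec R).obj H' := e.hom ≫ Grp.ofHom h ≫ e'.inv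
  let f : H ⟶ H' := hopfSpec.fullyFaithful.preimage F
  have hf : (hopfSpec R).map f = F := hopfSpec.fullyFaithful.map_preimage F
  let φ : H'.unop →ₐc[k] H.unop := f.unop.hom
  have hφleft : Spec.map (CommRingCat.ofHom (φ : H'.unop →+* H.unop)) = F.hom.hom.left := by
    rw [← hf]
    rfl
  have hFleft : F.hom.hom.left = e.hom.hom.hom.left ≫ h.left ≫ e'.inv.hom.hom.left := rfl
  -- the underlying scheme maps of the comparison isomorphisms are isomorphisms
  have he : IsIso e.hom.hom.hom.left :=
    (Iso.isIso_hom ((Over.forget _).mapIso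
      ((Mon.forget _).mapIso ((Grp.forget₂Mon _).mapIso e))))
  have he' : IsIso e'.inv.hom.hom.left :=
    (Iso.isIso_inv ((Over.forget _).mapIso
      ((Mon.forget _).mapIso ((Grp.forget₂Mon _).mapIso e'))))
  have hsurj : Function.Surjective
      (Spec.map (CommRingCat.ofHom (φ : H'.unop →+* H.unop))).base := by
    rw [hφleft, hFleft]
    have : Surjective (e.hom.hom.hom.left ≫ h.left ≫ e'.inv.hom.hom.left) := inferInstance
    exact this.surj
  have hker : RingHom.ker (φ : H'.unop →+* H.unop) ≤ nilradical H'.unop := by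
    rw [nilradical_eq_sInf]
    intro a ha
    rw [Ideal.mem_sInf]
    intro p' hp'
    obtain ⟨p, hp⟩ := hsurj ⟨p', hp'⟩
    have h1 : a ∈ ((Spec.map (CommRingCat.ofHom (φ : H'.unop →+* H.unop))).base p).asIdeal := by
      show (φ : H'.unop →+* H.unop) a ∈ p.asIdeal
      rw [RingHom.mem_ker] at ha
      rw [ha]
      exact zero_mem _
    rw [hp] at h1
    exact h1
  let y' : 𝟙_ (Over (Spec R)) ⟶ Over.mk (Spec.map (CommRingCat.ofHom (algebraMap k H'.unop))) :=
    x ≫ e'.inv.hom.hom
  obtain ⟨ξ', hξ'⟩ := exists_algHom_of_pt k y'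
  obtain ⟨ξ, hξ⟩ := exists_lift_point φ hker ξ'
  let ptA : 𝟙_ (Over (Spec R)) ⟶ ((hopfSpec R).obj H).X :=
    Over.homMk (Spec.map (CommRingCat.ofHom ξ.toRingHom)) (by
      show Spec.map (CommRingCat.ofHom ξ.toRingHom) ≫
        Spec.map (CommRingCat.ofHom (algebraMap k H.unop)) = 𝟙 _
      rw [← Spec.map_comp, ← CommRingCat.ofHom_comp]
      have h1 : (ξ.toRingHom).comp (algebraMap k H.unop) = RingHom.id k := by
        ext c
        simp
      rw [h1]
      simp)
  refine ⟨ptA ≫ e.hom.hom.hom, ?_⟩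
  have h1 : e.hom.hom.hom ≫ h = F.hom.hom ≫ e'.hom.hom.hom := by
    have h0 : F ≫ e'.hom = e.hom ≫ Grp.ofHom h := by
      simp [F]
    exact (congrArg (fun m => m.hom.hom) h0).symm
  have h2left : Spec.map (CommRingCat.ofHom ξ.toRingHom) ≫
      Spec.map (CommRingCat.ofHom (φ : H'.unop →+* H.unop)) = y'.left := by
    rw [← Spec.map_comp, ← hξ', ← CommRingCat.ofHom_comp]
    congr 2
    ext a
    exact hξ a
  have h2 : ptA ≫ F.hom.hom = y' := by
    apply Over.OverMorphism.ext
    show Spec.map (CommRingCat.ofHom ξ.toRingHom) ≫ F.hom.hom.left = y'.left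
    rw [← hφleft]
    exact h2left
  calc (ptA ≫ e.hom.hom.hom) ≫ h = ptA ≫ F.hom.hom ≫ e'.hom.hom.hom := by
        rw [Category.assoc, h1]
    _ = y' ≫ e'.hom.hom.hom := by
      rw [← Category.assoc, h2]
      rfl
    _ = x := by
      show (x ≫ e'.inv.hom.hom) ≫ e'.hom.hom.hom = x
      rw [Category.assoc]
      have h3 : e'.inv.hom.hom ≫ e'.hom.hom.hom = 𝟙 _ := by
        have h4 := congrArg (fun m => m.hom.hom) e'.inv_hom_id
        exact h4
      rw [h3, Category.comp_id]

end Sch

end Groth.Agent.Lib.Helper96.SurjPts
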