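import Mathlib
import Groth.Agent.Lib.Helper96.PtsSep

/-! Convolution groups of points of a Hopf algebra with values in any commutative algebra, push-forward (helper96) -/

set_option autoImplicit false
open scoped TensorProduct
open WithConv

namespace Groth.Agent.Lib.Helper96.TorsAlg
open Groth.Agent.Lib.Helper66.SubBialg Groth.Agent.Lib.Helper66.TK7 Groth.Agent.Lib.Helper66.TK10

universe u v w

section Grp
variable {k : Type u} [Field k] {A : Type v} [CommRing A] [HopfAlgebra k A]
variable {C : Type w} [CommRing C] [Algebra k C]

/-- group structure on `C`-points of a Hopf algebra (target any commutative algebra) -/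
@[reducible] noncomputable def convGroup : Group (WithConv (A →ₐ[k] C)) where
  inv f := toConv (f.ofConv.comp (HopfAlgebra.antipodeAlgHom k A))
  inv_mul_cancel f := by
    have H : (Algebra.TensorProduct.lmul' k).comp (Algebra.TensorProduct.map f.ofConv f.ofConv) =
      f.ofConv.comp (Algebra.TensorProduct.lmul' k) := by ext <;> simp
    trans toConv <| ((Algebra.TensorProduct.lmul' k).comp
      (Algebra.TensorProduct.map f.ofConv f.ofConv)).comp
      ((Algebra.TensorProduct.map
      (HopfAlgebra.antipodeAlgHom k A) (.id _ _)).comp (Bialgebra.comulAlgHom k A))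
    · rw [AlgHom.comp_assoc, ← AlgHom.comp_assoc (Algebra.TensorProduct.map f.ofConv f.ofConv),
        ← Algebra.TensorProduct.map_comp]; rfl
    rw [H, AlgHom.comp_assoc, WithConv.ext_iff, ← AlgHom.toLinearMap_injective.eq_iff]
    change f.ofConv.toLinearMap.comp (toConv (HopfAlgebra.antipode k (A := A)) *
      toConv LinearMap.id).ofConv = ofConv (1 : WithConv <| A →ₗ[k] C)
    rw [LinearMap.antipode_mul_id]
    ext
    simp

end Grp

section Push
variable {k : Type u} [Field k] {A : Type v} [CommRing A] [Bialgebra k A]
variable {C : Type*} [CommRing C] [Algebra k C] {C' : Type*} [CommRing C'] [Algebra k C']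
  {C'' : Type*} [CommRing C''] [Algebra k C'']

/-- push a point forward along an algebra map: a monoid homomorphism -/
noncomputable def pushHom (φ : C →ₐ[k] C') : WithConv (A →ₐ[k] C) →* WithConv (A →ₐ[k] C') where
  toFun f := toConv (φ.comp f.ofConv)
  map_one' := by
    apply WithConv.ofConv_injective
    ext a
    simp [AlgHom.convOne_def]
  map_mul' f g := by
    apply WithConv.ofConv_injective
    exact AlgHom.comp_convMul_distrib φ f g

theorem pushHom_apply (φ : C →ₐ[k] C') (f : WithConv (A →ₐ[k] C)) (a : A) :
    (pushHom φ f).ofConv a = φ (f.ofConv a) := rfl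

theorem pushHom_comp (φ : C →ₐ[k] C') (ψ : C' →ₐ[k] C'') (f : WithConv (A →ₐ[k] C)) :
    pushHom ψ (pushHom φ f) = pushHom (ψ.comp φ) f := rfl

theorem pushHom_injective (φ : C →ₐ[k] C') (hφ : Function.Injective φ) :
    Function.Injective (pushHom (A := A) φ) := by
  intro f f' h
  apply WithConv.ofConv_injective
  ext a
  apply hφ
  have := congrArg (fun m => m.ofConv a) h
  exact this

end Push

end Groth.Agent.Lib.Helper96.TorsAlg
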