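import Mathlib
import Groth.Agent.Lib.Helper96.TorsAlg0
import Groth.Agent.Lib.Helper96.TorsPt
import Groth.Agent.Lib.Helper66.TK11

/-! Algebraic ingredients for trivialising cocycles of affine group schemes over an algebraically
closed field (helper96): the finitely generated case, finitely generated coefficient rings,
extension of points with values in an algebraically closed extension. -/

set_option autoImplicit false
open scoped TensorProduct
open WithConv

namespace Groth.Agent.Lib.Helper96.TorsAlg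
open Groth.Agent.Lib.Helper66.SubBialg Groth.Agent.Lib.Helper66.TK7 Groth.Agent.Lib.Helper66.TK10
open Groth.Agent.Lib.Helper96.TorsPt

universe u

section FG
variable {k : Type u} [Field k] [IsAlgClosed k] {B : Type u} [CommRing B] [HopfAlgebra k B]
  {K : Type u} [Field K] [Algebra k K]

theorem exists_of_fg (γ : WithConv (B →ₐ[k] K ⊗[k] K))
    (hγ : pushHom (j₁₂ k K) γ * pushHom (j₂₃ k K) γ = pushHom (j₁₃ k K) γ)
    (R : Subalgebra k K) (hR : R.FG) (ρ : B →ₐ[k] K ⊗[k] R)
    (hρ : (Algebra.TensorProduct.map (AlgHom.id k K) R.val).comp ρ = γ.ofConv) :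
    ∃ η : WithConv (B →ₐ[k] K), γ * pushHom (i₂ k K) η = pushHom (i₁ k K) η ∧
      ∀ b, γ.ofConv b = algebraMap k _ (Coalgebra.counit (R := k) b) →
        η.ofConv b = algebraMap k K (Coalgebra.counit (R := k) b) := by
  have hft : Algebra.FiniteType k R := (Subalgebra.fg_iff_finiteType R).mp hR
  obtain ⟨ε⟩ := PtsSep.exists_point (k := k) (D := R)
  let e : K ⊗[k] R →ₐ[k] K :=
    Algebra.TensorProduct.lift (AlgHom.id k K) ((Algebra.ofId k K).comp ε) (fun _ _ => .all _ _)
  let E : (K ⊗[k] K) ⊗[k] R →ₐ[k] K ⊗[k] K :=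
    Algebra.TensorProduct.lift (AlgHom.id k _) ((Algebra.ofId k _).comp ε) (fun _ _ => .all _ _)
  let I : K ⊗[k] R →ₐ[k] K ⊗[k] K := Algebra.TensorProduct.map (AlgHom.id k K) R.val
  let IR : (K ⊗[k] K) ⊗[k] R →ₐ[k] (K ⊗[k] K) ⊗[k] K :=
    Algebra.TensorProduct.map (AlgHom.id k _) R.val
  have hI : Function.Injective I :=
    Module.Flat.lTensor_preserves_injective_linearMap (M := K) R.val.toLinearMap
      Subtype.val_injective
  have hIR : Function.Injective IR :=
    Module.Flat.lTensor_preserves_injective_linearMap (M := K ⊗[k] K) R.val.toLinearMap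
      Subtype.val_injective
  let j₂₃R : K ⊗[k] R →ₐ[k] (K ⊗[k] K) ⊗[k] R :=
    Algebra.TensorProduct.map (i₂ k K) (AlgHom.id k R)
  let j₁₃R : K ⊗[k] R →ₐ[k] (K ⊗[k] K) ⊗[k] R :=
    Algebra.TensorProduct.map (i₁ k K) (AlgHom.id k R)
  let inclR : K ⊗[k] K →ₐ[k] (K ⊗[k] K) ⊗[k] R := Algebra.TensorProduct.includeLeft
  have c1 : (j₂₃ k K).comp I = IR.comp j₂₃R := by
    ext <;> simp [I, IR, j₂₃R]
  have c2 : (j₁₃ k K).comp I = IR.comp j₁₃R := by
    ext <;> simp [I, IR, j₁₃R]
  have c3 : j₁₂ k K = IR.comp inclR := by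
    ext <;> simp [IR, inclR]
  have d1 : E.comp inclR = AlgHom.id k _ := by
    ext <;> simp [E, inclR]
  have d2 : E.comp j₂₃R = (i₂ k K).comp e := by
    ext <;> simp [E, j₂₃R, e, Algebra.ofId_apply, Algebra.TensorProduct.algebraMap_apply]
  have d3 : E.comp j₁₃R = (i₁ k K).comp e := by
    ext <;> simp [E, j₁₃R, e, Algebra.ofId_apply, Algebra.TensorProduct.algebraMap_apply]
  let ρc : WithConv (B →ₐ[k] K ⊗[k] R) := toConv ρ
  have hγρ : γ = pushHom I ρc := by
    apply WithConv.ofConv_injective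
    exact hρ.symm
  have key : pushHom inclR γ * pushHom j₂₃R ρc = pushHom j₁₃R ρc := by
    apply pushHom_injective IR hIR
    rw [map_mul, pushHom_comp, pushHom_comp, pushHom_comp, ← c3, ← c1, ← c2, ← pushHom_comp,
      ← pushHom_comp, ← hγρ]
    exact hγ
  refine ⟨pushHom e ρc, ?_, ?_⟩
  · have h1 := congrArg (pushHom E) key
    rw [map_mul, pushHom_comp, pushHom_comp, pushHom_comp, d1, d2, d3] at h1
    rw [pushHom_comp, pushHom_comp]
    exact h1
  · intro b hb
    have h1 : I (ρ b) = I (algebraMap k _ (Coalgebra.counit (R := k) b)) := by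
      rw [AlgHom.commutes]
      rw [← hb, ← hρ]
      rfl
    have h2 := hI h1
    show e (ρ b) = _
    rw [h2, AlgHom.commutes]

end FG


section C1
variable {k : Type u} [Field k] {K : Type u} [Field K] [Algebra k K]

theorem range_mono {R R' : Subalgebra k K} (h : R ≤ R') :
    (Algebra.TensorProduct.map (AlgHom.id k K) R.val).range ≤
      (Algebra.TensorProduct.map (AlgHom.id k K) R'.val).range := by
  rintro _ ⟨z, rfl⟩
  refine ⟨Algebra.TensorProduct.map (AlgHom.id k K) (Subalgebra.inclusion h) z, ?_⟩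
  show (Algebra.TensorProduct.map (AlgHom.id k K) R'.val)
    (Algebra.TensorProduct.map (AlgHom.id k K) (Subalgebra.inclusion h) z) = _
  rw [← AlgHom.comp_apply, ← Algebra.TensorProduct.map_comp]
  rfl

theorem exists_fg_range (t : K ⊗[k] K) :
    ∃ R : Subalgebra k K, R.FG ∧ t ∈ (Algebra.TensorProduct.map (AlgHom.id k K) R.val).range := by
  induction t using TensorProduct.induction_on with
  | zero => exact ⟨⊥, Subalgebra.fg_bot, zero_mem _⟩
  | tmul x y =>
    have hfg : (Algebra.adjoin k ({y} : Set K)).FG := by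
      have := Subalgebra.fg_adjoin_finset (R := k) ({y} : Finset K)
      simpa using this
    refine ⟨Algebra.adjoin k {y}, hfg, ?_⟩
    exact ⟨x ⊗ₜ[k] ⟨y, Algebra.subset_adjoin (Set.mem_singleton y)⟩, rfl⟩
  | add x y hx hy =>
    obtain ⟨R₁, h₁, hx⟩ := hx
    obtain ⟨R₂, h₂, hy⟩ := hy
    exact ⟨R₁ ⊔ R₂, h₁.sup h₂, add_mem (range_mono le_sup_left hx) (range_mono le_sup_right hy)⟩

theorem exists_fg_range_finset (s : Finset (K ⊗[k] K)) :
    ∃ R : Subalgebra k K, R.FG ∧
      ∀ t ∈ s, t ∈ (Algebra.TensorProduct.map (AlgHom.id k K) R.val).range := by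
  classical
  induction s using Finset.induction_on with
  | empty => exact ⟨⊥, Subalgebra.fg_bot, fun t ht => absurd ht (Finset.notMem_empty t)⟩
  | insert a s _ ih =>
    obtain ⟨R₁, h₁, hs⟩ := ih
    obtain ⟨R₂, h₂, ha⟩ := exists_fg_range (k := k) a
    refine ⟨R₁ ⊔ R₂, h₁.sup h₂, fun t ht => ?_⟩
    rcases Finset.mem_insert.mp ht with rfl | ht
    · exact range_mono le_sup_right ha
    · exact range_mono le_sup_left (hs t ht)

end C1

section E
variable {k : Type u} [Field k] {A : Type u} [CommRing A] [HopfAlgebra k A]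
  {K : Type u} [Field K] [Algebra k K] [IsAlgClosed K]

/-- a point with values in an algebraically closed extension field, defined on a Hopf subalgebra,
extends to the whole Hopf algebra -/
theorem exists_extend_hom (A' : Subalgebra k A) (hA' : IsHS A') (h' : A' →ₐ[k] K) :
    ∃ h : A →ₐ[k] K, ∀ a : A', h a = h' a := by
  let _ : HopfAlgebra k A' := hopfAlgebraOfSub A' hA'.1 hA'.2
  let ι : A' →ₐc[k] A := subBialgHom A' hA'.1 hA'.2
  let φ : K ⊗[k] A' →ₐc[K] K ⊗[k] A := Bialgebra.TensorProduct.map (BialgHom.id K K) ι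
  have hφ : Function.Injective φ := by
    have : Function.Injective (LinearMap.lTensor K (A'.val.toLinearMap)) :=
      Module.Flat.lTensor_preserves_injective_linearMap (M := K) A'.val.toLinearMap
        Subtype.val_injective
    intro x y hxy
    apply this
    exact hxy
  let φa : K ⊗[k] A' →ₐ[K] K ⊗[k] A := (φ : K ⊗[k] A' →ₐ[K] K ⊗[k] A)
  have hHS : IsHS φa.range := Groth.Agent.Lib.Helper66.TK11.isHS_range φ
  let ξ₀ : K ⊗[k] A' →ₐ[K] K :=
    Algebra.TensorProduct.lift (Algebra.ofId K K) h' (fun _ _ => .all _ _)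
  let eq : K ⊗[k] A' ≃ₐ[K] φa.range := AlgEquiv.ofInjective φa hφ
  let g₀ : φa.range →ₐ[K] K := ξ₀.comp (eq.symm : φa.range →ₐ[K] K ⊗[k] A')
  obtain ⟨ξ, hξ⟩ := PtsSep.exists_extend_point φa.range hHS g₀
  refine ⟨(ξ.restrictScalars k).comp Algebra.TensorProduct.includeRight, fun a => ?_⟩
  show ξ ((1 : K) ⊗ₜ[k] (a : A)) = h' a
  have h1 : ((1 : K) ⊗ₜ[k] (a : A)) = ((eq ((1 : K) ⊗ₜ[k] a) : φa.range) : K ⊗[k] A) := rfl
  rw [h1, hξ]
  show ξ₀ (eq.symm (eq ((1 : K) ⊗ₜ[k] a))) = h' a
  rw [AlgEquiv.symm_apply_apply]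
  simp [ξ₀]

end E

end Groth.Agent.Lib.Helper96.TorsAlg
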