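import Mathlib
import Groth.Agent.Lib.Helper96.TorsAlg1

/-! Agreement of points on Hopf subalgebras and the extension step for trivialising a cocycle
(helper96). -/

set_option autoImplicit false
open scoped TensorProduct
open WithConv

namespace Groth.Agent.Lib.Helper96.TorsAlg
open Groth.Agent.Lib.Helper66.SubBialg Groth.Agent.Lib.Helper66.TK7 Groth.Agent.Lib.Helper66.TK10
open Groth.Agent.Lib.Helper96.TorsPt

universe u

section EqOn
variable {k : Type u} [Field k] {A : Type u} [CommRing A] [HopfAlgebra k A]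
variable {C : Type u} [CommRing C] [Algebra k C] {C' : Type u} [CommRing C'] [Algebra k C']

attribute [local instance] convGroup

/-- two points agree on a subalgebra -/
def EqOn (B : Subalgebra k A) (f f' : WithConv (A →ₐ[k] C)) : Prop :=
  ∀ b ∈ B, f.ofConv b = f'.ofConv b

theorem EqOn.refl (B : Subalgebra k A) (f : WithConv (A →ₐ[k] C)) : EqOn B f f := fun _ _ => rfl

theorem EqOn.symm {B : Subalgebra k A} {f f' : WithConv (A →ₐ[k] C)} (h : EqOn B f f') :
    EqOn B f' f := fun b hb => (h b hb).symm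

theorem EqOn.trans {B : Subalgebra k A} {f f' f'' : WithConv (A →ₐ[k] C)} (h : EqOn B f f')
    (h' : EqOn B f' f'') : EqOn B f f'' := fun b hb => (h b hb).trans (h' b hb)

theorem EqOn.mono {B B' : Subalgebra k A} (hle : B ≤ B') {f f' : WithConv (A →ₐ[k] C)}
    (h : EqOn B' f f') : EqOn B f f' := fun b hb => h b (hle hb)

theorem EqOn.push {B : Subalgebra k A} {f f' : WithConv (A →ₐ[k] C)} (h : EqOn B f f')
    (φ : C →ₐ[k] C') : EqOn B (pushHom φ f) (pushHom φ f') := fun b hb => by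
  show φ (f.ofConv b) = φ (f'.ofConv b)
  rw [h b hb]

theorem EqOn.inv {B : Subalgebra k A} (hB : IsHS B) {f f' : WithConv (A →ₐ[k] C)}
    (h : EqOn B f f') : EqOn B f⁻¹ f'⁻¹ := fun b hb => by
  show f.ofConv (HopfAlgebra.antipode k b) = f'.ofConv (HopfAlgebra.antipode k b)
  exact h _ (hB.2 b hb)

theorem EqOn.mul {B : Subalgebra k A} (hB : IsHS B) {f₁ f₁' f₂ f₂' : WithConv (A →ₐ[k] C)}
    (h₁ : EqOn B f₁ f₁') (h₂ : EqOn B f₂ f₂') : EqOn B (f₁ * f₂) (f₁' * f₂') := fun b hb => by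
  obtain ⟨z, hz⟩ := hB.1 b hb
  have hz' : jmap B z = Coalgebra.comul (R := k) b := hz
  have key : ∀ g₁ g₂ : WithConv (A →ₐ[k] C), (g₁ * g₂).ofConv b =
      Algebra.TensorProduct.lift (g₁.ofConv.comp B.val) (g₂.ofConv.comp B.val)
        (fun _ _ => .all _ _) z := by
    intro g₁ g₂
    have h0 : (g₁ * g₂).ofConv b = Algebra.TensorProduct.lift g₁.ofConv g₂.ofConv
        (fun _ _ => .all _ _) (Coalgebra.comul (R := k) b) := AlgHom.convMul_apply g₁ g₂ b
    rw [h0, ← hz', ← AlgHom.comp_apply]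
    congr 1
    ext <;> simp
  rw [key, key]
  have e1 : f₁.ofConv.comp B.val = f₁'.ofConv.comp B.val := by
    ext x
    exact h₁ x x.2
  have e2 : f₂.ofConv.comp B.val = f₂'.ofConv.comp B.val := by
    ext x
    exact h₂ x x.2
  simp only [e1, e2]

end EqOn


section Ext
variable {k : Type u} [Field k] [IsAlgClosed k] {A : Type u} [CommRing A] [HopfAlgebra k A]
  {K : Type u} [Field K] [Algebra k K] [IsAlgClosed K]

attribute [local instance] convGroup

/-- twisting a cocycle by a point gives a cocycle -/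
theorem cocycle_twist (g : WithConv (A →ₐ[k] K ⊗[k] K))
    (hg : pushHom (j₁₂ k K) g * pushHom (j₂₃ k K) g = pushHom (j₁₃ k K) g)
    (h : WithConv (A →ₐ[k] K)) :
    pushHom (j₁₂ k K) (pushHom (i₁ k K) h * g * (pushHom (i₂ k K) h)⁻¹) *
      pushHom (j₂₃ k K) (pushHom (i₁ k K) h * g * (pushHom (i₂ k K) h)⁻¹) =
      pushHom (j₁₃ k K) (pushHom (i₁ k K) h * g * (pushHom (i₂ k K) h)⁻¹) := by
  simp only [map_mul, map_inv, pushHom_comp]
  rw [← hg, j_h2, j_h1, j_h3]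
  generalize (pushHom ((j₁₃ k K).comp (i₁ k K))) h = a
  generalize (pushHom ((j₂₃ k K).comp (i₁ k K))) h = b
  generalize (pushHom ((j₁₃ k K).comp (i₂ k K))) h = c
  generalize (pushHom (j₁₂ k K)) g = d
  generalize (pushHom (j₂₃ k K)) g = e
  rw [mul_assoc b e, mul_assoc (a * d) b⁻¹, inv_mul_cancel_left, mul_assoc a d, mul_assoc a (d * e),
    mul_assoc d e]

theorem extend_step (g : WithConv (A →ₐ[k] K ⊗[k] K))
    (hg : pushHom (j₁₂ k K) g * pushHom (j₂₃ k K) g = pushHom (j₁₃ k K) g)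
    (A' : Subalgebra k A) (hA' : IsHS A') (h : WithConv (A →ₐ[k] K))
    (hh : EqOn A' (pushHom (i₁ k K) h * g) (pushHom (i₂ k K) h)) (x : A) :
    ∃ (A'' : Subalgebra k A) (h'' : WithConv (A →ₐ[k] K)), IsHS A'' ∧ A' ≤ A'' ∧ x ∈ A'' ∧
      EqOn A' h'' h ∧ EqOn A'' (pushHom (i₁ k K) h'' * g) (pushHom (i₂ k K) h'') := by
  obtain ⟨A₁, hx, hfg, hA₁⟩ := TKP.exists_fg_isHS (k := k) (A := A) x
  let A'' : Subalgebra k A := A' ⊔ A₁
  have hle : A' ≤ A'' := le_sup_left
  have hle₁ : A₁ ≤ A'' := le_sup_right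
  have hA'' : IsHS A'' := isHS_sup hA' hA₁
  -- the twisted cocycle
  obtain ⟨gt, hgt_def⟩ : ∃ gt : WithConv (A →ₐ[k] K ⊗[k] K),
      gt = pushHom (i₁ k K) h * g * (pushHom (i₂ k K) h)⁻¹ := ⟨_, rfl⟩
  have hgt : pushHom (j₁₂ k K) gt * pushHom (j₂₃ k K) gt = pushHom (j₁₃ k K) gt := by
    rw [hgt_def]
    exact cocycle_twist g hg h
  have hgt_mul : gt * pushHom (i₂ k K) h = pushHom (i₁ k K) h * g := by
    rw [hgt_def, inv_mul_cancel_right]
  have hgt1 : EqOn A' gt 1 := by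
    have h1 := EqOn.mul hA' hh (EqOn.refl A' (pushHom (i₂ k K) h)⁻¹)
    rw [mul_inv_cancel, ← hgt_def] at h1
    exact h1
  -- a finitely generated coefficient ring
  obtain ⟨s, hs⟩ := hfg
  classical
  obtain ⟨R, hR, hsR⟩ := exists_fg_range_finset (k := k) (K := K) (s.image gt.ofConv)
  let I : K ⊗[k] R →ₐ[k] K ⊗[k] K := Algebra.TensorProduct.map (AlgHom.id k K) R.val
  have hI : Function.Injective I :=
    Module.Flat.lTensor_preserves_injective_linearMap (M := K) R.val.toLinearMap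
      Subtype.val_injective
  have hA''le : A'' ≤ I.range.comap gt.ofConv := by
    apply sup_le
    · intro a ha
      show gt.ofConv a ∈ I.range
      rw [hgt1 a ha]
      show algebraMap k (K ⊗[k] K) (Coalgebra.counit (R := k) a) ∈ I.range
      exact Subalgebra.algebraMap_mem _ _
    · rw [← hs]
      apply Algebra.adjoin_le
      intro a ha
      exact hsR _ (Finset.mem_image_of_mem _ ha)
  let ρ₀ : A'' →ₐ[k] I.range :=
    (gt.ofConv.comp A''.val).codRestrict I.range (fun a => hA''le a.2)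
  let eI : K ⊗[k] R ≃ₐ[k] I.range := AlgEquiv.ofInjective I hI
  let ρ : A'' →ₐ[k] K ⊗[k] R := (eI.symm : I.range →ₐ[k] K ⊗[k] R).comp ρ₀
  have hρ : I.comp ρ = gt.ofConv.comp A''.val := by
    ext a
    show I (eI.symm (ρ₀ a)) = gt.ofConv a
    have h1 : I (eI.symm (ρ₀ a)) = ((eI (eI.symm (ρ₀ a)) : I.range) : K ⊗[k] K) := rfl
    rw [h1, AlgEquiv.apply_symm_apply]
    rfl
  -- the Hopf algebra `A''`
  let _ : HopfAlgebra k A'' := hopfAlgebraOfSub A'' hA''.1 hA''.2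
  let ι : A'' →ₐc[k] A := subBialgHom A'' hA''.1 hA''.2
  have hι : ∀ a : A'', ι a = (a : A) := fun _ => rfl
  let res : ∀ {C : Type u} [CommRing C] [Algebra k C],
      WithConv (A →ₐ[k] C) → WithConv (A'' →ₐ[k] C) :=
    fun f => toConv (f.ofConv.comp (ι : A'' →ₐ[k] A))
  have res_mul : ∀ {C : Type u} [CommRing C] [Algebra k C] (f f' : WithConv (A →ₐ[k] C)),
      res (f * f') = res f * res f' := by
    intro C _ _ f f'
    apply WithConv.ofConv_injective
    exact AlgHom.convMul_comp_bialgHom_distrib f f' ι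
  let γ : WithConv (A'' →ₐ[k] K ⊗[k] K) := res gt
  have hγ : pushHom (j₁₂ k K) γ * pushHom (j₂₃ k K) γ = pushHom (j₁₃ k K) γ := by
    have h1 := congrArg res hgt
    rw [res_mul] at h1
    exact h1
  obtain ⟨ηi, hη1, hη2⟩ := exists_of_fg γ hγ R hR ρ hρ
  obtain ⟨hc₀, hhc₀⟩ := exists_extend_hom A'' hA'' ηi.ofConv
  let hc : WithConv (A →ₐ[k] K) := toConv hc₀
  have hres_hc : res hc = ηi := by
    apply WithConv.ofConv_injective
    ext a
    exact hhc₀ a
  -- the trivialisation on `A''`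
  have hη1' : EqOn A'' (gt * pushHom (i₂ k K) hc) (pushHom (i₁ k K) hc) := by
    intro b hb
    have h1 : (gt * pushHom (i₂ k K) hc).ofConv b =
        (res (gt * pushHom (i₂ k K) hc)).ofConv ⟨b, hb⟩ := rfl
    have h2 : res (pushHom (i₂ k K) hc) = pushHom (i₂ k K) (res hc) := rfl
    rw [h1, res_mul, h2, hres_hc, hη1]
    show (i₁ k K) (ηi.ofConv ⟨b, hb⟩) = (i₁ k K) (hc₀ b)
    rw [← hhc₀ ⟨b, hb⟩]
  have hc1 : EqOn A' hc 1 := by
    intro a ha
    have h1 : hc.ofConv a = ηi.ofConv ⟨a, hle ha⟩ := hhc₀ ⟨a, hle ha⟩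
    rw [h1]
    have h2 : γ.ofConv ⟨a, hle ha⟩ =
        algebraMap k _ (Coalgebra.counit (R := k) (⟨a, hle ha⟩ : A'')) := hgt1 a ha
    exact hη2 _ h2
  refine ⟨A'', hc⁻¹ * h, hA'', hle, hle₁ hx, ?_, ?_⟩
  · have h1 := EqOn.mul hA' (EqOn.inv hA' hc1) (EqOn.refl A' h)
    rw [inv_one, one_mul] at h1
    exact h1
  · have e1 : pushHom (i₁ k K) (hc⁻¹ * h) * g =
        (pushHom (i₁ k K) hc)⁻¹ * gt * pushHom (i₂ k K) h := by
      rw [map_mul, map_inv, mul_assoc, ← hgt_mul, ← mul_assoc]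
    have e2 : EqOn A'' ((pushHom (i₁ k K) hc)⁻¹ * gt) (pushHom (i₂ k K) hc)⁻¹ := by
      have h1 := EqOn.mul hA'' (EqOn.mul hA'' (EqOn.refl A'' (pushHom (i₁ k K) hc)⁻¹) hη1')
        (EqOn.refl A'' (pushHom (i₂ k K) hc)⁻¹)
      have h2 : (pushHom (i₁ k K) hc)⁻¹ * (gt * pushHom (i₂ k K) hc) * (pushHom (i₂ k K) hc)⁻¹ =
          (pushHom (i₁ k K) hc)⁻¹ * gt := by
        rw [← mul_assoc, mul_inv_cancel_right]
      have h3 : (pushHom (i₁ k K) hc)⁻¹ * pushHom (i₁ k K) hc * (pushHom (i₂ k K) hc)⁻¹ =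
          (pushHom (i₂ k K) hc)⁻¹ := by
        rw [inv_mul_cancel, one_mul]
      rw [h2, h3] at h1
      exact h1
    have e3 := EqOn.mul hA'' e2 (EqOn.refl A'' (pushHom (i₂ k K) h))
    rw [e1]
    have e4 : (pushHom (i₂ k K) hc)⁻¹ * pushHom (i₂ k K) h = pushHom (i₂ k K) (hc⁻¹ * h) := by
      rw [map_mul, map_inv]
    rw [← e4]
    exact e3

end Ext

end Groth.Agent.Lib.Helper96.TorsAlg
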