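import Mathlib
import Groth.Agent.Lib.Helper96.TorsAlg2

/-! Every cocycle of an affine group scheme over an algebraically closed field `k` with values in
`K ⊗ K`, `K` an algebraically closed extension, is a coboundary (helper96): Zorn over Hopf
subalgebras. -/

set_option autoImplicit false
open scoped TensorProduct
open WithConv

namespace Groth.Agent.Lib.Helper96.TorsAlg
open Groth.Agent.Lib.Helper66.SubBialg Groth.Agent.Lib.Helper66.TK7 Groth.Agent.Lib.Helper66.TK10
open Groth.Agent.Lib.Helper96.TorsPt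

universe u

section Graph
variable {k : Type u} [Field k] {A : Type u} [CommRing A] [Algebra k A]
  {K : Type u} [CommRing K] [Algebra k K]

/-- the graph subalgebra of a partial point with values in `K` -/
noncomputable def graphK (B : Subalgebra k A) (g : B →ₐ[k] K) : Subalgebra k (A × K) :=
  (AlgHom.prod B.val g).range

theorem mem_graphK {B : Subalgebra k A} {g : B →ₐ[k] K} {y : A × K} :
    y ∈ graphK B g ↔ ∃ b : B, (b : A) = y.1 ∧ g b = y.2 := by
  constructor
  · rintro ⟨b, rfl⟩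
    exact ⟨b, rfl, rfl⟩
  · rintro ⟨b, h1, h2⟩
    exact ⟨b, Prod.ext h1 h2⟩

theorem graphK_zero {B : Subalgebra k A} {g : B →ₐ[k] K} (c : K) (h : ((0 : A), c) ∈ graphK B g) :
    c = 0 := by
  obtain ⟨b, h1, h2⟩ := mem_graphK.mp h
  have hb : b = 0 := Subtype.val_injective h1
  have h2' : g b = c := h2
  rw [← h2', hb, map_zero]

theorem map_fst_graphK (B : Subalgebra k A) (g : B →ₐ[k] K) :
    (graphK B g).map (AlgHom.fst k A K) = B := by
  ext a
  constructor
  · rintro ⟨y, hy, rfl⟩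
    obtain ⟨b, h1, -⟩ := mem_graphK.mp hy
    rw [AlgHom.coe_toRingHom, AlgHom.fst_apply, ← h1]
    exact b.2
  · intro ha
    exact ⟨(a, g ⟨a, ha⟩), mem_graphK.mpr ⟨⟨a, ha⟩, rfl, rfl⟩, rfl⟩

/-- a subalgebra of `A × K` which is a graph over its projection defines a partial point -/
theorem exists_eq_graphK (Γ : Subalgebra k (A × K)) (h0 : ∀ c : K, ((0 : A), c) ∈ Γ → c = 0) :
    ∃ g : (Γ.map (AlgHom.fst k A K) : Subalgebra k A) →ₐ[k] K,
      Γ = graphK (Γ.map (AlgHom.fst k A K)) g := by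
  let π : Γ →ₐ[k] A := (AlgHom.fst k A K).comp Γ.val
  have hπ : Function.Injective π := by
    rw [injective_iff_map_eq_zero]
    intro y hy
    have h1 : (y : A × K).1 = 0 := hy
    have h2 : (y : A × K) = (0, (y : A × K).2) := Prod.ext h1 rfl
    have h3 : (y : A × K).2 = 0 := h0 _ (h2 ▸ y.2)
    exact Subtype.val_injective (Prod.ext h1 h3)
  have hrange : π.range = Γ.map (AlgHom.fst k A K) := Subalgebra.range_comp_val _ _
  let e : Γ ≃ₐ[k] π.range := AlgEquiv.ofInjective π hπ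
  let g₁ : π.range →ₐ[k] K := ((AlgHom.snd k A K).comp Γ.val).comp (e.symm : π.range →ₐ[k] Γ)
  have hg₁ : ∀ y : Γ, g₁ (e y) = (y : A × K).2 := by
    intro y
    show (AlgHom.snd k A K) (Γ.val (e.symm (e y))) = _
    rw [AlgEquiv.symm_apply_apply]
    rfl
  have key : ∃ g : π.range →ₐ[k] K, Γ = graphK π.range g := by
    refine ⟨g₁, ?_⟩
    ext y
    rw [mem_graphK]
    constructor
    · intro hy
      exact ⟨e ⟨y, hy⟩, rfl, hg₁ ⟨y, hy⟩⟩
    · rintro ⟨b, h1, h2⟩
      have h3 : (b : A) = ((e (e.symm b) : π.range) : A) := by rw [AlgEquiv.apply_symm_apply]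
      have h4 : ((e.symm b : Γ) : A × K).1 = y.1 := by
        rw [← h1, h3]
        rfl
      have h5 : ((e.symm b : Γ) : A × K).2 = y.2 := by
        rw [← h2, ← hg₁, AlgEquiv.apply_symm_apply]
      have h6 : ((e.symm b : Γ) : A × K) = y := Prod.ext h4 h5
      rw [← h6]
      exact (e.symm b).2
  rw [hrange] at key
  exact key

end Graph

section Zorn
variable {k : Type u} [Field k] [IsAlgClosed k] {A : Type u} [CommRing A] [HopfAlgebra k A]
  {K : Type u} [Field K] [Algebra k K] [IsAlgClosed K]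

/-- **every cocycle of an affine group scheme over an algebraically closed field, with values in
`K ⊗ K` for an algebraically closed extension `K`, is a coboundary** -/
theorem exists_trivialization (g : WithConv (A →ₐ[k] K ⊗[k] K))
    (hg : pushHom (j₁₂ k K) g * pushHom (j₂₃ k K) g = pushHom (j₁₃ k K) g) :
    ∃ h : WithConv (A →ₐ[k] K), pushHom (i₁ k K) h * g = pushHom (i₂ k K) h := by
  let Triv : Subalgebra k (A × K) → Prop := fun Γ =>
    ∀ h : WithConv (A →ₐ[k] K), (∀ y ∈ Γ, h.ofConv y.1 = y.2) →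
      EqOn (Γ.map (AlgHom.fst k A K)) (pushHom (i₁ k K) h * g) (pushHom (i₂ k K) h)
  let S : Set (Subalgebra k (A × K)) :=
    {Γ | (∀ c : K, ((0 : A), c) ∈ Γ → c = 0) ∧ IsHS (Γ.map (AlgHom.fst k A K)) ∧ Triv Γ}
  have hnt : Nontrivial A := by
    refine ⟨⟨0, 1, fun h01 => ?_⟩⟩
    have := congrArg (Coalgebra.counit (R := k) (A := A)) h01
    rw [map_zero, Bialgebra.counit_one] at this
    exact zero_ne_one this
  have hS₀ : (⊥ : Subalgebra k (A × K)) ∈ S := by
    refine ⟨?_, ?_, ?_⟩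
    · intro c hc
      obtain ⟨c', hc'⟩ := Algebra.mem_bot.mp hc
      have h1 : algebraMap k A c' = 0 := congrArg Prod.fst hc'
      have h2 : c' = 0 := by
        have hinj : Function.Injective (algebraMap k A) := (algebraMap k A).injective
        exact hinj (by rw [h1, map_zero])
      have h3 : algebraMap k K c' = c := congrArg Prod.snd hc'
      rw [← h3, h2, map_zero]
    · rw [Algebra.map_bot]
      exact isHS_bot
    · intro h _ b hb
      rw [Algebra.map_bot] at hb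
      obtain ⟨c', rfl⟩ := Algebra.mem_bot.mp hb
      rw [AlgHom.commutes, AlgHom.commutes]
  have hchain : ∀ c ⊆ S, IsChain (· ≤ ·) c → ∀ y ∈ c, ∃ ub ∈ S, ∀ z ∈ c, z ≤ ub := by
    intro c hcS hc y hy
    have hne : Nonempty c := ⟨⟨y, hy⟩⟩
    have hdir : Directed (· ≤ ·) (fun i : c => (i : Subalgebra k (A × K))) :=
      hc.directedOn.directed_val
    have hmem : ∀ z : A × K, z ∈ sSup c ↔ ∃ Γ ∈ c, z ∈ Γ := by
      intro z
      rw [sSup_eq_iSup', ← SetLike.mem_coe, Subalgebra.coe_iSup_of_directed hdir]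
      simp
    refine ⟨sSup c, ⟨?_, ⟨?_, ?_⟩, ?_⟩, fun z hz => le_sSup hz⟩
    · intro c' hc'
      obtain ⟨Γ, hΓ, hz⟩ := (hmem _).mp hc'
      exact (hcS hΓ).1 c' hz
    · rintro _ ⟨z, hz, rfl⟩
      obtain ⟨Γ, hΓ, hzΓ⟩ := (hmem _).mp hz
      have h1 := (hcS hΓ).2.1.1 _ ⟨z, hzΓ, rfl⟩
      exact jmap_range_mono (Subalgebra.map_mono (le_sSup hΓ)) h1
    · rintro _ ⟨z, hz, rfl⟩
      obtain ⟨Γ, hΓ, hzΓ⟩ := (hmem _).mp hz
      have h1 := (hcS hΓ).2.1.2 _ ⟨z, hzΓ, rfl⟩
      exact Subalgebra.map_mono (le_sSup hΓ) h1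
    · intro h hh b hb
      obtain ⟨z, hz, rfl⟩ := hb
      obtain ⟨Γ, hΓ, hzΓ⟩ := (hmem _).mp hz
      exact (hcS hΓ).2.2 h (fun y hy => hh y (le_sSup hΓ hy)) _ ⟨z, hzΓ, rfl⟩
  obtain ⟨m, hm₀, hmax⟩ := zorn_le_nonempty₀ S hchain _ hS₀
  obtain ⟨hmS, hmmax⟩ := hmax
  obtain ⟨h', hh'⟩ := exists_eq_graphK m hmS.1
  let B : Subalgebra k A := m.map (AlgHom.fst k A K)
  have hB : IsHS B := hmS.2.1
  obtain ⟨h₀, hh₀⟩ := exists_extend_hom B hB h'
  let h : WithConv (A →ₐ[k] K) := toConv h₀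
  have hext : ∀ y ∈ m, h.ofConv y.1 = y.2 := by
    intro y hy
    rw [hh'] at hy
    obtain ⟨b, h1, h2⟩ := mem_graphK.mp hy
    rw [← h1, ← h2]
    exact hh₀ b
  have htriv : EqOn B (pushHom (i₁ k K) h * g) (pushHom (i₂ k K) h) := hmS.2.2 h hext
  have htop : ∀ x : A, x ∈ B := by
    intro x
    obtain ⟨A'', h'', hA'', hle, hx, hag, htr⟩ := extend_step g hg B hB h htriv x
    let Γ'' : Subalgebra k (A × K) := graphK A'' (h''.ofConv.comp A''.val)
    have hS' : Γ'' ∈ S := by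
      refine ⟨fun c hc => graphK_zero c hc, by rw [map_fst_graphK]; exact hA'', ?_⟩
      intro h₃ hh₃
      show EqOn (Γ''.map (AlgHom.fst k A K)) _ _
      rw [map_fst_graphK]
      have e1 : EqOn A'' h₃ h'' := by
        intro b hb
        exact hh₃ (b, h''.ofConv b) (mem_graphK.mpr ⟨⟨b, hb⟩, rfl, rfl⟩)
      exact ((EqOn.mul hA'' (e1.push (i₁ k K)) (EqOn.refl A'' g)).trans htr).trans
        (e1.push (i₂ k K)).symm
    have hle' : m ≤ Γ'' := by
      intro y hy
      have hy' := hy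
      rw [hh'] at hy'
      obtain ⟨b, h1, h2⟩ := mem_graphK.mp hy'
      refine mem_graphK.mpr ⟨⟨b, hle b.2⟩, h1, ?_⟩
      show h''.ofConv (b : A) = y.2
      rw [hag b b.2, ← h2]
      exact hh₀ b
    have hge : Γ'' ≤ m := hmmax hS' hle'
    have h1 : (x, h''.ofConv x) ∈ Γ'' := mem_graphK.mpr ⟨⟨x, hx⟩, rfl, rfl⟩
    exact ⟨_, hge h1, rfl⟩
  refine ⟨h, ?_⟩
  apply WithConv.ofConv_injective
  ext a
  exact htriv a (htop a)

end Zorn

end Groth.Agent.Lib.Helper96.TorsAlg
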