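import Mathlib
import Groth.Prelude.Def_SGA3b

set_option autoImplicit false
universe u
open TensorProduct WithConv

namespace Groth.Agent.Lib.Helper96.TorsKer1

section Nat

variable {R : Type*} [CommRing R] {A B C : Type*} [CommRing A] [CommRing B] [CommRing C]
  [Bialgebra R C] [Algebra R A]

theorem comp_convPow [Algebra R B] (h : A →ₐ[R] B) (f : WithConv (C →ₐ[R] A)) (n : ℕ) :
    h.comp (f ^ n).ofConv = ofConv ((toConv (h.comp f.ofConv)) ^ n) := by
  induction n with
  | zero =>
    rw [pow_zero, pow_zero]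
    ext c
    simp
  | succ n ih =>
    rw [pow_succ, pow_succ, AlgHom.comp_convMul_distrib, ih]

theorem convPow_comp [Bialgebra R B] (f : WithConv (C →ₐ[R] A)) (h : B →ₐc[R] C) (n : ℕ) :
    (f ^ n).ofConv.comp (h : B →ₐ[R] C) = ofConv ((toConv (f.ofConv.comp (h : B →ₐ[R] C))) ^ n) := by
  induction n with
  | zero =>
    rw [pow_zero, pow_zero]
    ext c
    simp
  | succ n ih =>
    rw [pow_succ, pow_succ, AlgHom.convMul_comp_bialgHom_distrib, ih]

end Nat

section PowConv

variable {R : Type u} [CommRing R] {A Q : Type u} [CommRing A] [CommRing Q]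
  [HopfAlgebra R A] [HopfAlgebra R Q]

/-- naturality of the n-th power endomorphism -/
theorem powConv_natural (p : A →ₐc[R] Q) (n : ℕ) (a : A) :
    p (SGA3b.powConv R A n a) = SGA3b.powConv R Q n (p a) := by
  have h1 := comp_convPow (p : A →ₐ[R] Q) (toConv (AlgHom.id R A)) n
  have h2 := convPow_comp (toConv (AlgHom.id R Q)) p n
  have h3 : (p : A →ₐ[R] Q).comp (SGA3b.powConv R A n) = (SGA3b.powConv R Q n).comp (p : A →ₐ[R] Q) := by
    unfold SGA3b.powConv
    rw [h1, h2]
    rfl
  exact DFunLike.congr_fun h3 a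

/-- on group-like elements, the n-th power endomorphism is the n-th power -/
theorem powConv_groupLike {b : A} (hb : IsGroupLikeElem R b) (n : ℕ) :
    SGA3b.powConv R A n b = b ^ n := by
  unfold SGA3b.powConv
  induction n with
  | zero =>
    rw [pow_zero, pow_zero]
    change algebraMap R A (Coalgebra.counit b) = 1
    rw [hb.counit_eq_one, map_one]
  | succ n ih =>
    rw [pow_succ, pow_succ]
    change ((toConv (AlgHom.id R A)) ^ n * toConv (AlgHom.id R A)) b = _
    rw [AlgHom.convMul_apply, hb.comul_eq_tmul_self]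
    simp only [Algebra.TensorProduct.lift_tmul]
    rw [ih]
    rfl

end PowConv

section BaseChange

variable (R : Type u) [CommRing R] (R' : Type u) [CommRing R'] [Algebra R R']
  (D : Type u) [CommRing D] [HopfAlgebra R D]

/-- base change of an algebra endomorphism -/
noncomputable def bc (f : D →ₐ[R] D) : R' ⊗[R] D →ₐ[R'] R' ⊗[R] D :=
  Algebra.TensorProduct.map (AlgHom.id R' R') f

theorem bc_tmul (f : D →ₐ[R] D) (r : R') (d : D) : bc R R' D f (r ⊗ₜ d) = r ⊗ₜ f d := by
  simp [bc]

theorem bc_convMul (f g : WithConv (D →ₐ[R] D)) :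
    bc R R' D (f * g).ofConv = ofConv (toConv (bc R R' D f.ofConv) * toConv (bc R R' D g.ofConv)) := by
  apply Algebra.TensorProduct.ext
  · ext
  · ext d
    simp only [AlgHom.coe_comp, AlgHom.coe_restrictScalars', Function.comp_apply,
      Algebra.TensorProduct.includeRight_apply]
    rw [bc_tmul]
    change _ = (toConv (bc R R' D f.ofConv) * toConv (bc R R' D g.ofConv)) ((1 : R') ⊗ₜ[R] d)
    rw [AlgHom.convMul_apply, AlgHom.convMul_apply]
    have h := DFunLike.congr_fun (Bialgebra.comul_includeRight (R := R) (A := R') (B := D)) d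
    simp only [RingHom.coe_comp, Function.comp_apply] at h
    change CoalgebraStruct.comul (R := R') ((1 : R') ⊗ₜ[R] d) = _ at h
    have hz : (RingHomClass.toRingHom (Bialgebra.comulAlgHom R D)) d =
        CoalgebraStruct.comul (R := R) d := rfl
    rw [h, hz]
    generalize CoalgebraStruct.comul (R := R) d = z
    induction z using TensorProduct.induction_on with
    | zero => simp
    | add a b ha hb => simp only [map_add, TensorProduct.tmul_add, ha, hb]
    | tmul a b =>
      simp [bc_tmul]

theorem bc_convOne :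
    bc R R' D (1 : WithConv (D →ₐ[R] D)).ofConv = ofConv (1 : WithConv (R' ⊗[R] D →ₐ[R'] R' ⊗[R] D)) := by
  apply Algebra.TensorProduct.ext
  · ext
  · ext d
    simp only [AlgHom.coe_comp, AlgHom.coe_restrictScalars', Function.comp_apply,
      Algebra.TensorProduct.includeRight_apply]
    rw [bc_tmul]
    change (1 : R') ⊗ₜ[R] (algebraMap R D (Coalgebra.counit d)) =
      algebraMap R' (R' ⊗[R] D) (Coalgebra.counit ((1 : R') ⊗ₜ[R] d))
    rw [TensorProduct.counit_tmul, Algebra.TensorProduct.algebraMap_apply]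
    simp [Algebra.algebraMap_eq_smul_one, TensorProduct.smul_tmul]

theorem bc_convPow (f : WithConv (D →ₐ[R] D)) (n : ℕ) :
    bc R R' D (f ^ n).ofConv = ofConv ((toConv (bc R R' D f.ofConv)) ^ n) := by
  induction n with
  | zero => rw [pow_zero, pow_zero, bc_convOne]
  | succ n ih => rw [pow_succ, pow_succ, bc_convMul, ih]

theorem powConv_bc (n : ℕ) :
    SGA3b.powConv R' (R' ⊗[R] D) n = bc R R' D (SGA3b.powConv R D n) := by
  unfold SGA3b.powConv
  rw [bc_convPow]
  congr 3
  simp [bc]

theorem powConv_one_tmul (n : ℕ) (d : D) :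
    SGA3b.powConv R' (R' ⊗[R] D) n ((1 : R') ⊗ₜ[R] d) = (1 : R') ⊗ₜ[R] SGA3b.powConv R D n d := by
  rw [powConv_bc, bc_tmul]

end BaseChange

section Triv

variable {K : Type u} [CommRing K] {N : Type u} [CommGroup N]

/-- if `N` is killed by `n`, the n-th power endomorphism of `K[N]` is trivial -/
theorem powConv_monoidAlgebra_eq (n : ℕ) (hN : ∀ x : N, x ^ n = 1) (y : MonoidAlgebra K N) :
    SGA3b.powConv K (MonoidAlgebra K N) n y = algebraMap K _ (Coalgebra.counit y) := by
  have h : SGA3b.powConv K (MonoidAlgebra K N) n =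
      (Algebra.ofId K (MonoidAlgebra K N)).comp (Bialgebra.counitAlgHom K (MonoidAlgebra K N)) := by
    apply MonoidAlgebra.algHom_ext
    case single_one_left => ext
    case single_one_right =>
      intro x
      rw [powConv_groupLike (MonoidAlgebra.isGroupLikeElem_single_one (R := K) (A := K) x) n]
      simp [MonoidAlgebra.single_pow, hN x]
  rw [h]
  rfl

end Triv

end Groth.Agent.Lib.Helper96.TorsKer1
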