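import Groth.Agent.Lib.Helper96.TorsKer1

set_option autoImplicit false
universe u
open TensorProduct WithConv

namespace Groth.Agent.Lib.Helper96.TorsKer2

open Groth.Agent.Lib.Helper96.TorsKer1

variable {R : Type u} [CommRing R] {R' : Type u} [CommRing R'] [Algebra R R']
  {A : Type u} [CommRing A] [HopfAlgebra R A] (n : ℕ)
  (J : Ideal A) [J.IsHopfIdeal R] (hJ : J = SGA3b.torsionIdeal R A n)

include hJ in
/-- in `A ⧸ J` the n-th power endomorphism is trivial -/
theorem powConv_quot (q : A ⧸ J) :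
    SGA3b.powConv R (A ⧸ J) n q = algebraMap R _ (Coalgebra.counit q) := by
  obtain ⟨a, rfl⟩ := Ideal.Quotient.mk_surjective q
  have h1 := powConv_natural (Bialgebra.Quotient.mkBialgHom (R := R) J) n a
  rw [Bialgebra.Quotient.mkBialgHom_apply, Bialgebra.Quotient.mkBialgHom_apply] at h1
  rw [← h1]
  have hc : Coalgebra.counit (R := R) (Ideal.Quotient.mk J a) = Coalgebra.counit (R := R) a := by
    have := CoalgHomClass.counit_comp_apply (Bialgebra.Quotient.mkBialgHom (R := R) J) a
    rwa [Bialgebra.Quotient.mkBialgHom_apply] at this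
  rw [hc]
  have h2 : a = (a - algebraMap R A (Coalgebra.counit a)) + algebraMap R A (Coalgebra.counit a) := by
    ring
  have h3 : SGA3b.powConv R A n (a - algebraMap R A (Coalgebra.counit a)) ∈ J := by
    rw [hJ]
    apply Ideal.mem_map_of_mem
    rw [RingHom.mem_ker, map_sub]
    simp
  conv_lhs => rw [h2, map_add, map_add, AlgHom.commutes]
  rw [Ideal.Quotient.eq_zero_iff_mem.mpr h3, zero_add]
  rfl

include hJ in
/-- in `R' ⊗ (A ⧸ J)` the n-th power endomorphism is trivial -/
theorem powConv_bc_quot (c : R' ⊗[R] (A ⧸ J)) :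
    SGA3b.powConv R' (R' ⊗[R] (A ⧸ J)) n c = algebraMap R' _ (Coalgebra.counit c) := by
  have h1 : SGA3b.powConv R (A ⧸ J) n = (1 : WithConv ((A ⧸ J) →ₐ[R] (A ⧸ J))).ofConv := by
    ext q
    exact powConv_quot n J hJ q
  rw [powConv_bc, h1, bc_convOne]
  rfl

include hJ in
/-- group-like elements of `R' ⊗ (A ⧸ J)` are killed by `n` -/
theorem groupLike_pow_eq_one {c : R' ⊗[R] (A ⧸ J)} (hc : IsGroupLikeElem R' c) : c ^ n = 1 := by
  rw [← powConv_groupLike hc n, powConv_bc_quot n J hJ, hc.counit_eq_one, map_one]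

section KL

variable (R R')
variable {M : Type u} [CommGroup M] (e : (R' ⊗[R] A) ≃ₐc[R'] MonoidAlgebra R' M)

/-- base change of the quotient map -/
noncomputable def Phi : R' ⊗[R] A →ₐc[R'] R' ⊗[R] (A ⧸ J) :=
  Bialgebra.TensorProduct.map (BialgHom.id R' R') (Bialgebra.Quotient.mkBialgHom (R := R) J)

theorem Phi_tmul (r : R') (a : A) :
    Phi R R' J (r ⊗ₜ[R] a) = r ⊗ₜ[R] (Ideal.Quotient.mk J a) := rfl

theorem Phi_surjective : Function.Surjective (Phi R R' J) := by
  intro c
  induction c using TensorProduct.induction_on with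
  | zero => exact ⟨0, map_zero _⟩
  | add x y hx hy =>
    obtain ⟨x', rfl⟩ := hx
    obtain ⟨y', rfl⟩ := hy
    exact ⟨x' + y', map_add _ _ _⟩
  | tmul r q =>
    obtain ⟨a, rfl⟩ := Ideal.Quotient.mk_surjective q
    exact ⟨r ⊗ₜ[R] a, rfl⟩

/-- the image of `m : M` as a group-like element of `R' ⊗ (A ⧸ J)` -/
noncomputable def g0 : M →* GroupLike R' (R' ⊗[R] (A ⧸ J)) where
  toFun m := ⟨Phi R R' J (e.symm (MonoidAlgebra.single m 1)),
    IsGroupLikeElem.map (Phi R R' J)
      (IsGroupLikeElem.map e.symm (MonoidAlgebra.isGroupLikeElem_single_one (R := R') (A := R') m))⟩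
  map_one' := by
    apply GroupLike.val_injective
    change Phi R R' J (e.symm (MonoidAlgebra.single 1 1)) = 1
    rw [← MonoidAlgebra.one_def, map_one, map_one]
  map_mul' x y := by
    apply GroupLike.val_injective
    change Phi R R' J (e.symm (MonoidAlgebra.single (x * y) 1)) =
      Phi R R' J (e.symm (MonoidAlgebra.single x 1)) * Phi R R' J (e.symm (MonoidAlgebra.single y 1))
    rw [← map_mul, ← map_mul, MonoidAlgebra.single_mul_single, mul_one]

include hJ in
theorem g0_pow (m : M) : g0 R R' J e (m ^ n) = 1 := by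
  rw [map_pow]
  apply GroupLike.val_injective
  rw [GroupLike.val_pow, GroupLike.val_one]
  exact groupLike_pow_eq_one n J hJ (g0 R R' J e m).isGroupLikeElem_val

/-- the subgroup of `n`-th powers -/
abbrev Hn (M : Type u) [CommGroup M] (n : ℕ) : Subgroup M := (powMonoidHom n : M →* M).range

include hJ in
theorem g0_mem (x : M) (hx : x ∈ Hn M n) : g0 R R' J e x = 1 := by
  obtain ⟨m, rfl⟩ := hx
  exact g0_pow R R' n J hJ e m

/-- the induced map on the quotient group -/
noncomputable def g1 : M ⧸ Hn M n →* GroupLike R' (R' ⊗[R] (A ⧸ J)) :=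
  QuotientGroup.lift (Hn M n) (g0 R R' J e) (fun x hx => g0_mem R R' n J hJ e x hx)

/-- the comparison map `R'[M / Mⁿ] → R' ⊗ (A ⧸ J)` -/
noncomputable def G : MonoidAlgebra R' (M ⧸ Hn M n) →ₐc[R'] R' ⊗[R] (A ⧸ J) :=
  (MonoidAlgebra.liftGroupLikeBialgHom (R := R') (A := R' ⊗[R] (A ⧸ J))).comp
    (MonoidAlgebra.mapDomainBialgHom R' (g1 R R' n J hJ e))

theorem G_single (m : M) :
    G R R' n J hJ e (MonoidAlgebra.single (QuotientGroup.mk m) 1) =
      Phi R R' J (e.symm (MonoidAlgebra.single m 1)) := by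
  simp [G, g1, g0]

/-- the other comparison map, from `R' ⊗ A` -/
noncomputable def theta : R' ⊗[R] A →ₐc[R'] MonoidAlgebra R' (M ⧸ Hn M n) :=
  (MonoidAlgebra.mapDomainBialgHom R' (QuotientGroup.mk' (Hn M n))).comp (e : _ →ₐc[R'] _)

theorem theta_symm_single (m : M) :
    theta R R' n e (e.symm (MonoidAlgebra.single m 1)) =
      MonoidAlgebra.single (QuotientGroup.mk m) 1 := by
  simp [theta]

theorem quot_pow (x : M ⧸ Hn M n) : x ^ n = 1 := by
  induction x using QuotientGroup.induction_on with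
  | H m =>
    rw [← QuotientGroup.mk_pow, QuotientGroup.eq_one_iff]
    exact ⟨m, rfl⟩

include hJ in
theorem theta_kills (a : A) (ha : a ∈ J) : theta R R' n e ((1 : R') ⊗ₜ[R] a) = 0 := by
  have hle : J ≤ RingHom.ker ((theta R R' n e :
      R' ⊗[R] A →ₐ[R'] MonoidAlgebra R' (M ⧸ Hn M n)).toRingHom.comp
      (Algebra.TensorProduct.includeRight (R := R) (A := R') (B := A)).toRingHom) := by
    rw [hJ, SGA3b.torsionIdeal, Ideal.map_le_iff_le_comap]
    intro x hx
    rw [RingHom.mem_ker] at hx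
    rw [Ideal.mem_comap, RingHom.mem_ker]
    change theta R R' n e ((1 : R') ⊗ₜ[R] (SGA3b.powConv R A n x)) = 0
    rw [← powConv_one_tmul, powConv_natural (theta R R' n e) n,
      powConv_monoidAlgebra_eq n (quot_pow n)]
    have h1 : Coalgebra.counit (R := R') (theta R R' n e ((1 : R') ⊗ₜ[R] x)) =
        Coalgebra.counit (R := R') ((1 : R') ⊗ₜ[R] x) :=
      CoalgHomClass.counit_comp_apply (theta R R' n e) _
    rw [h1, TensorProduct.counit_tmul]
    have h2 : Coalgebra.counit (R := R) x = 0 := hx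
    rw [h2, zero_smul, map_zero]
  exact hle ha

/-- the inverse comparison map -/
noncomputable def G' : R' ⊗[R] (A ⧸ J) →ₐ[R'] MonoidAlgebra R' (M ⧸ Hn M n) :=
  Algebra.TensorProduct.lift (Algebra.ofId R' _)
    (Ideal.Quotient.liftₐ J
      (((theta R R' n e : R' ⊗[R] A →ₐ[R'] MonoidAlgebra R' (M ⧸ Hn M n)).restrictScalars R).comp
        (Algebra.TensorProduct.includeRight (R := R) (A := R') (B := A)))
      (fun a ha => theta_kills R R' n J hJ e a ha))
    (fun _ _ => Commute.all _ _)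

theorem G'_Phi (b : R' ⊗[R] A) : G' R R' n J hJ e (Phi R R' J b) = theta R R' n e b := by
  induction b using TensorProduct.induction_on with
  | zero => simp
  | add x y hx hy => rw [map_add, map_add, map_add, hx, hy]
  | tmul r a =>
    rw [Phi_tmul, G', Algebra.TensorProduct.lift_tmul]
    have h1 : r ⊗ₜ[R] a = r • ((1 : R') ⊗ₜ[R] a) := by
      rw [TensorProduct.smul_tmul', smul_eq_mul, mul_one]
    rw [h1, map_smul, Algebra.ofId_apply, Algebra.algebraMap_eq_smul_one, smul_mul_assoc, one_mul]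
    rfl

theorem G'_G (y : MonoidAlgebra R' (M ⧸ Hn M n)) : G' R R' n J hJ e (G R R' n J hJ e y) = y := by
  have h : (G' R R' n J hJ e).comp
      (G R R' n J hJ e : MonoidAlgebra R' (M ⧸ Hn M n) →ₐ[R'] R' ⊗[R] (A ⧸ J)) =
      AlgHom.id R' _ := by
    apply MonoidAlgebra.algHom_ext
    case single_one_left => ext
    case single_one_right =>
      intro x
      induction x using QuotientGroup.induction_on with
      | H m =>
        change G' R R' n J hJ e (G R R' n J hJ e (MonoidAlgebra.single (QuotientGroup.mk m) 1)) = _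
        rw [G_single, G'_Phi, theta_symm_single]
        rfl
  exact DFunLike.congr_fun h y

theorem G_bijective : Function.Bijective (G R R' n J hJ e) := by
  refine ⟨Function.LeftInverse.injective (G'_G R R' n J hJ e), ?_⟩
  intro c
  obtain ⟨b, rfl⟩ := Phi_surjective R R' J c
  obtain ⟨y, rfl⟩ : ∃ y, e.symm y = b := ⟨e b, e.symm_apply_apply b⟩
  induction y using MonoidAlgebra.induction_on with
  | of m =>
    exact ⟨MonoidAlgebra.single (QuotientGroup.mk m) 1, G_single R R' n J hJ e m⟩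
  | add x y hx hy =>
    obtain ⟨x', hx'⟩ := hx
    obtain ⟨y', hy'⟩ := hy
    exact ⟨x' + y', by rw [map_add, map_add, map_add, hx', hy']⟩
  | smul r x hx =>
    obtain ⟨x', hx'⟩ := hx
    exact ⟨r • x', by rw [map_smul, map_smul, map_smul, hx']⟩

include hJ e in
/-- **Key lemma**: if `R' ⊗ A ≅ R'[M]` then `R' ⊗ (A ⧸ J) ≅ R'[M / Mⁿ]` for `J` the `n`-torsion ideal -/
theorem exists_bialgEquiv :
    Nonempty ((R' ⊗[R] (A ⧸ J)) ≃ₐc[R'] MonoidAlgebra R' (M ⧸ Hn M n)) :=
  ⟨(BialgEquiv.ofBijective (G R R' n J hJ e) (G_bijective R R' n J hJ e)).symm⟩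

end KL

end Groth.Agent.Lib.Helper96.TorsKer2
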