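import Groth.Agent.Lib.Helper96.TorsKer2
import Groth.Agent.Lib.Helper96.BaseChangeBialg

set_option autoImplicit false
universe u
open TensorProduct

namespace Groth.Agent.Lib.Helper96.TorsKer3

open Groth.Agent.Lib.Helper96.TorsKer1 Groth.Agent.Lib.Helper96.TorsKer2
open Groth.Agent.Lib.Helper96.BaseChangeBialg

theorem finite_monoidAlgebra (K N : Type*) [CommRing K] [CommGroup N] [Finite N] :
    Module.Finite K (MonoidAlgebra K N) := by
  have hfin : (Set.range (fun ν : N => MonoidAlgebra.single ν (1 : K))).Finite := Set.finite_range _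
  refine ⟨⟨hfin.toFinset, ?_⟩⟩
  rw [Set.Finite.coe_toFinset, eq_top_iff]
  rintro y -
  induction y using MonoidAlgebra.induction_on with
  | of m => exact Submodule.subset_span ⟨m, rfl⟩
  | add x y hx hy => exact Submodule.add_mem _ hx hy
  | smul r x hx => exact Submodule.smul_mem _ _ hx

theorem finite_quot_of_fg (M : Type*) [CommGroup M] [Group.FG M] (n : ℕ) (hn : 0 < n) :
    Finite (M ⧸ Hn M n) := by
  apply CommGroup.finite_of_fg_isMulTorsion
  intro x
  rw [isOfFinOrder_iff_pow_eq_one]
  exact ⟨n, hn, quot_pow n x⟩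

variable (R : Type u) [CommRing R] (A : Type u) [CommRing A] [HopfAlgebra R A]
  (n : ℕ) (J : Ideal A) [J.IsHopfIdeal R] (hJ : J = SGA3b.torsionIdeal R A n)

include hJ in
theorem isMultType_quot (h : SGA3b.IsMultType R A) : SGA3b.IsMultType R (A ⧸ J) := by
  obtain ⟨s, hs, hf⟩ := h
  refine ⟨s, hs, fun f hfs => ?_⟩
  obtain ⟨R', _, _, hff, M, _, ⟨e⟩⟩ := hf f hfs
  refine ⟨R', inferInstance, inferInstance, hff, M ⧸ Hn M n, inferInstance, ?_⟩
  let _ : Algebra R R' :=
    ((algebraMap (Localization.Away f) R').comp (algebraMap R (Localization.Away f))).toAlgebra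
  have : IsScalarTower R (Localization.Away f) R' := IsScalarTower.of_algebraMap_eq (fun _ => rfl)
  let e' : R' ⊗[R] A ≃ₐc[R'] MonoidAlgebra R' M := (cbc R (Localization.Away f) R' A).symm.trans e
  obtain ⟨e''⟩ := exists_bialgEquiv R R' n J hJ e'
  exact ⟨(cbc R (Localization.Away f) R' (A ⧸ J)).trans e''⟩

include hJ in
theorem finite_quot (hft : Algebra.FiniteType R A) (h : SGA3b.IsMultType R A) (hn : 0 < n) :
    Module.Finite R (A ⧸ J) := by
  obtain ⟨s, hs, hf⟩ := h
  apply Module.Finite.of_localizationSpan' s hs (Rₚ := fun g => Localization.Away g.val)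
    (Mₚ := fun g => Localization.Away g.val ⊗[R] (A ⧸ J))
    (fun g => TensorProduct.mk R (Localization.Away g.val) (A ⧸ J) 1)
  intro g
  obtain ⟨R', _, _, hff, M, _, ⟨e⟩⟩ := hf g.val g.property
  let _ : Algebra R R' :=
    ((algebraMap (Localization.Away g.val) R').comp (algebraMap R (Localization.Away g.val))).toAlgebra
  have : IsScalarTower R (Localization.Away g.val) R' := IsScalarTower.of_algebraMap_eq (fun _ => rfl)
  let e' : R' ⊗[R] A ≃ₐc[R'] MonoidAlgebra R' M :=
    (cbc R (Localization.Away g.val) R' A).symm.trans e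
  obtain ⟨e''⟩ := exists_bialgEquiv R R' n J hJ e'
  let E : R' ⊗[Localization.Away g.val] (Localization.Away g.val ⊗[R] (A ⧸ J)) ≃ₐc[R']
      MonoidAlgebra R' (M ⧸ Hn M n) := (cbc R (Localization.Away g.val) R' (A ⧸ J)).trans e''
  have hfin : Module.Finite R' (R' ⊗[Localization.Away g.val]
      (Localization.Away g.val ⊗[R] (A ⧸ J))) := by
    rcases subsingleton_or_nontrivial R' with hR' | hR'
    · have : Subsingleton (R' ⊗[Localization.Away g.val] (Localization.Away g.val ⊗[R] (A ⧸ J))) :=
        Module.subsingleton R' _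
      infer_instance
    · have hft' : Algebra.FiniteType R' (MonoidAlgebra R' M) := by
        have h1 : Algebra.FiniteType R' (R' ⊗[R] A) := inferInstance
        exact Algebra.FiniteType.equiv h1 (e' : (R' ⊗[R] A) ≃ₐ[R'] MonoidAlgebra R' M)
      have hfg : Group.FG M := MonoidAlgebra.finiteType_iff_group_fg.mp hft'
      have : Finite (M ⧸ Hn M n) := finite_quot_of_fg M n hn
      have h2 : Module.Finite R' (MonoidAlgebra R' (M ⧸ Hn M n)) := finite_monoidAlgebra R' _
      exact Module.Finite.equiv (E.symm : MonoidAlgebra R' (M ⧸ Hn M n) ≃ₗ[R'] _)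
  exact Module.Finite.of_finite_tensorProduct_of_faithfullyFlat R'

end Groth.Agent.Lib.Helper96.TorsKer3
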