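import Mathlib
import Groth.Prelude.Def_NonAbH2
import Groth.Agent.Lib.Helper96.TorsPt
import Groth.Agent.Lib.Helper96.TorsAlg3

/-! A torsor (fpqc-locally trivial pseudo-torsor) under an affine group scheme over an algebraically
closed field has a rational point (helper96). -/

set_option autoImplicit false
universe u
open CategoryTheory AlgebraicGeometry MonoidalCategory CartesianMonoidalCategory MonObj GrpObj
open CategoryTheory.Limits
open scoped TensorProduct

namespace Groth.Agent.Lib.Helper96.TorsPt

theorem algMain {k : Type u} [Field k] [IsAlgClosed k] {K : Type u} [Field K] [Algebra k K]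
    [IsAlgClosed K] {A : Type u} [CommRing A] [HopfAlgebra k A]
    (g : WithConv (A →ₐ[k] K ⊗[k] K)) (hg : IsCocycle k K g) :
    ∃ h : WithConv (A →ₐ[k] K), push (i₁ k K) h * g = push (i₂ k K) h :=
  Groth.Agent.Lib.Helper96.TorsAlg.exists_trivialization g hg

theorem main (k : Type u) [Field k] [IsAlgClosed k]
    (G : Over (Spec (CommRingCat.of k))) [GrpObj G] [IsAffine G.left]
    (P : Over (Spec (CommRingCat.of k))) (a : AlgGrp.Action G P)
    (hP : NonAbH1.IsTorsorFor Scheme.fpqcPrecoverage a) :
    Nonempty (𝟙_ (Over (Spec (CommRingCat.of k))) ⟶ P) := by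
  obtain ⟨K, _, _, _, ⟨x⟩⟩ := exists_geom_pt P hP.2
  let R := CommRingCat.of k
  have hG : (hopfSpec R).essImage (Grp.mk G) := by
    rw [essImage_hopfSpec]
    infer_instance
  let H := hG.witness
  let e : (hopfSpec R).obj H ≅ Grp.mk G := hG.getIso
  let f : ((hopfSpec R).obj H).X ⟶ G := e.hom.hom.hom
  have hf : IsIso f := (Iso.isIso_hom ((Mon.forget _).mapIso ((Grp.forget₂Mon _).mapIso e)))
  have hfm : IsMonHom f := e.hom.hom.isMonHom_hom
  let a'' := actOfHom f a
  have ha'' : NonAbH1.IsPseudoTorsorSch a'' := isPseudoTorsorSch_actOfHom f a hP.1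
  let a' : AlgGrp.Action (pt k H.unop) P := a''
  have ha' : NonAbH1.IsPseudoTorsorSch a' := ha''
  obtain ⟨y, hy⟩ := exists_pt_of_alg (fun g hg => algMain g hg) P a' ha' x
  exact descend_pt P y hy

end Groth.Agent.Lib.Helper96.TorsPt
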