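import Groth.Agent.Lib.Helper96.PtsNilp
import Groth.Agent.Lib.Helper96.PolySeq
import Groth.Agent.Lib.Helper96.CartierG
import Groth.Prelude.Def_Lie2

/-! Unipotent groups in characteristic zero: the polynomial one-parameter family `n ↦ g^n`
through a rational point, its logarithm as an `ε`-derivation, and detection of invariants,
subcomodules and comodule maps by the Lie algebra (helper96). -/

set_option autoImplicit false

open TensorProduct Polynomial
universe u v w
namespace Groth.Agent.Lib.Helper96

namespace UnipLie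

section General

variable {k : Type u} [Field k] {A : Type v} [CommRing A] [HopfAlgebra k A]
variable {V : Type w} [AddCommGroup V] [Module k V]

/-- linear forms and left slices -/
theorem lin_lslM (ξ : A →ₗ[k] k) (φ : Module.Dual k V) (y : V ⊗[k] A) :
    ξ (lslM φ y) = φ (slice V ξ y) := by
  induction y using TensorProduct.induction_on with
  | zero => simp
  | add x y hx hy => simp only [map_add, hx, hy]
  | tmul x b => simp [lslM_tmul, mul_comm]

theorem slice_lTensor_assoc (c : HopfRep.Comod k A V) (ξ : A →ₗ[k] k) (y : V ⊗[k] A) :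
    (slice A ξ).lTensor V (TensorProduct.assoc k V A A (c.coact.rTensor A y)) =
      c.coact (slice V ξ y) := by
  induction y using TensorProduct.induction_on with
  | zero => simp
  | add x y hx hy => simp only [map_add, hx, hy]
  | tmul v a =>
    rw [LinearMap.rTensor_tmul, slice_tmul, map_smul]
    generalize c.coact v = x
    induction x using TensorProduct.induction_on with
    | zero => simp
    | add x y hx hy => simp only [add_tmul, map_add, hx, hy, smul_add]
    | tmul v' a' => simp [TensorProduct.tmul_smul]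

/-- the infinitesimal action commutes with matrix coefficients -/
theorem slice_comul_lslM (c : HopfRep.Comod k A V) (ξ : A →ₗ[k] k) (μ : Module.Dual k V) (v : V) :
    slice A ξ (CoalgebraStruct.comul (R := k) (lslM μ (c.coact v))) =
      lslM μ (c.coact (slice V ξ (c.coact v))) := by
  have hco := LinearMap.congr_fun c.coassoc v
  simp only [LinearMap.coe_comp, Function.comp_apply, LinearEquiv.coe_coe] at hco
  rw [← lslM_lTensor μ (CoalgebraStruct.comul (R := k) (A := A)) (c.coact v), ← hco,
    ← lslM_lTensor μ (slice A ξ), slice_lTensor_assoc]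

/-- a point is the counit after translation -/
theorem pt_eq_counit_act (g : A →ₐ[k] k) (a : A) :
    g a = CoalgebraStruct.counit (R := k)
      (@HopfRep.Comod.act k A _ _ _ A _ _ (HopfRep.Comod.regular k A) g a) := by
  have h4 := UnipPts.algHom_lslM g (CoalgebraStruct.counit (R := k) (A := A))
    (CoalgebraStruct.comul (R := k) a)
  rw [lslM_counit_comul] at h4
  exact h4

end General

section Poly

variable {k : Type u} [Field k] [CharZero k] {A : Type v} [CommRing A] [HopfAlgebra k A]

/-- for a unipotent group, `n ↦ g^n(a)` is a polynomial function of `n` -/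
theorem exists_poly (hU : HopfRep.IsUnipotent k A) (g : WithConv (A →ₐ[k] k)) (a : A) :
    ∃ p : k[X], ∀ n : ℕ, p.eval (n : k) = (g ^ n).ofConv a := by
  let cA := HopfRep.Comod.regular k A
  let W := orbit cA a
  have hW : IsSub cA W := isSub_orbit cA a
  have hfin : Module.Finite k W := finite_orbit cA a
  have ha : a ∈ W := mem_orbit_self cA a
  let cW := ComodSub.Comod.restr cA W hW
  obtain ⟨m, F, hmono, hF0, hFm, hFsub, hFtriv⟩ := hasTrivFlag_of_isUnipotent hU _ W cW rfl
  let ρ : WithConv (A →ₐ[k] k) →* Module.End k W := UnipPts.actRep cW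
  have hN1 : ρ g - 1 ∈ FlagNilp.Esh F 1 := by
    intro i v hv
    rw [LinearMap.sub_apply, Module.End.one_apply]
    have h1 := hFtriv i v hv
    rw [mem_range_rTensor_subtype_iff] at h1
    have h2 := h1 g.ofConv.toLinearMap
    rw [map_sub, slice_tmul] at h2
    have : (g.ofConv.toLinearMap) (1 : A) = 1 := map_one g.ofConv
    rw [this, one_smul] at h2
    exact h2
  have hNpow : ∀ j : ℕ, (ρ g - 1) ^ j ∈ FlagNilp.Esh F j := by
    intro j
    induction j with
    | zero => rw [pow_zero]; exact FlagNilp.one_mem_Esh_zero F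
    | succ j ih => rw [pow_succ]; exact FlagNilp.Esh_mul ih hN1
  have hNm : (ρ g - 1) ^ m = 0 := by
    apply LinearMap.ext
    intro v
    have := hNpow m 0 v (by rw [zero_add, hFm]; exact Submodule.mem_top)
    rw [hF0, Submodule.mem_bot] at this
    rw [this, LinearMap.zero_apply]
  obtain ⟨p, hp⟩ := PolySeq.exists_poly_of_nilpotent (ρ g - 1) m hNm
    ((CoalgebraStruct.counit (R := k) (A := A)) ∘ₗ W.subtype) ⟨a, ha⟩
  refine ⟨p, fun n => ?_⟩
  have e1 : (1 : Module.End k W) + (ρ g - 1) = ρ g := by abel
  rw [hp n, e1, ← map_pow, LinearMap.comp_apply, Submodule.subtype_apply]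
  have h2 := SSPts.act_hom (ComodSub.isComodHom_subtype cA W hW) (g ^ n).ofConv ⟨a, ha⟩
  rw [Submodule.subtype_apply, Submodule.subtype_apply] at h2
  show CoalgebraStruct.counit (R := k)
    ((@HopfRep.Comod.act k A _ _ _ W _ _ cW (g ^ n).ofConv ⟨a, ha⟩ : W) : A) = _
  rw [← h2]
  exact (pt_eq_counit_act (g ^ n).ofConv a).symm

/-- the polynomial interpolating `n ↦ g^n(a)` -/
noncomputable def P (hU : HopfRep.IsUnipotent k A) (g : WithConv (A →ₐ[k] k)) (a : A) : k[X] :=
  Classical.choose (exists_poly hU g a)

theorem eval_P (hU : HopfRep.IsUnipotent k A) (g : WithConv (A →ₐ[k] k)) (a : A) (n : ℕ) :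
    (P hU g a).eval (n : k) = (g ^ n).ofConv a :=
  Classical.choose_spec (exists_poly hU g a) n

theorem P_add (hU : HopfRep.IsUnipotent k A) (g : WithConv (A →ₐ[k] k)) (a b : A) :
    P hU g (a + b) = P hU g a + P hU g b := by
  apply PolySeq.poly_ext_nat
  intro n
  rw [eval_add, eval_P, eval_P, eval_P, map_add]

theorem P_smul (hU : HopfRep.IsUnipotent k A) (g : WithConv (A →ₐ[k] k)) (c : k) (a : A) :
    P hU g (c • a) = c • P hU g a := by
  apply PolySeq.poly_ext_nat
  intro n
  rw [eval_smul, eval_P, eval_P, map_smul]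

theorem P_mul (hU : HopfRep.IsUnipotent k A) (g : WithConv (A →ₐ[k] k)) (a b : A) :
    P hU g (a * b) = P hU g a * P hU g b := by
  apply PolySeq.poly_ext_nat
  intro n
  rw [eval_mul, eval_P, eval_P, eval_P, map_mul]

theorem P_zero (hU : HopfRep.IsUnipotent k A) (g : WithConv (A →ₐ[k] k)) :
    P hU g 0 = 0 := by
  apply PolySeq.poly_ext_nat
  intro n
  rw [eval_P, map_zero, eval_zero]

theorem eval_zero_P (hU : HopfRep.IsUnipotent k A) (g : WithConv (A →ₐ[k] k)) (a : A) :
    (P hU g a).eval 0 = CoalgebraStruct.counit (R := k) a := by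
  have := eval_P hU g a 0
  rw [Nat.cast_zero, pow_zero] at this
  rw [this]
  rfl

theorem eval_one_P (hU : HopfRep.IsUnipotent k A) (g : WithConv (A →ₐ[k] k)) (a : A) :
    (P hU g a).eval 1 = g.ofConv a := by
  have := eval_P hU g a 1
  rw [Nat.cast_one, pow_one] at this
  exact this

/-- the logarithm of a point, as a linear form -/
noncomputable def xiLin (hU : HopfRep.IsUnipotent k A) (g : WithConv (A →ₐ[k] k)) : A →ₗ[k] k where
  toFun a := (derivative (P hU g a)).eval 0
  map_add' a b := by rw [P_add, map_add, eval_add]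
  map_smul' c a := by rw [P_smul, derivative_smul, eval_smul]; rfl

theorem xiLin_apply (hU : HopfRep.IsUnipotent k A) (g : WithConv (A →ₐ[k] k)) (a : A) :
    xiLin hU g a = (derivative (P hU g a)).eval 0 := rfl

theorem xiLin_mul (hU : HopfRep.IsUnipotent k A) (g : WithConv (A →ₐ[k] k)) (a b : A) :
    xiLin hU g (a * b) = CoalgebraStruct.counit (R := k) a * xiLin hU g b +
      CoalgebraStruct.counit (R := k) b * xiLin hU g a := by
  rw [xiLin_apply, xiLin_apply, xiLin_apply, P_mul, derivative_mul, eval_add, eval_mul, eval_mul,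
    eval_zero_P, eval_zero_P]
  ring

/-- the shift identity `g^(n+m) = g^m * g^n` on polynomials -/
theorem P_comp_shift (hU : HopfRep.IsUnipotent k A) (g : WithConv (A →ₐ[k] k)) (a : A) (m : ℕ) :
    (P hU g a).comp (X + C (m : k)) =
      P hU g (lslM (g ^ m).ofConv.toLinearMap (CoalgebraStruct.comul (R := k) a)) := by
  apply PolySeq.poly_ext_nat
  intro n
  rw [eval_comp, eval_add, eval_X, eval_C, ← Nat.cast_add, eval_P, eval_P]
  rw [UnipPts.algHom_lslM]
  have h1 := pt_eq_counit_act (g ^ m).ofConv
    (slice A (g ^ n).ofConv.toLinearMap (CoalgebraStruct.comul (R := k) a))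
  rw [AlgHom.toLinearMap_apply, h1]
  have h2 := pt_eq_counit_act (g ^ (n + m)).ofConv a
  rw [h2]
  congr 1
  have h3 : g ^ (n + m) = g ^ m * g ^ n := by rw [← pow_add, add_comm]
  rw [h3]
  exact LinearMap.congr_fun (map_mul (UnipPts.actRep (HopfRep.Comod.regular k A)) (g ^ m) (g ^ n)) a

/-- the derivative of the interpolating polynomial -/
theorem derivative_P (hU : HopfRep.IsUnipotent k A) (g : WithConv (A →ₐ[k] k)) (a : A) :
    derivative (P hU g a) =
      P hU g (slice A (xiLin hU g) (CoalgebraStruct.comul (R := k) a)) := by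
  apply PolySeq.poly_ext_nat
  intro m
  have h1 : (derivative ((P hU g a).comp (X + C (m : k)))).eval 0 =
      (derivative (P hU g (lslM (g ^ m).ofConv.toLinearMap
        (CoalgebraStruct.comul (R := k) a)))).eval 0 := by
    rw [P_comp_shift]
  rw [derivative_comp, derivative_add, derivative_X, derivative_C, add_zero, one_mul, eval_comp,
    eval_add, eval_X, eval_C, zero_add, ← xiLin_apply, lin_lslM] at h1
  rw [h1, eval_P]
  rfl

end Poly

end UnipLie

end Groth.Agent.Lib.Helper96
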