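import Groth.Agent.Lib.Helper96.SSPts
import Groth.Agent.Lib.Helper96.Kolchin
import Groth.Agent.S7987

/-! Unipotence and points: a smooth group over an algebraically closed field is unipotent iff
all its rational points act unipotently (helper96). -/

set_option autoImplicit false

open TensorProduct
universe u v w
namespace Groth.Agent.Lib.Helper96

namespace UnipPts

variable {k : Type u} [Field k] {A : Type v} [CommRing A] [HopfAlgebra k A]
variable {V : Type w} [AddCommGroup V] [Module k V]

theorem act_eq_slice (c : HopfRep.Comod k A V) (g : A →ₐ[k] k) (v : V) :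
    @HopfRep.Comod.act k A _ _ _ V _ _ c g v = slice V g.toLinearMap (c.coact v) := rfl

/-- the action of the group of rational points on a comodule -/
noncomputable def actRep (c : HopfRep.Comod k A V) : Representation k (WithConv (A →ₐ[k] k)) V where
  toFun g := @HopfRep.Comod.act k A _ _ _ V _ _ c g.ofConv
  map_one' := by
    apply LinearMap.ext
    intro v
    rw [act_eq_slice]
    exact slice_counit_coact c v
  map_mul' g h := by
    apply LinearMap.ext
    intro v
    rw [Module.End.mul_apply, act_eq_slice, act_eq_slice, act_eq_slice, slice_coact_slice]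
    rfl

theorem actRep_apply (c : HopfRep.Comod k A V) (g : WithConv (A →ₐ[k] k)) :
    actRep c g = @HopfRep.Comod.act k A _ _ _ V _ _ c g.ofConv := rfl

theorem algHom_lslM (g : A →ₐ[k] k) (φ : Module.Dual k V) (y : V ⊗[k] A) :
    g (lslM φ y) = φ (slice V g.toLinearMap y) := by
  induction y using TensorProduct.induction_on with
  | zero => simp
  | add x y hx hy => simp only [map_add, hx, hy]
  | tmul x b => simp [lslM_tmul, mul_comm]

/-- if all rational points act unipotently, the group is unipotent (smooth group over an
algebraically closed field) -/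
theorem isUnipotent_of_points [IsAlgClosed k] [Algebra.FiniteType k A] [IsReduced A]
    (h : ∀ (g : A →ₐ[k] k) (V : Type v) [AddCommGroup V] [Module k V] [HopfRep.Comod k A V],
      Module.Finite k V → IsNilpotent (HopfRep.Comod.act k A V g - LinearMap.id)) :
    HopfRep.IsUnipotent k A := by
  intro V _ _ c hfin hnt
  obtain ⟨v, hv0, hfix⟩ := kolchin (actRep c) (fun g => @h g.ofConv V _ _ c hfin)
  have hv : c.coact v = v ⊗ₜ[k] (1 : A) := by
    rw [← sub_eq_zero]
    apply eq_zero_of_lslM_eq_zero
    intro φ
    apply SSPts.eq_zero_of_forall_point_eq_zero (k := k)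
    intro g
    rw [algHom_lslM, map_sub, slice_tmul, ← act_eq_slice]
    have h1 : @HopfRep.Comod.act k A _ _ _ V _ _ c g v = v := hfix (WithConv.toConv g)
    have h2 : g.toLinearMap (1 : A) = 1 := map_one g
    rw [h1, h2, one_smul, sub_self, map_zero]
  intro hbot
  apply hv0
  have hmem : v ∈ @HopfRep.fixedPts k A _ _ _ V _ _ c := hv
  rw [hbot] at hmem
  exact (Submodule.mem_bot k).mp hmem

end UnipPts

end Groth.Agent.Lib.Helper96
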